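import Mathlib
import Cfsg.Agent.Classical.SymplecticSimple

/-!
Short root elements of the symplectic group and the orbits of subspaces, counted against the vectors.
-/

set_option autoImplicit false
set_option linter.style.haveILetI false
set_option linter.unusedSectionVars false

namespace CfsgLib.MinIdxPSp

open Matrix CfsgLib.Symp
open scoped Pointwise Classical

variable {m : ℕ} {F : Type*} [Field F] [Finite F]

local notation "V" => Fin m ⊕ Fin m → F
local notation "Sp" => Matrix.symplecticGroup (Fin m) F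

theorem form_zero_swap {u v : V} (h : form u v = 0) : form v u = 0 := by rw [form_swap, h, neg_zero]

/-- The short root element `x ↦ x + ⟨x, a⟩ b + ⟨x, b⟩ a`. -/
def sh (b a : V) : Sp := tv (b + a) 1 * tv a (-1) * tv b (-1)

theorem sh_smul {b a : V} (h : form b a = 0) (x : V) : sh b a • x = x + form x a • b + form x b • a := by
  have h' := form_zero_swap h
  rw [sh, mul_smul, mul_smul, tv_smul, tv_smul, tv_smul]
  simp only [form_add_left, form_smul_left, form_add_right, h, h', form_self, mul_zero, add_zero]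
  module

theorem sh_mul {b a a' : V} (h : form b a = 0) (h' : form b a' = 0) :
    sh b a * sh b a' = tv b (form a' a) * sh b (a + a') := by
  refine symp_ext fun x => ?_
  have hs : form b (a + a') = 0 := by rw [form_add_right, h, h', add_zero]
  rw [mul_smul, sh_smul h, sh_smul h', mul_smul, sh_smul hs, tv_smul]
  simp only [form_add_left, form_smul_left, form_add_right, h, form_self, form_zero_swap h', form_zero_swap h,
    mul_zero, add_zero]
  module

theorem sh_zero (b : V) : sh b 0 = 1 :=
  symp_ext fun x => by rw [sh_smul (form_zero_right b), one_smul, form_zero_right, zero_smul, smul_zero, add_zero,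
    add_zero]

theorem sh_conj {b a : V} (g : Sp) (h : form b a = 0) : g * sh b a * g⁻¹ = sh (g • b) (g • a) := by
  simp only [sh, ← tv_conj, smul_add]
  rw [← smul_add, ← tv_conj]
  group

theorem sh_tv_comm {b a : V} (h : form b a = 0) (c : F) : Commute (tv b c) (sh b a) := by
  have hfix : sh b a • b = b := by
    rw [sh_smul h, h, form_self, zero_smul, zero_smul, add_zero, add_zero]
  have := tv_conj (sh b a) b c
  rw [hfix] at this
  exact (mul_inv_eq_iff_eq_mul.1 this).symm

theorem sh_smul_left (b a : V) (t : F) (h : form b a = 0) : sh (t • b) a = sh b (t • a) := by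
  refine symp_ext fun x => ?_
  rw [sh_smul (by rw [form_smul_left, h, mul_zero]), sh_smul (by rw [form_smul_right, h, mul_zero]), form_smul_right,
    form_smul_right]
  module

theorem sh_symm {b a : V} (h : form b a = 0) : sh b a = sh a b := by
  refine symp_ext fun x => ?_
  rw [sh_smul h, sh_smul (form_zero_swap h)]
  module

/-- A transvection with centre in the span of two orthogonal vectors. -/
theorem tv_expand {a d : V} (h : form d a = 0) (σ c : F) :
    tv (a + σ • d) c = tv a c * sh d ((c * σ) • a) * tv d (c * σ ^ 2) := by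
  refine symp_ext fun x => ?_
  have h1 : form d ((c * σ) • a) = 0 := by rw [form_smul_right, h, mul_zero]
  rw [mul_smul, mul_smul, tv_smul, tv_smul, tv_smul, sh_smul h1]
  simp only [form_add_left, form_add_right, form_smul_left, form_smul_right, h, form_self, form_zero_swap h,
    mul_zero, add_zero]
  module

/-! ### Counting -/

/-- An orbit of subsets is counted by a set of points on which the group is transitive. -/
theorem orbit_count {α : Type*} [Finite α] {G : Type*} [Group G] [MulAction G α] (L : Subgroup G) (R T : Set α)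
    (p₀ : α) (hT : ∀ g ∈ L, ∀ v ∈ T, g • v ∈ T) (htr : ∀ v ∈ T, ∃ g ∈ L, g • p₀ = v) :
    T.ncard * {S ∈ MulAction.orbit L R | p₀ ∈ S}.ncard ≤ (MulAction.orbit L R).ncard * (R ∩ T).ncard := by
  haveI := Fintype.ofFinite α
  set O := MulAction.orbit L R with hO
  have key := Finset.sum_card_bipartiteAbove_eq_sum_card_bipartiteBelow (s := O.toFinset) (t := T.toFinset)
    (fun (S : Set α) (v : α) => v ∈ S)
  have h1 : ∀ S ∈ O.toFinset, (T.toFinset.bipartiteAbove (fun (S : Set α) (v : α) => v ∈ S) S).card =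
      (R ∩ T).ncard := by
    intro S hS
    obtain ⟨g, rfl⟩ := Set.mem_toFinset.1 hS
    rw [← Set.ncard_coe_finset, ← Set.ncard_image_of_injective (R ∩ T) (MulAction.injective (g : G))]
    congr 1
    ext v
    simp only [Finset.bipartiteAbove, Finset.coe_filter, Set.mem_toFinset, Set.mem_ofPred_eq, Set.mem_image,
      Set.mem_inter_iff]
    constructor
    · rintro ⟨hvT, hv⟩
      obtain ⟨w, hw, rfl⟩ := hv
      refine ⟨w, ⟨hw, ?_⟩, rfl⟩
      have := hT _ (inv_mem g.2) _ hvT
      rwa [show ((g : G))⁻¹ • (g • w) = w from inv_smul_smul (g : G) w] at this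
    · rintro ⟨w, ⟨hw, hwT⟩, rfl⟩
      exact ⟨hT _ g.2 _ hwT, w, hw, rfl⟩
  have h2 : ∀ v ∈ T.toFinset, {S ∈ O | p₀ ∈ S}.ncard ≤
      (O.toFinset.bipartiteBelow (fun (S : Set α) (v : α) => v ∈ S) v).card := by
    intro v hv
    obtain ⟨g, hg, rfl⟩ := htr v (Set.mem_toFinset.1 hv)
    rw [← Set.ncard_coe_finset]
    refine Set.ncard_le_ncard_of_injOn (fun S => (⟨g, hg⟩ : L) • S) ?_ (MulAction.injective _).injOn
      (Set.toFinite _)
    rintro S ⟨hS, hp⟩
    simp only [Finset.bipartiteBelow, Finset.coe_filter, Set.mem_toFinset]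
    exact ⟨(MulAction.mapsTo_smul_orbit (⟨g, hg⟩ : L) R) hS, ⟨p₀, hp, rfl⟩⟩
  calc T.ncard * {S ∈ O | p₀ ∈ S}.ncard = ∑ _v ∈ T.toFinset, {S ∈ O | p₀ ∈ S}.ncard := by
        rw [Finset.sum_const, smul_eq_mul, ← Set.ncard_eq_toFinset_card']
    _ ≤ _ := Finset.sum_le_sum h2
    _ = _ := key.symm
    _ = _ := by rw [Finset.sum_congr rfl h1, Finset.sum_const, smul_eq_mul, ← Set.ncard_eq_toFinset_card']

/-! ### Subspaces -/

/-- The orthogonal space. -/
def perpS (S : Submodule F V) : Submodule F V where
  carrier := {v | ∀ s ∈ S, form s v = 0}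
  zero_mem' s _ := form_zero_right s
  add_mem' := fun {a b} ha hb s hs => by rw [form_add_right, ha s hs, hb s hs, add_zero]
  smul_mem' := fun c a ha s hs => by rw [form_smul_right, ha s hs, mul_zero]

theorem mem_perpS {S : Submodule F V} {v : V} : v ∈ perpS S ↔ ∀ s ∈ S, form s v = 0 := Iff.rfl

/-- The form is non-degenerate on the subspace. -/
def Nondeg (S : Submodule F V) : Prop := ∀ v ∈ S, v ≠ 0 → ∃ w ∈ S, form v w ≠ 0

theorem card_le_perp (S : Submodule F V) : Nat.card V ≤ Nat.card (perpS S) * Nat.card S := by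
  let φ : V →ₗ[F] Module.Dual F S :=
    { toFun := fun v =>
        { toFun := fun s => form (s : V) v
          map_add' := fun s t => form_add_left _ _ _
          map_smul' := fun c s => form_smul_left _ _ _ }
      map_add' := fun v w => LinearMap.ext fun s => by simp [form_add_right]
      map_smul' := fun c v => LinearMap.ext fun s => by simp [form_smul_right] }
  have hk : φ.ker = perpS S := by
    ext v
    exact ⟨fun h s hs => LinearMap.congr_fun h ⟨s, hs⟩, fun h => LinearMap.ext fun s => h s s.2⟩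
  rw [Submodule.card_eq_card_quotient_mul_card φ.ker, hk]
  refine Nat.mul_le_mul_left _ ?_
  haveI : Finite (Module.Dual F S) := Finite.of_injective _ DFunLike.coe_injective
  refine le_trans (Nat.card_le_card_of_injective (fun x => φ.quotKerEquivRange (Submodule.quotEquivOfEq _ _ hk.symm x) |>.1)
    (fun x y h => (Submodule.quotEquivOfEq _ _ hk.symm).injective (φ.quotKerEquivRange.injective (Subtype.ext h)))) ?_
  rw [(Module.natCard_eq_pow_finrank : Nat.card (Module.Dual F S) = Nat.card F ^ _),
    (Module.natCard_eq_pow_finrank : Nat.card S = Nat.card F ^ _), Subspace.dual_finrank_eq]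

theorem eq_zero_of_mem_perp {S : Submodule F V} (hS : Nondeg S) {v : V} (hv : v ∈ S) (hv' : v ∈ perpS S) : v = 0 := by
  by_contra h
  obtain ⟨w, hw, hne⟩ := hS v hv h
  exact hne (by rw [form_swap, hv' w hw, neg_zero])

theorem sup_perp {S : Submodule F V} (hS : Nondeg S) : ∀ x : V, ∃ s ∈ S, x - s ∈ perpS S := by
  have hinj : Function.Injective fun p : S × perpS S => (p.1 : V) + p.2 := by
    rintro ⟨s, t⟩ ⟨s', t'⟩ h
    have e : (s : V) - s' = t' - t := by rw [sub_eq_sub_iff_add_eq_add]; exact h.trans (add_comm _ _)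
    have h0 := eq_zero_of_mem_perp hS (S.sub_mem s.2 s'.2) (e ▸ (perpS S).sub_mem t'.2 t.2)
    rw [h0, eq_comm, sub_eq_zero] at e
    exact Prod.ext (Subtype.ext (sub_eq_zero.1 h0)) (Subtype.ext e.symm)
  have hc : Nat.card V ≤ Nat.card (S × perpS S) := by
    rw [Nat.card_prod, mul_comm]; exact card_le_perp S
  have hsurj := (Nat.bijective_iff_injective_and_card _).2
    ⟨hinj, le_antisymm (Nat.card_le_card_of_injective _ hinj) hc⟩
  intro x
  obtain ⟨⟨s, t⟩, rfl⟩ := hsurj.2 x
  exact ⟨s, s.2, by simp⟩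

theorem nondeg_perp {S : Submodule F V} (hS : Nondeg S) : Nondeg (perpS S) := fun v hv hv0 => by
  by_contra h
  push Not at h
  refine hv0 (eq_zero_of_form_eq_zero fun u => ?_)
  obtain ⟨s, hs, hu⟩ := sup_perp hS u
  rw [← add_sub_cancel s u, form_add_left, hv s hs, form_swap, h _ hu, neg_zero, add_zero]

theorem perp_perp {S : Submodule F V} (hS : Nondeg S) {x : V} (hx : x ∈ perpS (perpS S)) : x ∈ S := by
  obtain ⟨s, hs, hu⟩ := sup_perp hS x
  have h' : x - s ∈ perpS (perpS S) := (perpS (perpS S)).sub_mem hx fun t ht => form_zero_swap (ht s hs)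
  rw [← sub_add_cancel x s, eq_zero_of_mem_perp (nondeg_perp hS) hu h', zero_add]
  exact hs

theorem smul_coe_eq {S S' : Submodule F V} {g : Sp} (h : g • (S : Set V) = S') {v : V} (hv : v ∈ S) :
    g • v ∈ S' := by
  rw [← SetLike.mem_coe, ← h]; exact Set.smul_mem_smul_set hv

/-- The orbit of a totally isotropic subspace is at least as large as the set of points. -/
theorem ti_orbit (W : Submodule F V) (hW : Nondeg W) (R : Submodule F V) (hR0 : R ≠ ⊥) (hRW : R ≤ W)
    (hR : ∀ u ∈ R, ∀ v ∈ R, form u v = 0) :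
    Nat.card W - 1 ≤ (Nat.card F - 1) * (MulAction.orbit (tvGroup W) (R : Set V)).ncard := by
  induction hn : Nat.card W using Nat.strong_induction_on generalizing W R with
  | _ n ih =>
  subst hn
  obtain ⟨p, hpR, hp⟩ := Submodule.exists_mem_ne_zero_of_ne_bot hR0
  obtain ⟨w, hwW, hw⟩ := hW p (hRW hpR) hp
  set p' := (form p w)⁻¹ • w with hp'
  have hp'W : p' ∈ W := W.smul_mem _ hwW
  have hpp' : form p p' = 1 := by rw [hp', form_smul_right, inv_mul_cancel₀ hw]
  set P : Submodule F V := Submodule.span F {p, p'}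
  set W' := W ⊓ perpS P
  set R' := R ⊓ perpS P
  have hpP : p ∈ P := Submodule.subset_span (Set.mem_insert _ _)
  have hp'P : p' ∈ P := Submodule.subset_span (Set.mem_insert_of_mem _ rfl)
  have hPperp : ∀ v : V, form p v = 0 → form p' v = 0 → v ∈ perpS P := fun v h1 h2 s hs => by
    induction hs using Submodule.span_induction with
    | mem x hx => rcases hx with rfl | hx; exacts [h1, hx ▸ h2]
    | zero => exact form_zero_left v
    | add x y _ _ hx hy => rw [form_add_left, hx, hy, add_zero]
    | smul c x _ hx => rw [form_smul_left, hx, mul_zero]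
  have hp'p : form p' p = -1 := by rw [form_swap, hpp']
  -- the projection
  have hproj : ∀ v : V, v - (form v p' • p - form v p • p') ∈ perpS P := fun v => by
    refine hPperp _ ?_ ?_ <;>
      simp only [form_sub_right, form_smul_right, form_self, hpp', hp'p, form_swap v p, form_swap v p'] <;> ring
  have hW' : Nondeg W' := fun v hv hv0 => by
    obtain ⟨x, hxW, hx⟩ := hW v hv.1 hv0
    refine ⟨x - (form x p' • p - form x p • p'),
      ⟨W.sub_mem hxW (W.sub_mem (W.smul_mem _ (hRW hpR)) (W.smul_mem _ hp'W)), hproj x⟩, ?_⟩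
    rwa [form_sub_right, form_sub_right, form_smul_right (v := p), form_smul_right (v := p'),
      form_zero_swap (hv.2 p hpP), form_zero_swap (hv.2 p' hp'P), mul_zero, mul_zero, sub_zero, sub_zero]
  have hRdec : ∀ v ∈ R, ∃ r ∈ R', v = r + form v p' • p := fun v hv => by
    refine ⟨v - form v p' • p, ⟨R.sub_mem hv (R.smul_mem _ hpR), ?_⟩, (sub_add_cancel _ _).symm⟩
    have h := hproj v
    rwa [hR v hv p hpR, zero_smul, sub_zero] at h
  set c := {S ∈ MulAction.orbit (tvGroup W) (R : Set V) | p ∈ S}.ncard with hc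
  have hcount := orbit_count (tvGroup W) (R : Set V) ((W : Set V) \ {0}) p
    (fun g hg v hv => ⟨by
      have := W.add_mem (tvGroup_sub_mem hg v) hv.1
      rwa [sub_add_cancel] at this, fun e => hv.2 ((smul_eq_zero_iff_eq g).1 e)⟩)
    (fun v hv => exists_tvGroup_smul (hRW hpR) hv.1 ⟨w, hwW, hw⟩ (hW v hv.1 hv.2))
  rw [← hc] at hcount
  have hcR : Nat.card R - 1 ≤ (Nat.card F - 1) * c := by
    by_cases hR' : R' = ⊥
    · have h1 : Nat.card R ≤ Nat.card F :=
        Nat.card_le_card_of_injective (fun v : R => form (v : V) p') fun v v' e => Subtype.ext <| by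
          obtain ⟨r, hr, e1⟩ := hRdec v v.2
          obtain ⟨r', hr', e2⟩ := hRdec v' v'.2
          rw [hR', Submodule.mem_bot] at hr hr'
          rw [e1, e2, hr, hr']
          exact congrArg (fun t : F => (0 : V) + t • p) e
      have h2 : 1 ≤ c := Set.ncard_pos (Set.toFinite _) |>.2 ⟨_, MulAction.mem_orbit_self _, hpR⟩
      calc Nat.card R - 1 ≤ (Nat.card F - 1) * 1 := by omega
        _ ≤ _ := Nat.mul_le_mul_left _ h2
    · have hlt : Nat.card W' < Nat.card W := by
        rw [← SetLike.coe_sort_coe, Nat.card_coe_set_eq, ← SetLike.coe_sort_coe W, Nat.card_coe_set_eq]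
        refine Set.ncard_lt_ncard ⟨fun v hv => hv.1, fun h => ?_⟩ (Set.toFinite _)
        have := (h (hRW hpR)).2 p' hp'P
        rw [hp'p] at this
        simp at this
      have hR'W : R' ≤ W' := inf_le_inf_right _ hRW
      have h1 := ih _ hlt W' hW' R' hR' hR'W (fun u hu v hv => hR u hu.1 v hv.1) rfl
      have hfix : ∀ g ∈ tvGroup W', g • p = p := fun g hg =>
        tvGroup_fix hg fun v hv => hv.2 p hpP
      have hadd : ∀ g ∈ tvGroup W', g • (R : Set V) = {x | ∃ r ∈ g • (R' : Set V), ∃ t : F, x = r + t • p} := by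
        intro g hg
        ext x
        constructor
        · rintro ⟨v, hv, rfl⟩
          obtain ⟨r, hr, e⟩ := hRdec v hv
          refine ⟨g • r, Set.smul_mem_smul_set hr, form v p', ?_⟩
          change g • v = _
          conv_lhs => rw [e, smul_add, smul_comm g, hfix g hg]
        · rintro ⟨-, ⟨r, hr, rfl⟩, t, rfl⟩
          refine ⟨r + t • p, R.add_mem hr.1 (R.smul_mem _ hpR), ?_⟩
          change g • (r + t • p) = _
          rw [smul_add, smul_comm g t p, hfix g hg]
          rfl
      have h2 : (MulAction.orbit (tvGroup W') (R' : Set V)).ncard ≤ c := by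
        refine Set.ncard_le_ncard_of_injOn (fun S => {x | ∃ r ∈ S, ∃ t : F, x = r + t • p}) ?_ ?_ (Set.toFinite _)
        · rintro _ ⟨⟨g, hg⟩, rfl⟩
          refine ⟨⟨⟨g, tvGroup_mono inf_le_left hg⟩, ?_⟩, ?_⟩
          · exact hadd g hg
          · have h0 : (0 : V) ∈ (⟨g, hg⟩ : tvGroup W') • (R' : Set V) := ⟨0, R'.zero_mem, smul_zero g⟩
            exact ⟨0, h0, 1, by simp⟩
        · have hsub : ∀ g ∈ tvGroup W', ∀ r ∈ R', g • r ∈ W' := fun g hg r hr => by
            have := W'.add_mem (tvGroup_sub_mem hg r) (hR'W hr)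
            rwa [sub_add_cancel] at this
          have hrec : ∀ S ∈ MulAction.orbit (tvGroup W') (R' : Set V),
              {x | ∃ r ∈ S, ∃ t : F, x = r + t • p} ∩ W' = S := by
            rintro _ ⟨⟨g, hg⟩, rfl⟩
            ext x
            constructor
            · rintro ⟨⟨-, ⟨r, hr, rfl⟩, t, rfl⟩, hx⟩
              refine ⟨r, hr, ?_⟩
              have h3 := (W'.sub_mem hx (hsub g hg r hr)).2 p' hp'P
              change form p' ((g • r + t • p) - g • r) = 0 at h3
              rw [add_sub_cancel_left, form_smul_right, hp'p] at h3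
              change g • r = g • r + t • p
              rw [show t = 0 by linear_combination -h3, zero_smul, add_zero]
            · rintro ⟨r, hr, rfl⟩
              exact ⟨⟨_, ⟨r, hr, rfl⟩, 0, by simp⟩, hsub g hg r hr⟩
          intro S hS S' hS' e
          rw [← hrec S hS, ← hrec S' hS']
          exact congrArg (· ∩ (W' : Set V)) e
      have h3 : Nat.card R ≤ Nat.card W' := by
        -- `R'` is a proper subspace of `W'`
        have hne : R' < W' := lt_of_le_of_ne hR'W fun e => by
          obtain ⟨r, hr, hr0⟩ := Submodule.exists_mem_ne_zero_of_ne_bot hR'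
          obtain ⟨x, hx, hne⟩ := hW' r (hR'W hr) hr0
          exact hne (hR r hr.1 x (e ▸ hx : x ∈ R').1)
        have hfr := Submodule.finrank_lt_finrank_of_lt hne
        calc Nat.card R ≤ Nat.card (R' × F) := by
              refine Nat.card_le_card_of_injective (fun v : R => (⟨_, (hRdec v v.2).choose_spec.1⟩, form (v : V) p'))
                fun v v' e => Subtype.ext ?_
              simp only [Prod.mk.injEq, Subtype.mk.injEq] at e
              rw [(hRdec v v.2).choose_spec.2, (hRdec v' v'.2).choose_spec.2, e.1, e.2]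
          _ ≤ Nat.card W' := by
              rw [Nat.card_prod, (Module.natCard_eq_pow_finrank : Nat.card R' = Nat.card F ^ _),
                (Module.natCard_eq_pow_finrank : Nat.card W' = Nat.card F ^ _), ← pow_succ]
              exact Nat.pow_le_pow_right Nat.card_pos hfr
      calc Nat.card R - 1 ≤ Nat.card W' - 1 := by omega
        _ ≤ _ := h1
        _ ≤ _ := Nat.mul_le_mul_left _ h2
  have hRcard : ((R : Set V) ∩ ((W : Set V) \ {0})).ncard = Nat.card R - 1 := by
    rw [show (R : Set V) ∩ ((W : Set V) \ {0}) = (R : Set V) \ {0} by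
      ext v; simp only [Set.mem_inter_iff, Set.mem_sdiff]; exact ⟨fun h => ⟨h.1, h.2.2⟩, fun h => ⟨h.1, hRW h.1, h.2⟩⟩,
      Set.ncard_sdiff_singleton_of_mem R.zero_mem, ← Nat.card_coe_set_eq]
    rfl
  have hWcard : ((W : Set V) \ {0}).ncard = Nat.card W - 1 := by
    rw [Set.ncard_sdiff_singleton_of_mem W.zero_mem, ← Nat.card_coe_set_eq]; rfl
  rw [hRcard, hWcard] at hcount
  refine Nat.le_of_mul_le_mul_right ?_ (show 0 < c from Set.ncard_pos (Set.toFinite _) |>.2
    ⟨_, MulAction.mem_orbit_self _, hpR⟩)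
  calc (Nat.card W - 1) * c ≤ _ := hcount
    _ ≤ _ * ((Nat.card F - 1) * c) := Nat.mul_le_mul_left _ hcR
    _ = _ := by ring

theorem card_le_mul_index {H : Subgroup Sp} (R : Set V) (hfix : ∀ g ∈ H, g • R = R) :
    (MulAction.orbit Sp R).ncard ≤ H.index := by
  haveI : Finite Sp := Subtype.finite
  rw [← MulAction.index_stabilizer]
  exact Nat.le_of_dvd (Nat.pos_of_ne_zero Subgroup.index_ne_zero_of_finite) (Subgroup.index_dvd_of_le hfix)

/-- A subgroup preserving a totally isotropic subspace. -/
theorem index_of_ti {H : Subgroup Sp} (R : Submodule F V) (hR0 : R ≠ ⊥)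
    (hR : ∀ u ∈ R, ∀ v ∈ R, form u v = 0) (hfix : ∀ g ∈ H, g • (R : Set V) = R) :
    Nat.card V - 1 ≤ (Nat.card F - 1) * H.index := by
  have hW : Nondeg (⊤ : Submodule F V) := fun v _ hv => by
    obtain ⟨w, hw⟩ := exists_form_ne_zero hv; exact ⟨w, trivial, hw⟩
  have h := ti_orbit ⊤ hW R hR0 le_top hR
  rw [Nat.card_congr (Equiv.subtypeUnivEquiv fun v => Submodule.mem_top)] at h
  refine le_trans h (Nat.mul_le_mul_left _ (le_trans (Set.ncard_le_ncard ?_ (Set.toFinite _))
    (card_le_mul_index _ hfix)))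
  rintro _ ⟨g, rfl⟩; exact ⟨(g : Sp), rfl⟩

set_option synthInstance.maxHeartbeats 200000 in
/-- The orbit of a non-degenerate subspace. -/
theorem nondeg_orbit {S : Submodule F V} (hS : Nondeg S) (hS0 : S ≠ ⊥) :
    (Nat.card V - 1) * Nat.card (perpS S) ≤ (MulAction.orbit Sp (S : Set V)).ncard * (Nat.card S - 1) := by
  haveI : Finite Sp := Subtype.finite
  obtain ⟨p, hpS, hp⟩ := Submodule.exists_mem_ne_zero_of_ne_bot hS0
  obtain ⟨w, hwS, hw⟩ := hS p hpS hp
  set p' := (form p w)⁻¹ • w with hp'
  have hp'S : p' ∈ S := S.smul_mem _ hwS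
  have hpp' : form p p' = 1 := by rw [hp', form_smul_right, inv_mul_cancel₀ hw]
  have hcount := orbit_count (⊤ : Subgroup Sp) (S : Set V) ({0}ᶜ : Set V) p
    (fun g _ v hv e => hv ((smul_eq_zero_iff_eq g).1 e))
    (fun v hv => by obtain ⟨g, hg⟩ := exists_smul_eq_of_ne_zero hp hv; exact ⟨g, trivial, hg⟩)
  rw [show ((S : Set V) ∩ {0}ᶜ) = (S : Set V) \ {0} from rfl, Set.ncard_sdiff_singleton_of_mem S.zero_mem,
    Set.ncard_compl, Set.ncard_singleton] at hcount
  have horb : MulAction.orbit (⊤ : Subgroup Sp) (S : Set V) = MulAction.orbit Sp (S : Set V) := by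
    ext T; constructor
    · rintro ⟨g, rfl⟩; exact ⟨(g : Sp), rfl⟩
    · rintro ⟨g, rfl⟩; exact ⟨⟨g, trivial⟩, rfl⟩
  rw [horb, show (S : Set V).ncard = Nat.card S from (Nat.card_coe_set_eq _).symm] at hcount
  refine le_trans (Nat.mul_le_mul_left _ ?_) hcount
  rw [← SetLike.coe_sort_coe, Nat.card_coe_set_eq]
  have hsh : ∀ t ∈ perpS S, form p t = 0 := fun t ht => ht p hpS
  refine Set.ncard_le_ncard_of_injOn (fun t => sh p t • (S : Set V)) ?_ ?_ (Set.toFinite _)
  · intro t ht
    refine ⟨⟨sh p t, rfl⟩, p, hpS, ?_⟩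
    change sh p t • p = p
    rw [sh_smul (hsh t ht), hsh t ht, form_self, zero_smul, zero_smul, add_zero, add_zero]
  · intro t ht t' ht' e
    simp only at e
    have hmem : sh p t • p' ∈ sh p t' • (S : Set V) := by rw [← e]; exact Set.smul_mem_smul_set hp'S
    obtain ⟨x, hx, hxe⟩ := hmem
    change sh p t' • x = sh p t • p' at hxe
    have hp'p : form p' p = -1 := by rw [form_swap, hpp']
    rw [sh_smul (hsh t ht), sh_smul (hsh t' ht'), ht p' hp'S, ht' x hx, hp'p, zero_smul, add_zero,
      add_zero] at hxe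
    have e1 : x - p' = (-1 : F) • t - form x p • t' := by
      rw [sub_eq_sub_iff_add_eq_add, add_comm _ p']; exact hxe
    have hz := eq_zero_of_mem_perp hS (S.sub_mem hx hp'S)
      (e1 ▸ (perpS S).sub_mem ((perpS S).smul_mem _ ht) ((perpS S).smul_mem _ ht'))
    rw [hz, eq_comm, sub_eq_zero, sub_eq_zero.1 hz, hp'p] at e1
    exact smul_right_injective _ (neg_ne_zero.2 one_ne_zero) e1

/-- A subgroup preserving a proper non-degenerate subspace. -/
theorem index_of_nondeg {H : Subgroup Sp} (S : Submodule F V) (hS : Nondeg S) (hS0 : S ≠ ⊥) (hS1 : S ≠ ⊤)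
    (hfix : ∀ g ∈ H, g • (S : Set V) = S) :
    Nat.card V - 1 ≤ (Nat.card F - 1) * H.index := by
  have main : ∀ T : Submodule F V, Nondeg T → T ≠ ⊥ → Nat.card T ≤ Nat.card (perpS T) →
      (∀ g ∈ H, g • (T : Set V) = T) → Nat.card V - 1 ≤ (Nat.card F - 1) * H.index := by
    intro T hT hT0 hle hTfix
    have h := nondeg_orbit hT hT0
    have h1 := card_le_mul_index (T : Set V) hTfix
    have hF : 1 ≤ Nat.card F - 1 := by have := Finite.one_lt_card (α := F); omega
    have hpos : 0 < Nat.card (perpS T) := Nat.card_pos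
    refine le_trans (Nat.le_of_mul_le_mul_right ?_ hpos) (Nat.le_mul_of_pos_left _ hF)
    calc (Nat.card V - 1) * Nat.card (perpS T) ≤ _ := h
      _ ≤ H.index * Nat.card (perpS T) := Nat.mul_le_mul h1 (by omega)
  rcases le_total (Nat.card S) (Nat.card (perpS S)) with h | h
  · exact main S hS hS0 h hfix
  refine main (perpS S) (nondeg_perp hS) (fun e => hS1 (eq_top_iff.2 fun x _ => perp_perp hS ?_))
    (le_trans h ?_) fun g hg => ?_
  · rw [e]; intro t ht; rw [(Submodule.mem_bot F).1 ht, form_zero_left]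
  · refine Nat.card_le_card_of_injective (fun s : S => (⟨s, fun t ht => form_zero_swap (ht s s.2)⟩ : perpS (perpS S)))
      fun a b e => Subtype.ext (congrArg (fun z : perpS (perpS S) => (z : V)) e)
  · have key : ∀ g ∈ H, ∀ x ∈ perpS S, g • x ∈ perpS S := fun g hg x hx s hs => by
      obtain ⟨s', hs', rfl⟩ : s ∈ g • (S : Set V) := by rw [hfix g hg]; exact hs
      exact (form_smul_smul g s' x).trans (hx s' hs')
    ext x
    refine ⟨?_, fun hx => ⟨g⁻¹ • x, key g⁻¹ (inv_mem hg) x hx, smul_inv_smul g x⟩⟩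
    rintro ⟨y, hy, rfl⟩
    exact key g hg y hy

end CfsgLib.MinIdxPSp
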