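import Cfsg.Agent.MinIdxPSp.Basic

/-!
A proper subgroup containing a whole transvection group has index at least the number of points.
-/

set_option autoImplicit false
set_option linter.style.haveILetI false
set_option linter.unusedSectionVars false

namespace CfsgLib.MinIdxPSp

open Matrix CfsgLib.Symp
open scoped Pointwise Classical

variable {m : ℕ} {F : Type*} [Field F] [Finite F]

local notation "V" => Fin m ⊕ Fin m → F
local notation "Sp" => Matrix.symplecticGroup (Fin m) F


/-- The centres of the transvection groups inside a subgroup, and zero. -/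
def Cen (H : Subgroup Sp) : Set V := {v | ∀ c, tv v c ∈ H}

/-- The centres joined to `a` by a path of length two. -/
def Lk (H : Subgroup Sp) (a : V) : Set V := {x | x ∈ Cen H ∧ ∃ c ∈ Cen H, form a c ≠ 0 ∧ form x c ≠ 0}

variable {H : Subgroup (Matrix.symplecticGroup (Fin m) F)}

theorem cen_zero : (0 : V) ∈ Cen H := fun c => by
  rw [show tv (0 : V) c = 1 from symp_ext fun x => by simp [tv_smul]]; exact one_mem _

theorem cen_smul (t : F) {v : V} (hv : v ∈ Cen H) : t • v ∈ Cen H := fun c => by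
  rw [tv_smul_vec]; exact hv _

theorem cen_move {g : Sp} (hg : g ∈ H) {v : V} (hv : v ∈ Cen H) : g • v ∈ Cen H := fun c => by
  rw [← tv_conj]; exact mul_mem (mul_mem hg (hv c)) (inv_mem hg)

theorem cen_span {x y : V} (hx : x ∈ Cen H) (hy : y ∈ Cen H) (h : form x y ≠ 0) (α β : F) :
    α • x + β • y ∈ Cen H := by
  by_cases hα : α = 0
  · rw [hα, zero_smul, zero_add]; exact cen_smul β hy
  have := cen_smul α (cen_move (hy (α⁻¹ * β * (form x y)⁻¹)) hx)
  rwa [tv_smul, mul_assoc, inv_mul_cancel₀ h, mul_one, smul_add, smul_smul, mul_inv_cancel_left₀ hα] at this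

theorem sh_tv_mem {a d : V} (h : form d a = 0) (ha : ∀ σ : F, a + σ • d ∈ Cen H) (μ : F) {σ : F} (hσ : σ ≠ 0) :
    sh d (μ • a) * tv d (μ * σ) ∈ H := by
  have h0 : a ∈ Cen H := by simpa using ha 0
  have hh := mul_mem (inv_mem (h0 (μ / σ))) (ha σ (μ / σ))
  rwa [tv_expand h, mul_assoc (tv a (μ / σ)), inv_mul_cancel_left, div_mul_cancel₀ μ hσ,
    show μ / σ * σ ^ 2 = μ * σ by field_simp] at hh

theorem cen_of_line (hq : 3 ≤ Nat.card F) {a d : V} (h : form d a = 0) (ha : ∀ σ : F, a + σ • d ∈ Cen H) :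
    d ∈ Cen H := by
  obtain ⟨s, hs, hs1⟩ : ∃ s : F, s ≠ 0 ∧ s ≠ 1 := by
    by_contra hc
    push Not at hc
    haveI := Fintype.ofFinite F
    have : (Finset.univ : Finset F) ⊆ {0, 1} := fun x _ => by
      simp only [Finset.mem_insert, Finset.mem_singleton]; exact or_iff_not_imp_left.2 (hc x)
    have := (Finset.card_le_card this).trans Finset.card_le_two
    rw [Finset.card_univ, ← Nat.card_eq_fintype_card] at this
    omega
  intro c
  have hh := mul_mem (inv_mem (sh_tv_mem h ha (c / (s - 1)) one_ne_zero)) (sh_tv_mem h ha (c / (s - 1)) hs)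
  rwa [_root_.mul_inv_rev, mul_assoc, inv_mul_cancel_left, tv_inv, tv_add, mul_one,
    show -(c / (s - 1)) + c / (s - 1) * s = c / (s - 1) * (s - 1) by ring,
    div_mul_cancel₀ _ (sub_ne_zero.2 hs1)] at hh

theorem sh_mem {a d : V} (hd : d ∈ Cen H) (h : form d a = 0) (ha : ∀ σ : F, a + σ • d ∈ Cen H) (μ : F) :
    sh d (μ • a) ∈ H := by
  have hh := mul_mem (sh_tv_mem h ha μ one_ne_zero) (hd (-(μ * 1)))
  rwa [mul_assoc, tv_add, add_neg_cancel, tv_zero, mul_one] at hh

theorem cen_two (hq : 3 ≤ Nat.card F) {a b c : V} (ha : a ∈ Cen H) (hb : b ∈ Cen H) (hc : c ∈ Cen H)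
    (hac : form a c ≠ 0) (hbc : form b c ≠ 0) (α β : F) : α • a + β • b ∈ Cen H := by
  by_cases hab : form a b ≠ 0
  · exact cen_span ha hb hab α β
  push Not at hab
  by_cases hα : α = 0
  · rw [hα, zero_smul, zero_add]; exact cen_smul β hb
  suffices h : ∀ ν : F, a + ν • b ∈ Cen H by
    have := cen_smul α (h (α⁻¹ * β))
    rwa [smul_add, smul_smul, mul_inv_cancel_left₀ hα] at this
  have hgen : ∀ ν : F, form (a + ν • b) c ≠ 0 → a + ν • b ∈ Cen H := by
    intro ν hν
    have h1 : (1 : F) • a + (1 : F) • c ∈ Cen H := cen_span ha hc hac 1 1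
    have h2 := cen_span h1 hb (by
      rw [one_smul, one_smul, form_add_left, hab, zero_add, form_swap, neg_ne_zero]; exact hbc) 1 ν
    have h3 := cen_span h2 hc (by
      simp only [one_smul]
      rwa [add_right_comm, form_add_left, form_self, add_zero]) 1 (-1)
    have e : (1 : F) • ((1 : F) • ((1 : F) • a + (1 : F) • c) + ν • b) + (-1 : F) • c = a + ν • b := by module
    rwa [e] at h3
  intro ν
  by_cases hν : form (a + ν • b) c = 0
  swap
  · exact hgen ν hν
  refine cen_of_line hq (a := a) (by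
    rw [form_add_left, form_self, form_smul_left, form_zero_swap hab, mul_zero, add_zero]) fun σ => ?_
  by_cases hσ : σ = -1
  · have e : a + σ • (a + ν • b) = (-ν) • b := by rw [hσ]; module
    rw [e]; exact cen_smul _ hb
  have hσ' : 1 + σ ≠ 0 := fun e => hσ (by linear_combination e)
  have e : a + σ • (a + ν • b) = (1 + σ) • (a + (σ * ν / (1 + σ)) • b) := by
    rw [smul_add (1 + σ), smul_smul, mul_div_cancel₀ _ hσ']; module
  rw [e]
  refine cen_smul _ (hgen _ fun e' => hbc ?_)
  rw [form_add_left, form_smul_left] at hν e'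
  have hν0 : ν ≠ 0 := fun e => hac (by rw [e, zero_mul, add_zero] at hν; exact hν)
  have h4 : (σ * ν / (1 + σ) - ν) * form b c = 0 := by linear_combination e' - hν
  refine (mul_eq_zero.1 h4).resolve_left fun e5 => hν0 ?_
  field_simp at e5
  linear_combination -e5

theorem lk_symm {a x : V} (ha : a ∈ Cen H) (hx : x ∈ Lk H a) : a ∈ Lk H x := by
  obtain ⟨-, c, hc, h1, h2⟩ := hx; exact ⟨ha, c, hc, h2, h1⟩

theorem lk_nbr {a y : V} (ha : a ∈ Cen H) (hy : y ∈ Cen H) (h : form a y ≠ 0) : y ∈ Lk H a := by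
  refine ⟨hy, (1 : F) • a + (1 : F) • y, cen_span ha hy h 1 1, ?_, ?_⟩
  · rwa [one_smul, one_smul, form_add_right, form_self, zero_add]
  · rwa [one_smul, one_smul, form_add_right, form_self, add_zero, form_swap, neg_ne_zero]

theorem lk_step {a x y : V} (hx : x ∈ Lk H a) (hy : y ∈ Cen H) (h : form x y ≠ 0) : y ∈ Lk H a := by
  obtain ⟨hxC, c, hc, hac, hxc⟩ := hx
  refine ⟨hy, ?_⟩
  by_cases h1 : form y c ≠ 0
  · exact ⟨c, hc, hac, h1⟩
  push Not at h1
  by_cases h2 : form a x ≠ 0
  · exact ⟨x, hxC, h2, by rwa [form_swap, neg_ne_zero]⟩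
  push Not at h2
  refine ⟨(1 : F) • c + (1 : F) • x, cen_span hc hxC (by rwa [form_swap, neg_ne_zero]) 1 1, ?_, ?_⟩
  · rwa [one_smul, one_smul, form_add_right, h2, add_zero]
  · rwa [one_smul, one_smul, form_add_right, h1, zero_add, form_swap, neg_ne_zero]

theorem lk_trans {a x y : V} (hx : x ∈ Lk H a) (hy : y ∈ Lk H x) : y ∈ Lk H a := by
  obtain ⟨hyC, c, hc, h1, h2⟩ := hy
  exact lk_step (lk_step hx hc h1) hyC (by rwa [form_swap, neg_ne_zero])

theorem lk_smul {a x : V} {t : F} (ht : t ≠ 0) (hx : x ∈ Lk H a) : t • x ∈ Lk H a := by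
  obtain ⟨hxC, c, hc, h1, h2⟩ := hx
  exact ⟨cen_smul t hxC, c, hc, h1, by rw [form_smul_left]; exact mul_ne_zero ht h2⟩

/-- The span of a class of centres. -/
def Tk (H : Subgroup Sp) (a : V) : Set V :=
  {t | ∃ x y, (x = 0 ∨ x ∈ Lk H a) ∧ (y = 0 ∨ y ∈ Lk H a) ∧ t = x + y}

theorem tk_of_single {a x : V} (hx : x = 0 ∨ x ∈ Lk H a) : x ∈ Tk H a :=
  ⟨x, 0, hx, Or.inl rfl, (add_zero x).symm⟩

theorem lk_two (hq : 3 ≤ Nat.card F) {a x y : V} (ha : a ∈ Cen H) (hx : x ∈ Lk H a) (hy : y ∈ Lk H a)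
    (α β : F) : α • x + β • y ∈ Cen H := by
  obtain ⟨hyC, c, hc, h1, h2⟩ := lk_trans (lk_symm ha hx) hy
  exact cen_two hq hx.1 hyC hc h1 h2 α β

theorem tk_cen (hq : 3 ≤ Nat.card F) {a t : V} (ha : a ∈ Cen H) (ht : t ∈ Tk H a) : t ∈ Cen H := by
  obtain ⟨x, y, hx, hy, rfl⟩ := ht
  rcases hx with rfl | hx
  · rcases hy with rfl | hy
    · simpa using cen_zero
    · simpa using hy.1
  rcases hy with rfl | hy
  · simpa using hx.1
  simpa using lk_two hq ha hx hy 1 1

theorem tk_add (hq : 3 ≤ Nat.card F) {a t z : V} (ha : a ∈ Cen H) (ht : t ∈ Tk H a) (hz : z = 0 ∨ z ∈ Lk H a) :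
    t + z ∈ Tk H a := by
  rcases hz with rfl | hz
  · rwa [add_zero]
  have htC := tk_cen hq ha ht
  obtain ⟨x, y, hx, hy, rfl⟩ := ht
  rcases hx with rfl | hx
  · exact ⟨y, z, hy, Or.inr hz, by rw [zero_add]⟩
  rcases hy with rfl | hy
  · exact ⟨x, z, Or.inr hx, Or.inr hz, by rw [add_zero]⟩
  set d := x + y with hd
  by_cases hdK : d ∈ Lk H a
  · exact ⟨d, z, Or.inr hdK, Or.inr hz, rfl⟩
  have hperp : ∀ w ∈ Lk H a, form d w = 0 := fun w hw => by
    by_contra h
    exact hdK (lk_step hw htC (by rwa [form_swap, neg_ne_zero]))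
  refine tk_of_single (Or.inr ?_)
  -- lines through the radical vector
  have hline : ∀ w ∈ Lk H a, form x w ≠ 0 → ∀ σ : F, w + σ • d ∈ Cen H := by
    intro w hw hxw σ
    have hx' : ∀ σ : F, x + σ • d ∈ Cen H := fun σ => by
      have e : x + σ • d = (1 + σ) • x + σ • y := by rw [hd]; module
      rw [e]; exact lk_two hq ha hx hy _ _
    have hd' : form d x = 0 := hperp x hx
    have := cen_move (sh_mem htC hd' hx' (σ * (form w x)⁻¹)) hw.1
    rwa [sh_smul (by rw [form_smul_right, hd', mul_zero]), form_smul_right, form_zero_swap (hperp w hw), zero_smul,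
      add_zero, mul_assoc, inv_mul_cancel₀ (by rwa [form_swap, neg_ne_zero]), mul_one] at this
  obtain ⟨hzC, c, hc, hxc, hzc⟩ := lk_trans (lk_symm ha hx) hz
  have hcK : c ∈ Lk H a := lk_step hz hc hzc
  have hd' : form d c = 0 := hperp c hcK
  have := cen_move (sh_mem htC hd' (hline c hcK hxc) (form z c)⁻¹) hzC
  rw [sh_smul (by rw [form_smul_right, hd', mul_zero]), form_smul_right, form_zero_swap (hperp z hz), zero_smul,
    add_zero, inv_mul_cancel₀ hzc, one_smul, add_comm] at this
  exact lk_step hcK this (by rwa [form_add_right, form_zero_swap hd', zero_add, form_swap, neg_ne_zero])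

/-- The span of a class of centres, as a subspace. -/
def tkS (hq : 3 ≤ Nat.card F) {a : V} (ha : a ∈ Cen H) : Submodule F V where
  carrier := Tk H a
  zero_mem' := tk_of_single (Or.inl rfl)
  add_mem' := fun {t u} ht hu => by
    obtain ⟨x, y, hx, hy, rfl⟩ := hu
    rw [← add_assoc]
    exact tk_add hq ha (tk_add hq ha ht hx) hy
  smul_mem' := fun r t ht => by
    obtain ⟨x, y, hx, hy, rfl⟩ := ht
    have h : ∀ z : V, (z = 0 ∨ z ∈ Lk H a) → r • z = 0 ∨ r • z ∈ Lk H a := fun z hz => by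
      rcases eq_or_ne r 0 with rfl | hr
      · exact Or.inl (zero_smul F z)
      rcases hz with rfl | hz
      · exact Or.inl (smul_zero r)
      · exact Or.inr (lk_smul hr hz)
    exact ⟨r • x, r • y, h x hx, h y hy, smul_add r x y⟩

theorem lk_move {g : Sp} (hg : g ∈ H) {a x : V} (hx : x ∈ Lk H a) : g • x ∈ Lk H (g • a) := by
  obtain ⟨hxC, c, hc, h1, h2⟩ := hx
  exact ⟨cen_move hg hxC, g • c, cen_move hg hc, by rwa [form_smul_smul], by rwa [form_smul_smul]⟩

theorem lk_eq {a b : V} (ha : a ∈ Cen H) (hb : b ∈ Lk H a) : Lk H b = Lk H a :=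
  Set.ext fun _ => ⟨fun h => lk_trans hb h, fun h => lk_trans (lk_symm ha hb) h⟩

theorem smul_tk {g : Sp} (hg : g ∈ H) (a : V) : g • Tk H a = Tk H (g • a) := by
  have key : ∀ g ∈ H, ∀ a : V, ∀ t ∈ Tk H a, g • t ∈ Tk H (g • a) := by
    rintro g hg a _ ⟨x, y, hx, hy, rfl⟩
    refine ⟨g • x, g • y, hx.imp (fun e => by rw [e, smul_zero]) (lk_move hg),
      hy.imp (fun e => by rw [e, smul_zero]) (lk_move hg), smul_add g x y⟩
  ext t
  refine ⟨?_, fun ht => ⟨g⁻¹ • t, ?_, smul_inv_smul g t⟩⟩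
  · rintro ⟨u, hu, rfl⟩; exact key g hg a u hu
  · simpa using key g⁻¹ (inv_mem hg) (g • a) t ht

/-- A proper subgroup containing a transvection group has index at least the number of points. -/
theorem centred_bound (hq : 3 ≤ Nat.card F) (hH : H ≠ ⊤) {v : V} (hv0 : v ≠ 0) (hv : v ∈ Cen H) :
    Nat.card V - 1 ≤ (Nat.card F - 1) * H.index := by
  haveI : Finite Sp := Subtype.finite
  by_cases hrad : ∃ x ∈ Cen H, x ≠ 0 ∧ ∀ c ∈ Cen H, form x c = 0
  · obtain ⟨x, hxC, hx0, hx⟩ := hrad
    set S := Submodule.span F (Cen H)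
    refine index_of_ti (S ⊓ perpS S) (fun e => hx0 ?_) (fun a ha b hb => hb.2 a ha.1) fun g hg => ?_
    · have hmem : x ∈ S ⊓ perpS S := ⟨Submodule.subset_span hxC, fun s hs => by
        induction hs using Submodule.span_induction with
        | mem y hy => exact form_zero_swap (hx y hy)
        | zero => exact form_zero_left x
        | add y z _ _ hy hz => rw [form_add_left, hy, hz, add_zero]
        | smul c y _ hy => rw [form_smul_left, hy, mul_zero]⟩
      rwa [e, Submodule.mem_bot] at hmem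
    · have hS : ∀ g ∈ H, ∀ s ∈ S, g • s ∈ S := fun g hg s hs => by
        induction hs using Submodule.span_induction with
        | mem y hy => exact Submodule.subset_span (cen_move hg hy)
        | zero => rw [smul_zero]; exact S.zero_mem
        | add y z _ _ hy hz => rw [smul_add]; exact S.add_mem hy hz
        | smul c y _ hy => rw [smul_comm g]; exact S.smul_mem c hy
      have key : ∀ g ∈ H, ∀ s ∈ S ⊓ perpS S, g • s ∈ S ⊓ perpS S := fun g hg s hs =>
        ⟨hS g hg s hs.1, fun u hu => by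
          rw [← smul_inv_smul g u, form_smul_smul]
          exact hs.2 _ (hS g⁻¹ (inv_mem hg) u hu)⟩
      ext t
      refine ⟨?_, fun ht => ⟨g⁻¹ • t, key g⁻¹ (inv_mem hg) t ht, smul_inv_smul g t⟩⟩
      rintro ⟨u, hu, rfl⟩; exact key g hg u hu
  push Not at hrad
  have hnd : ∀ a (ha : a ∈ Cen H), Nondeg (tkS hq ha) := by
    intro a ha t ht ht0
    obtain ⟨c, hc, htc⟩ := hrad t (tk_cen hq ha ht) ht0
    obtain ⟨x, y, hx, hy, rfl⟩ := ht
    have hcK : ∀ z, (z = 0 ∨ z ∈ Lk H a) → form z c ≠ 0 → c ∈ Lk H a := by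
      rintro z (rfl | hz) h
      · exact absurd (form_zero_left c) h
      · exact lk_step hz hc h
    refine ⟨c, tk_of_single (Or.inr ?_), htc⟩
    by_cases h : form x c ≠ 0
    · exact hcK x hx h
    · push Not at h
      exact hcK y hy (by rwa [form_add_left, h, zero_add] at htc)
  obtain ⟨w, hw, hvw⟩ := hrad v hv hv0
  have hvK : v ∈ Lk H v := ⟨hv, w, hw, hvw, hvw⟩
  set T := tkS hq hv with hT
  have hT0 : T ≠ ⊥ := fun e => hv0 (by
    have : v ∈ T := tk_of_single (Or.inr hvK)
    rwa [e, Submodule.mem_bot] at this)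
  by_cases hfix : ∀ g ∈ H, g • (T : Set V) = T
  · refine index_of_nondeg T (hnd v hv) hT0 (fun e => hH ?_) hfix
    rw [← top_le_iff, ← tvGroup_eq_top, tvGroup, Subgroup.closure_le]
    rintro _ ⟨u, -, c, rfl⟩
    exact tk_cen hq hv (e.ge (Submodule.mem_top (x := u))) c
  -- the images are orthogonal
  have horth : ∀ g ∈ H, g • (T : Set V) ≠ T → ∀ u ∈ T, ∀ t ∈ T, form u (g • t) = 0 := by
    intro g hg hne u hu t ht
    by_contra h
    obtain ⟨t1, ht1, ht1'⟩ : ∃ z ∈ Lk H v, form u (g • z) ≠ 0 := by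
      obtain ⟨x, y, hx, hy, rfl⟩ := ht
      rw [smul_add, form_add_right] at h
      rcases hx with rfl | hx
      · rcases hy with rfl | hy
        · simp [form_zero_left, form_zero_right] at h
        · exact ⟨y, hy, by simpa [form_zero_left, form_zero_right] using h⟩
      by_cases hh : form u (g • x) ≠ 0
      · exact ⟨x, hx, hh⟩
      push Not at hh
      rw [hh, zero_add] at h
      rcases hy with rfl | hy
      · simp [form_zero_left, form_zero_right] at h
      · exact ⟨y, hy, h⟩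
    obtain ⟨u1, hu1, hu1'⟩ : ∃ z ∈ Lk H v, form z (g • t1) ≠ 0 := by
      obtain ⟨x, y, hx, hy, rfl⟩ := hu
      rw [form_add_left] at ht1'
      rcases hx with rfl | hx
      · rcases hy with rfl | hy
        · simp [form_zero_left, form_zero_right] at ht1'
        · exact ⟨y, hy, by simpa [form_zero_left, form_zero_right] using ht1'⟩
      by_cases hh : form x (g • t1) ≠ 0
      · exact ⟨x, hx, hh⟩
      push Not at hh
      rw [hh, zero_add] at ht1'
      rcases hy with rfl | hy
      · simp [form_zero_left, form_zero_right] at ht1'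
      · exact ⟨y, hy, ht1'⟩
    have h1 := lk_step hu1 (cen_move hg ht1.1) hu1'
    have h2 : g • v ∈ Lk H v := lk_trans h1 (lk_move hg (lk_symm hv ht1))
    apply hne
    change g • Tk H v = Tk H v
    rw [smul_tk hg, Tk, Tk, lk_eq hv h2]
  push Not at hfix
  obtain ⟨g₁, hg₁, hne₁⟩ := hfix
  have hP : Nat.card T ≤ Nat.card (perpS T) :=
    Nat.card_le_card_of_injective (fun t : T => (⟨g₁ • (t : V), fun u hu => horth g₁ hg₁ hne₁ u hu t t.2⟩ : perpS T))
      fun a b e => Subtype.ext (MulAction.injective g₁ (congrArg (fun z : perpS T => (z : V)) e))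
  -- the orbit under the subgroup
  set O := MulAction.orbit H (T : Set V) with hO
  have hOn : O.ncard * (Nat.card T - 1) ≤ (Nat.card F - 1) * Nat.card (perpS T) := by
    haveI := Fintype.ofFinite (Set V)
    haveI := Fintype.ofFinite V
    have hdisj : (↑(O.toFinset.erase (T : Set V)) : Set (Set V)).PairwiseDisjoint fun S => S \ {0} := by
      intro S hS S' hS' hne
      simp only [Finset.coe_erase, Set.coe_toFinset, Set.mem_sdiff, Set.mem_singleton_iff] at hS hS'
      obtain ⟨⟨⟨g, hg⟩, rfl⟩, -⟩ := hS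
      obtain ⟨⟨⟨g', hg'⟩, rfl⟩, -⟩ := hS'
      rw [Function.onFun, Set.disjoint_left]
      rintro z ⟨⟨s, hs, rfl⟩, hz⟩ ⟨⟨s', hs', e⟩, -⟩
      change g' • s' = g • s at e
      obtain ⟨k, hk, hks⟩ := hnd v hv s hs (fun e0 => hz (by change g • s = 0; rw [e0, smul_zero]))
      have hne' : (g'⁻¹ * g) • (T : Set V) ≠ T := fun h => hne (by
        change g • (T : Set V) = g' • (T : Set V)
        conv_rhs => rw [← h, ← mul_smul, mul_inv_cancel_left])
      have := horth _ (mul_mem (inv_mem hg') hg) hne' s' hs' k hk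
      rw [← form_smul_smul g' s', e, ← mul_smul, mul_inv_cancel_left, form_smul_smul] at this
      exact hks this
    have hsub : ∀ S ∈ O.toFinset.erase (T : Set V), S \ {0} ⊆ (perpS T : Set V) \ {0} := by
      intro S hS
      rw [Finset.mem_erase, Set.mem_toFinset] at hS
      obtain ⟨hne, ⟨g, hg⟩, rfl⟩ := hS
      rintro z ⟨⟨s, hs, rfl⟩, hz⟩
      exact ⟨fun u hu => horth g hg hne u hu s hs, hz⟩
    have hcardS : ∀ S ∈ O.toFinset.erase (T : Set V), (S \ {0}).ncard = Nat.card T - 1 := by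
      intro S hS
      rw [Finset.mem_erase, Set.mem_toFinset] at hS
      obtain ⟨-, ⟨g, hg⟩, rfl⟩ := hS
      rw [Set.ncard_sdiff_singleton_of_mem (show (0 : V) ∈ (⟨g, hg⟩ : H) • (T : Set V) from
        ⟨0, T.zero_mem, smul_zero g⟩)]
      change (g • (T : Set V)).ncard - 1 = _
      rw [← Set.image_smul, Set.ncard_image_of_injective _ (MulAction.injective g), ← Nat.card_coe_set_eq]
      rfl
    have h1 := Finset.card_biUnion (s := O.toFinset.erase (T : Set V)) (t := fun S => (S \ {0}).toFinset)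
      (fun S hS S' hS' hne =>
        Set.disjoint_toFinset.2 (hdisj hS hS' hne))
    have h2 : ((O.toFinset.erase (T : Set V)).biUnion fun S => (S \ {0}).toFinset).card ≤
        ((perpS T : Set V) \ {0}).toFinset.card := by
      refine Finset.card_le_card fun z hz => ?_
      simp only [Finset.mem_biUnion, Set.mem_toFinset] at hz
      obtain ⟨S, hS, hzS⟩ := hz
      exact Set.mem_toFinset.2 (hsub S hS hzS)
    rw [h1, Finset.sum_congr rfl (fun S hS => (Set.ncard_eq_toFinset_card' _).symm.trans (hcardS S hS)),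
      Finset.sum_const, smul_eq_mul, Finset.card_erase_of_mem (Set.mem_toFinset.2 (MulAction.mem_orbit_self _)),
      ← Set.ncard_eq_toFinset_card', ← Set.ncard_eq_toFinset_card',
      Set.ncard_sdiff_singleton_of_mem (perpS T).zero_mem, ← Nat.card_coe_set_eq (perpS T : Set V)] at h2
    change (O.ncard - 1) * (Nat.card T - 1) ≤ Nat.card (perpS T) - 1 at h2
    have hpos : 1 ≤ O.ncard := Set.ncard_pos (Set.toFinite _) |>.2 ⟨_, MulAction.mem_orbit_self _⟩
    calc O.ncard * (Nat.card T - 1) = (O.ncard - 1) * (Nat.card T - 1) + (Nat.card T - 1) := by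
          conv_lhs => rw [← Nat.sub_add_cancel hpos, add_mul, one_mul]
      _ ≤ 2 * Nat.card (perpS T) := by omega
      _ ≤ _ := Nat.mul_le_mul_right _ (by omega)
  have hidx : (MulAction.orbit Sp (T : Set V)).ncard ≤ O.ncard * H.index := by
    rw [hO, ← MulAction.index_stabilizer, ← MulAction.index_stabilizer]
    rw [show MulAction.stabilizer H (T : Set V) = (MulAction.stabilizer Sp (T : Set V)).subgroupOf H from rfl,
      ← Subgroup.relIndex, ← Subgroup.inf_relIndex_right, Subgroup.relIndex_mul_index inf_le_right]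
    exact Nat.le_of_dvd (Nat.pos_of_ne_zero Subgroup.index_ne_zero_of_finite) (Subgroup.index_dvd_of_le inf_le_left)
  have h := nondeg_orbit (hnd v hv) hT0
  refine Nat.le_of_mul_le_mul_right ?_ (show 0 < Nat.card (perpS T) from Nat.card_pos)
  calc (Nat.card V - 1) * Nat.card (perpS T) ≤ _ := h
    _ ≤ O.ncard * H.index * (Nat.card T - 1) := Nat.mul_le_mul_right _ hidx
    _ = H.index * (O.ncard * (Nat.card T - 1)) := by ring
    _ ≤ H.index * ((Nat.card F - 1) * Nat.card (perpS T)) := Nat.mul_le_mul_left _ hOn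
    _ = _ := by ring

end CfsgLib.MinIdxPSp
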