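import Cfsg.Agent.MinIdxPSp.EvenMain

/-!
The orbits of the radical in characteristic two: regular ones, or lines in dimension four.
-/

set_option autoImplicit false
set_option linter.style.haveILetI false
set_option linter.unusedSectionVars false

namespace CfsgLib.MinIdxPSp

open Matrix CfsgLib.Symp AddAction CfsgLib.MinIdxPSU
open scoped Classical

variable {m : ℕ} {F : Type*} [Field F] [Finite F] [CharP F 2] (ψ : SqChar F) {d : HPair m F}
variable {X : Type*} [MulAction (Matrix.symplecticGroup (Fin m) F) X] [Finite X]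

local notation "V" => Fin m ⊕ Fin m → F
local notation "Sp" => Matrix.symplecticGroup (Fin m) F

theorem refl_orb_conj (hN : ∀ v : d.W, nw ψ d X (1, v) ≤ 2) {v : d.W} {x : X} (hx : (1, v) ∈ Wt ψ d x)
    {a b c : d.W} (ha : qv v (a : V) = 1) (hc : qv v (c : V) = 1) (hab : d.lev (refl_mem c) a = b)
    (h : qOrb d (refl a • x) = qOrb d x) : qOrb d (refl b • x) = qOrb d x := by
  have hconj : refl b = refl c * refl a * refl c := by
    have h1 := tv_conj (refl c) (a : V) 1
    rw [show refl c • (a : V) = (b : V) from congrArg Subtype.val hab] at h1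
    change tv (b : V) 1 = _
    rw [← h1, show (refl c)⁻¹ = refl c by rw [refl, tv_inv, CharTwo.neg_eq]]
    rfl
  rw [hconj, mul_smul, mul_smul]
  by_cases hcx : qOrb d (refl c • x) = qOrb d x
  · rw [((tr_Lv (refl_mem c)).qOrb_iff _ _).2 ((((tr_Lv (refl_mem a)).qOrb_iff _ _).2 hcx).trans h)]
    exact hcx
  have h1 : qOrb d (refl a • refl c • x) = qOrb d (refl c • x) := by
    rcases three_eq ψ hN hx (refl_wt ψ hc hx) (refl_wt ψ ha (refl_wt ψ hc hx)) with e | e | e
    · exact absurd e.symm hcx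
    · exfalso
      have h2 := ((tr_Lv (refl_mem a)).qOrb_iff _ _).2 e
      rw [refl_invol, h] at h2
      exact hcx h2.symm
    · exact e.symm
  rw [((tr_Lv (refl_mem c)).qOrb_iff _ _).2 h1, refl_invol]

/-- A reflection fixing the orbit. -/
theorem dir_top_of_fix (hm : 2 ≤ m) (hcond : 8 ≤ Nat.card F ∨ (4 ≤ Nat.card F ∧ Nat.card F ^ 2 < Nat.card d.W))
    (hN : ∀ v : d.W, nw ψ d X (1, v) ≤ 2) {v : d.W} {x : X} (hx : (1, v) ∈ Wt ψ d x) (hD : Dir ψ d x ≠ ⊥)
    {a : d.W} (ha : qv v (a : V) = 1) (h : qOrb d (refl a • x) = qOrb d x) : Dir ψ d x = ⊤ := by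
  have hq : 4 ≤ Nat.card F := by rcases hcond with h | h <;> omega
  refine invariant_top hm hcond v _ hD fun u hu δ hδ => ?_
  have hux : qOrb d (refl u • x) = qOrb d x :=
    refl_connected hq (P := fun b => qOrb d (refl b • x) = qOrb d x)
      (fun a b c ha _ hc hab hP => refl_orb_conj ψ hN hx ha hc hab hP) ha hu h
  have h1 := (dir_move ψ (refl_mem u) (x := x)).2 hδ
  rw [Dir_eq_of_qOrb ψ hux, refl_apply] at h1
  have h2 := (Dir ψ d x).sub_mem h1 hδ
  rwa [add_sub_cancel_left] at h2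

/-- A reflection fixing a direction. -/
theorem dir_top_of_perp (hm : 2 ≤ m) (hcond : 8 ≤ Nat.card F ∨ (4 ≤ Nat.card F ∧ Nat.card F ^ 2 < Nat.card d.W))
    (hN : ∀ v : d.W, nw ψ d X (1, v) ≤ 2) {v : d.W} {x : X} (hx : (1, v) ∈ Wt ψ d x)
    {δ : d.W} (hδ : δ ∈ Dir ψ d x) (hδ0 : δ ≠ 0) {u : d.W} (hu : qv v (u : V) = 1)
    (hδu : form (δ : V) (u : V) = 0) : Dir ψ d x = ⊤ := by
  have hD : Dir ψ d x ≠ ⊥ := fun e => hδ0 (by rwa [e, AddSubgroup.mem_bot] at hδ)
  by_cases hfix : ∃ a : d.W, qv v (a : V) = 1 ∧ qOrb d (refl a • x) = qOrb d x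
  · obtain ⟨a, ha, h⟩ := hfix
    exact dir_top_of_fix ψ hm hcond hN hx hD ha h
  push Not at hfix
  have hsame : ∀ b : d.W, qv v (b : V) = 1 → qOrb d (refl b • x) = qOrb d (refl u • x) := by
    intro b hb
    rcases three_eq ψ hN hx (refl_wt ψ hb hx) (refl_wt ψ hu hx) with e | e | e
    · exact absurd e.symm (hfix b hb)
    · exact absurd e.symm (hfix u hu)
    · exact e
  set T := Dir ψ d x ⊓ Dir ψ d (refl u • x)
  have hδ' : δ ∈ Dir ψ d (refl u • x) := by
    have h1 := (dir_move ψ (refl_mem u) (x := x)).2 hδ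
    rwa [refl_apply, hδu, zero_smul, add_zero] at h1
  have hT : T ≠ ⊥ := fun e => hδ0 (by
    have h1 : δ ∈ T := ⟨hδ, hδ'⟩
    rwa [e, AddSubgroup.mem_bot] at h1)
  have htop : T = ⊤ := by
    refine invariant_top hm hcond v _ hT fun b hb γ hγ => ?_
    have h1 := (dir_move ψ (refl_mem b) (x := x)).2 hγ.1
    rw [Dir_eq_of_qOrb ψ (hsame b hb), refl_apply] at h1
    have h2 := hγ.2
    rw [← Dir_eq_of_qOrb ψ (hsame b hb)] at h2
    have h3 := (dir_move ψ (refl_mem b) (x := refl b • x)).2 h2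
    rw [refl_invol, refl_apply] at h3
    refine ⟨?_, ?_⟩
    · have h4 := (Dir ψ d x).sub_mem h3 hγ.1
      rwa [add_sub_cancel_left] at h4
    · have h4 := (Dir ψ d (refl u • x)).sub_mem h1 hγ.2
      rwa [add_sub_cancel_left] at h4
  exact top_le_iff.1 (htop ▸ inf_le_left)

/-- In dimension four the directions are not singular lines. -/
theorem not_line (hm : 2 ≤ m) (hq : 8 ≤ Nat.card F) (hW : Nat.card d.W ≤ Nat.card F ^ 2)
    (hfree : Free (m := m) (F := F) X) (hN : ∀ v : d.W, nw ψ d X (1, v) ≤ 2) {v : d.W} {x : X}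
    (hx : (1, v) ∈ Wt ψ d x) (hD : Dir ψ d x ≠ ⊥) : Dir ψ d x = ⊤ := by
  by_contra htop
  have hq4 : 4 ≤ Nat.card F := by omega
  have hsing : ∀ δ ∈ Dir ψ d x, qv v (δ : V) = 0 := fun δ hδ => by
    by_contra hne
    have hδ0 : δ ≠ 0 := fun e => hne (by rw [e, Submodule.coe_zero, qv_zero])
    exact htop (dir_top_of_perp ψ hm (Or.inl hq) hN hx hδ hδ0 (scale_to_one hne)
      (by rw [Submodule.coe_smul, form_smul_right, form_self, mul_zero]))
  have hmoved : ∀ {w : d.W}, (1, w) ∈ Wt ψ d x → ∀ a : d.W, qv w (a : V) = 1 →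
      qOrb d (refl a • x) ≠ qOrb d x :=
    fun hw a ha h => htop (dir_top_of_fix ψ hm (Or.inl hq) hN hw hD ha h)
  obtain ⟨δ, hδ, hδ0⟩ : ∃ δ ∈ Dir ψ d x, δ ≠ 0 := by
    by_contra hc; push Not at hc; exact hD ((AddSubgroup.eq_bot_iff_forall _).2 hc)
  obtain ⟨y₀, hy₀W, hy₀⟩ := d.nondeg_W δ δ.2 fun e => hδ0 (Subtype.ext e)
  obtain ⟨ε, hδε, hεq⟩ : ∃ ε : d.W, form (δ : V) (ε : V) = 1 ∧ qv v (ε : V) = 0 := by
    obtain ⟨y, hy1⟩ : ∃ y : d.W, form (δ : V) (y : V) = 1 := ⟨(form (δ : V) y₀)⁻¹ • ⟨y₀, hy₀W⟩, by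
      rw [Submodule.coe_smul, form_smul_right, inv_mul_cancel₀ hy₀]⟩
    refine ⟨y + qv v (y : V) • δ, ?_, ?_⟩
    · rw [Submodule.coe_add, form_add_right, hy1, Submodule.coe_smul, form_smul_right, form_self, mul_zero, add_zero]
    · rw [Submodule.coe_add, qv_add, Submodule.coe_smul, qv_smul, hsing δ hδ, form_smul_right, form_comm (y : V),
        hy1, mul_zero, mul_one, add_zero, CharTwo.add_self_eq_zero]
  have hbasis : ∀ b : d.W, ∃ α β : F, b = α • δ + β • ε := by
    have hinj : Function.Injective fun p : F × F => p.1 • δ + p.2 • ε := by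
      rintro ⟨α, β⟩ ⟨α', β'⟩ e
      have e' := congrArg (fun w : d.W => (form (w : V) (ε : V), form (w : V) (δ : V))) e
      simp only [Submodule.coe_add, Submodule.coe_smul, form_add_left, form_smul_left, form_self, hδε,
        form_comm (ε : V) (δ : V), mul_zero, mul_one, add_zero, zero_add, Prod.mk.injEq] at e'
      exact Prod.ext e'.1 e'.2
    have hbij := (Nat.bijective_iff_injective_and_card _).2 ⟨hinj, le_antisymm
      (Nat.card_le_card_of_injective _ hinj) (by rw [Nat.card_prod, ← pow_two]; exact hW)⟩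
    intro b
    obtain ⟨⟨α, β⟩, h⟩ := hbij.2 b
    exact ⟨α, β, h.symm⟩
  have hperp : ∀ b : d.W, form (b : V) (δ : V) = 0 → ∃ α : F, b = α • δ := fun b hb => by
    obtain ⟨α, β, e⟩ := hbasis b
    rw [e, Submodule.coe_add, Submodule.coe_smul, Submodule.coe_smul, form_add_left, form_smul_left, form_self,
      form_smul_left, form_comm (ε : V), hδε, mul_zero, zero_add, mul_one] at hb
    exact ⟨α, by rw [e, hb, zero_smul, add_zero]⟩
  -- the scalings
  have hscale : ∀ lam : F, lam ≠ 0 → ∃ g ∈ d.Lv, g • (δ : V) = lam • (δ : V) ∧ qOrb d (g • x) = qOrb d x := by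
    intro lam hlam
    have hb : ∀ β : F, β ≠ 0 → qv v ((β⁻¹ • δ + β • ε : d.W) : V) = 1 := fun β hβ => by
      rw [Submodule.coe_add, qv_add, Submodule.coe_smul, Submodule.coe_smul, qv_smul, qv_smul, hsing δ hδ, hεq,
        form_smul_left, form_smul_right, hδε, mul_zero, mul_zero, zero_add, zero_add, mul_one, inv_mul_cancel₀ hβ]
    have hβ : rt lam ≠ 0 := fun e => hlam (by rw [← rt_mul_self lam, e, mul_zero])
    set a : d.W := (rt lam)⁻¹ • δ + rt lam • ε
    set b : d.W := (1 : F)⁻¹ • δ + (1 : F) • ε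
    have haR : qv v (a : V) = 1 := hb _ hβ
    have hbR : qv v (b : V) = 1 := hb _ one_ne_zero
    refine ⟨refl b * refl a, mul_mem (refl_mem b) (refl_mem a), ?_, ?_⟩
    · rw [mul_smul, refl, refl, tv_smul, tv_smul]
      simp only [a, b, Submodule.coe_add, Submodule.coe_smul, form_add_right, form_add_left, form_smul_right,
        form_smul_left, form_self, hδε, form_comm (ε : V) (δ : V), inv_one, one_mul, mul_one, mul_zero, add_zero,
        zero_add, one_smul, smul_add, smul_smul]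
      rw [rt_mul_self, mul_inv_cancel₀ hβ, one_smul]
      have h2 : ((δ : V) + (δ : V)) = 0 := add_self_zero _
      have h3 : (lam • (ε : V) + lam • (ε : V)) = 0 := add_self_zero _
      linear_combination (norm := (match_scalars <;> ring_nf <;> simp [CharTwo.two_eq_zero])) (1 : F) • h2 + (1 : F) • h3
    · rw [mul_smul]
      have h1 : qOrb d (refl a • x) = qOrb d (refl b • x) := by
        rcases three_eq ψ hN hx (refl_wt ψ haR hx) (refl_wt ψ hbR hx) with e | e | e
        · exact absurd e.symm (hmoved hx a haR)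
        · exact absurd e.symm (hmoved hx b hbR)
        · exact e
      rw [((tr_Lv (refl_mem b)).qOrb_iff _ _).2 h1, refl_invol]
  have hline : ∀ α : F, α • δ ∈ Dir ψ d x := fun α => by
    by_cases hα : α = 0
    · rw [hα, zero_smul]; exact (Dir ψ d x).zero_mem
    obtain ⟨g, hg, hgδ, hgx⟩ := hscale α hα
    have h1 := (dir_move ψ hg (x := x)).2 hδ
    rwa [Dir_eq_of_qOrb ψ hgx, show d.lev hg δ = α • δ from Subtype.ext hgδ] at h1
  have hsub : ∀ γ ∈ Dir ψ d x, ∃ α : F, γ = α • δ := fun γ hγ => by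
    refine hperp γ ?_
    have h := qv_add v (γ : V) (δ : V)
    rw [hsing γ hγ, hsing δ hδ] at h
    have h2 := hsing _ ((Dir ψ d x).add_mem hγ hδ)
    rw [Submodule.coe_add, h, zero_add, zero_add] at h2
    exact h2
  -- the transvection group of the line fixes the orbit
  have hgt : ∀ t : F, qOrb d (tv (δ : V) t • x) = qOrb d x := by
    intro t
    have hg := d.tvGroup_le (tv_mem_tvGroup δ.2 t)
    set v' := v + (rt t + t * rt (qv v (δ : V))) • δ
    have h1 : (1, v') ∈ Wt ψ d (tv (δ : V) t • x) := ((tr_Lv hg).mem_wt ψ (pair_tv ψ v δ t hg) x).2 hx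
    have h2 : (1, v') ∈ Wt ψ d x := by
      have := (Wt ψ d x).add_mem hx (show ((0 : F), (rt t + t * rt (qv v (δ : V))) • δ) ∈ Wt ψ d x from hline _)
      rwa [Prod.mk_add_mk, add_zero] at this
    obtain ⟨a, ha⟩ := exists_qv_ne (W_ne d hm) v'
    have haR := scale_to_one ha
    set u : d.W := (rt (qv v' (a : V)))⁻¹ • a
    rcases three_eq ψ hN h2 h1 (refl_wt ψ haR h2) with e | e | e
    · exact e.symm
    · exact absurd e.symm (hmoved h2 u haR)
    · exfalso
      have h3 : δ ∈ Dir ψ d (tv (δ : V) t • x) := by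
        have h4 := (dir_move ψ hg (x := x)).2 hδ
        rwa [show d.lev hg δ = δ from Subtype.ext (by
          rw [d.lev_apply, tv_smul, form_self, mul_zero, zero_smul, add_zero])] at h4
      rw [Dir_eq_of_qOrb ψ e] at h3
      have h5 := (dir_move ψ (refl_mem u) (x := refl u • x)).2 h3
      rw [refl_invol, refl_apply] at h5
      have h6 := (Dir ψ d x).sub_mem h5 hδ
      rw [add_sub_cancel_left] at h6
      obtain ⟨α, hα⟩ := hsub _ h6
      have hu0 : qv v' (u : V) = 1 := haR
      by_cases hzero : form (δ : V) (u : V) = 0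
      · obtain ⟨α', hα'⟩ := hperp u (by rw [form_comm]; exact hzero)
        rw [hα', Submodule.coe_smul, qv_smul, qv_shift, hsing δ hδ, mul_zero] at hu0
        exact zero_ne_one hu0
      · have hu' : u = ((form (δ : V) (u : V))⁻¹ * α) • δ := by
          rw [mul_smul, ← hα, inv_smul_smul₀ hzero]
        rw [hu', Submodule.coe_smul, qv_smul, qv_shift, hsing δ hδ, mul_zero] at hu0
        exact zero_ne_one hu0
  -- coordinates on the orbit
  obtain ⟨mu, hmu0, hmu1, hmu2⟩ : ∃ mu : F, mu ≠ 0 ∧ mu ≠ 1 ∧ mu * mu + mu + 1 ≠ 0 := by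
    by_contra hc
    push Not at hc
    haveI := Fintype.ofFinite F
    let P : Polynomial F := Polynomial.X ^ 2 + Polynomial.X + 1
    have hP : P ≠ 0 := fun e => by
      have := congrArg (fun p => Polynomial.eval 0 p) e
      simp [P] at this
    have hle : (Finset.univ : Finset F) ⊆ insert 0 (insert 1 P.roots.toFinset) := fun y _ => by
      simp only [Finset.mem_insert]
      by_cases h0 : y = 0
      · exact Or.inl h0
      by_cases h1 : y = 1
      · exact Or.inr (Or.inl h1)
      refine Or.inr (Or.inr (Multiset.mem_toFinset.2 ((Polynomial.mem_roots hP).2 ?_)))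
      simp only [P, Polynomial.IsRoot.def, Polynomial.eval_add, Polynomial.eval_pow, Polynomial.eval_X,
        Polynomial.eval_one]
      rw [pow_two]
      exact hc y h0 h1
    have h2 : P.natDegree ≤ 2 := by simp only [P]; compute_degree
    have h3 := (Multiset.toFinset_card_le P.roots).trans ((Polynomial.card_roots' P).trans h2)
    have h4 := Finset.card_le_card hle
    have h5 := Finset.card_insert_le (0 : F) (insert 1 P.roots.toFinset)
    have h6 := Finset.card_insert_le (1 : F) P.roots.toFinset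
    rw [Finset.card_univ, ← Nat.card_eq_fintype_card] at h4
    omega
  obtain ⟨g, hg, hgδ, hgx⟩ := hscale mu hmu0
  obtain ⟨⟨z₀, a₀⟩, hp⟩ := qOrb_eq.1 hgx
  set b : d.W := (form (a₀ : V) (δ : V) / (mu⁻¹ + 1)) • ε
  have hmu' : mu⁻¹ + 1 ≠ 0 := fun e => hmu1 (inv_eq_one.1 (CharTwo.add_eq_zero.1 e))
  obtain ⟨y, hy⟩ : ∃ y, y = el d (0, b) • x := ⟨_, rfl⟩
  have hyx : qOrb d y = qOrb d x := qOrb_eq.2 ⟨(0, b), hy⟩
  have hDy : Dir ψ d y = Dir ψ d x := Dir_eq_of_qOrb ψ hyx
  -- the coordinate vanishes on the stabiliser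
  have hker : ∀ p : F × d.W, el d p • y = y → form (p.2 : V) (δ : V) = 0 := fun p hp' => by
    refine ψ.eq_zero fun α => ?_
    have := (mem_Dir' ψ).1 (show α • δ ∈ Dir ψ d y by rw [hDy]; exact hline α) p hp'
    rwa [Submodule.coe_smul, form_smul_right] at this
  have hcentral : ∀ q : F × d.W, form (q.2 : V) (δ : V) = 0 → ∃ z, el d q • y = tv d.e z • y := by
    intro q hq
    obtain ⟨z, hz⟩ := exists_fix_of_dir ψ q.2 y fun γ hγ => by
      obtain ⟨α, rfl⟩ := hsub γ (by rwa [← hDy])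
      rw [Submodule.coe_smul, form_smul_right, hq, mul_zero, AddChar.map_zero_eq_one]
    refine ⟨q.1 + z, ?_⟩
    conv_lhs => rw [← hz]
    rw [← mul_smul, ← el_add, ← el_fst]
    congr 2
    exact Prod.ext rfl (Subtype.ext (add_self_zero (q.2 : V)))
  obtain ⟨zg, hzg⟩ : ∃ z, ActsAs d y g z := by
    have h1 : g • y = el d (fLv d hg (0, b) + (z₀, a₀) + (0, b)) • y := by
      rw [hy, (tr_Lv hg).smul, hp, ← mul_smul, ← el_add, ← mul_smul, ← el_add, add_assoc _ ((0 : F), b),
        show ((0 : F), b) + (0, b) = (0 : F × d.W) from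
          Prod.ext (CharTwo.add_self_eq_zero _) (Subtype.ext (add_self_zero _)), add_zero]
    obtain ⟨z, hz⟩ := hcentral (fLv d hg (0, b) + (z₀, a₀) + (0, b)) (by
      change form (g • (b : V) + (a₀ : V) + (b : V)) (δ : V) = 0
      have h2 : form (g • (b : V)) (δ : V) = mu⁻¹ * form (b : V) (δ : V) := by
        rw [← form_smul_smul g (b : V) (δ : V), hgδ, form_smul_right, inv_mul_cancel_left₀ hmu0]
      rw [form_add_left, form_add_left, h2]
      simp only [b, Submodule.coe_smul, form_smul_left, form_comm (ε : V), hδε, mul_one]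
      linear_combination mul_div_cancel₀ (form (a₀ : V) (δ : V)) hmu' +
        form (a₀ : V) (δ : V) * CharTwo.two_eq_zero (R := F))
    exact ⟨z, h1.trans hz⟩
  have hacts : ∀ t : F, ∃ z, ActsAs d y (tv (δ : V) t) z := by
    choose q hq using fun t => qOrb_eq.1 (show qOrb d (tv (δ : V) t • y) = qOrb d y by
      have hl := d.tvGroup_le (tv_mem_tvGroup δ.2 t)
      rw [((tr_Lv hl).qOrb_iff _ _).2 hyx, hgt t, hyx])
    set β : F → F := fun t => form ((q t).2 : V) (δ : V)
    have hwell : ∀ t p, tv (δ : V) t • y = el d p • y → β t = form (p.2 : V) (δ : V) := fun t p h => by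
      have h1 : el d (q t + p) • y = y := by
        rw [add_comm, el_add, mul_smul, ← hq, h, ← mul_smul, ← el_add,
          show p + p = 0 from Prod.ext (CharTwo.add_self_eq_zero _) (Subtype.ext (add_self_zero _)), el_zero, one_smul]
      have h2 := hker _ h1
      rw [Prod.snd_add, Submodule.coe_add, form_add_left] at h2
      exact CharTwo.add_eq_zero.1 h2
    have hfix : ∀ t, tv (δ : V) t • (δ : V) = (δ : V) := fun t => by
      rw [tv_smul, form_self, mul_zero, zero_smul, add_zero]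
    have hadd : ∀ t t', β (t + t') = β t + β t' := fun t t' => by
      have hl := d.tvGroup_le (tv_mem_tvGroup δ.2 t)
      rw [hwell (t + t') (fLv d hl (q t') + q t) (by
        rw [← tv_add, mul_smul, hq t', (tr_Lv hl).smul, hq t, ← mul_smul, ← el_add]), Prod.snd_add,
        Submodule.coe_add, form_add_left, add_comm]
      congr 1
      change form (tv (δ : V) t • ((q t').2 : V)) (δ : V) = _
      have h5 := form_smul_smul (tv (δ : V) t) ((q t').2 : V) (δ : V)
      rw [hfix] at h5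
      exact h5
    have heq : ∀ t, β (mu * mu * t) = mu⁻¹ * β t := fun t => by
      have hge := Lv.fix_e hg
      rw [hwell _ (fLv d hg (q t)) (by
        rw [← pow_two, ← tv_smul_vec, ← hgδ, ← tv_conj, mul_smul, mul_smul, hzg.inv hge, ← mul_smul (tv (δ : V) t),
          tv_comm_of_fix (fix_tvW δ t), mul_smul, hq t, ← mul_smul g, tv_comm_of_fix hge, mul_smul,
          (tr_Lv hg).smul, hzg, ← el_fst, ← el_fst, ← mul_smul, ← el_add, ← mul_smul, ← el_add]
        congr 2
        exact Prod.ext (by simp only [Prod.fst_add]; ring) (by simp))]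
      change form (g • ((q t).2 : V)) (δ : V) = mu⁻¹ * form ((q t).2 : V) (δ : V)
      rw [← form_smul_smul g ((q t).2 : V) (δ : V), hgδ, form_smul_right, inv_mul_cancel_left₀ hmu0]
    intro t
    suffices h0 : β t = 0 by
      obtain ⟨z, hz⟩ := hcentral (q t) h0
      exact ⟨z, (hq t).trans hz⟩
    -- the scaling by `mu` and by `1 + mu`
    obtain ⟨g', hg', hgδ', hgx'⟩ := hscale (1 + mu) (fun e => hmu1 (CharTwo.add_eq_zero.1 e).symm)
    obtain ⟨⟨z₁, a₁⟩, hp'⟩ := qOrb_eq.1 hgx'
    have h1' : g' • y = el d (fLv d hg' (0, b) + (z₁, a₁) + (0, b)) • y := by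
      rw [hy, (tr_Lv hg').smul, hp', ← mul_smul, ← el_add, ← mul_smul, ← el_add, add_assoc _ ((0 : F), b),
        show ((0 : F), b) + (0, b) = (0 : F × d.W) from
          Prod.ext (CharTwo.add_self_eq_zero _) (Subtype.ext (add_self_zero _)), add_zero]
    set w := fLv d hg' (0, b) + (z₁, a₁) + (0, b)
    set r := form (w.2 : V) (δ : V)
    have heq' : ∀ t, β ((1 + mu) * (1 + mu) * t) = (1 + mu)⁻¹ * β t := fun t => by
      have hinv : g'⁻¹ • y = el d ((fLv d hg').symm w) • y := by
        rw [inv_smul_eq_iff, (tr_Lv hg').smul, AddEquiv.apply_symm_apply, h1', ← mul_smul, ← el_add,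
          show w + w = 0 from Prod.ext (CharTwo.add_self_eq_zero _) (Subtype.ext (add_self_zero _)), el_zero, one_smul]
      have hl := d.tvGroup_le (tv_mem_tvGroup δ.2 t)
      rw [hwell _ (fLv d hg' (fLv d hl ((fLv d hg').symm w)) + (fLv d hg' (q t) + w)) (by
        rw [← pow_two, ← tv_smul_vec, ← hgδ', ← tv_conj, mul_smul, mul_smul, hinv, (tr_Lv hl).smul, hq t,
          (tr_Lv hg').smul, (tr_Lv hg').smul, h1', ← mul_smul, ← el_add, ← mul_smul, ← el_add, add_assoc])]
      rw [Prod.snd_add, Prod.snd_add, Submodule.coe_add, Submodule.coe_add, form_add_left, form_add_left]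
      have hne : (1 + mu : F) ≠ 0 := fun e => hmu1 (CharTwo.add_eq_zero.1 e).symm
      have e1 : ∀ c : d.W, form (g' • (c : V)) (δ : V) = (1 + mu)⁻¹ * form (c : V) (δ : V) := fun c => by
        rw [← form_smul_smul g' (c : V) (δ : V), hgδ', form_smul_right, inv_mul_cancel_left₀ hne]
      have e2 : ((fLv d hg').symm w).2 = (d.lev hg').symm w.2 := rfl
      change form (g' • (tv (δ : V) t • (((fLv d hg').symm w).2 : V))) (δ : V) +
        (form (g' • ((q t).2 : V)) (δ : V) + r) = _
      have e3 : form (tv (δ : V) t • (((fLv d hg').symm w).2 : V)) (δ : V) =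
          form (((fLv d hg').symm w).2 : V) (δ : V) := by
        have h5 := form_smul_smul (tv (δ : V) t) (((fLv d hg').symm w).2 : V) (δ : V)
        rw [hfix] at h5
        exact h5
      rw [e1 ⟨tv (δ : V) t • (((fLv d hg').symm w).2 : V), d.move_mem hl ((fLv d hg').symm w).2.2⟩, e1 (q t).2, e3,
        ← e1, e2]
      change form ((d.lev hg' ((d.lev hg').symm w.2) : d.W) : V) (δ : V) + _ = _
      rw [AddEquiv.apply_symm_apply]
      linear_combination r * CharTwo.two_eq_zero (R := F)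
    have h := hadd t (mu * mu * t)
    rw [show t + mu * mu * t = (1 + mu) * (1 + mu) * t by linear_combination -(mu * t) * CharTwo.two_eq_zero (R := F),
      heq', heq] at h
    have hne : (1 + mu : F) ≠ 0 := fun e => hmu1 (CharTwo.add_eq_zero.1 e).symm
    have h' : β t * (mu * mu + mu + 1) = 0 := by
      field_simp at h
      linear_combination h + (β t * (mu * mu + mu + 1)) * CharTwo.two_eq_zero (R := F)
    exact (mul_eq_zero.1 h').resolve_right hmu2
  obtain ⟨c, hc⟩ := hfree (δ : V) (fun e => hδ0 (Subtype.ext e)) y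
  apply hc
  set c' := c / (mu ^ 2 - 1)
  have hge := Lv.fix_e hg
  have hmu3 : mu ^ 2 - 1 ≠ 0 := fun e => by
    rcases mul_self_eq_one_iff.1 (show mu * mu = 1 by linear_combination e) with h | h
    · exact hmu1 h
    · exact hmu1 (h.trans (CharTwo.neg_eq 1))
  obtain ⟨z, hz⟩ := hacts c'
  have h1 : ActsAs d y (g * tv (δ : V) c' * g⁻¹) (zg + z + -zg) :=
    (hzg.mul hge hz).mul (by rw [mul_smul, fix_tvW, hge]) (hzg.inv hge)
  rw [tv_conj, hgδ, tv_smul_vec, add_neg_cancel_comm] at h1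
  have h2 := h1.mul (fix_tvW δ _) (hz.inv (fix_tvW δ _))
  rw [tv_inv, tv_add, add_neg_cancel, show mu ^ 2 * c' + -c' = c' * (mu ^ 2 - 1) by ring,
    div_mul_cancel₀ _ hmu3, ActsAs, tv_zero, one_smul] at h2
  exact h2

/-- The bound in characteristic two. -/
theorem even_big (hm : 2 ≤ m) (hq : 4 ≤ Nat.card F) (hexc : 3 ≤ m ∨ 8 ≤ Nat.card F)
    (hfree : Free (m := m) (F := F) X) (x₀ : X) :
    Nat.card (Fin m ⊕ Fin m → F) - 1 ≤ (Nat.card F - 1) * Nat.card X := by
  obtain ⟨ψ⟩ := exists_sqChar (F := F)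
  obtain ⟨v₀, hv₀⟩ : ∃ v : V, v ≠ 0 := ⟨Pi.single (Sum.inl ⟨0, by omega⟩) 1, Pi.single_ne_zero_iff.mpr one_ne_zero⟩
  have hV : Nat.card V = Nat.card F ^ (2 * m) := by rw [Nat.card_fun, Nat.card_sum, Nat.card_fin, two_mul]
  have hW : ∀ d : HPair m F, Nat.card d.W = Nat.card F ^ (2 * m - 2) := fun d => by
    have hWV := d.card_W
    rw [hV, show 2 * m = 2 + (2 * m - 2) by omega, pow_add] at hWV
    exact (Nat.eq_of_mul_eq_mul_left (by positivity) hWV).symm
  have hcond : ∀ d : HPair m F, 8 ≤ Nat.card F ∨ (4 ≤ Nat.card F ∧ Nat.card F ^ 2 < Nat.card d.W) := fun d => by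
    rcases hexc with h | h
    · exact Or.inr ⟨hq, by rw [hW d]; exact Nat.pow_lt_pow_right (by omega) (by omega)⟩
    · exact Or.inl h
  by_cases hA : ∃ (ψ : SqChar F) (d : HPair m F) (v v' : d.W), eps ψ v = 1 ∧ eps ψ v' = -1 ∧
      3 ≤ nw ψ d X (1, v) + nw ψ d X (1, v')
  · obtain ⟨ψ, d, v, v', hP, hM, h3⟩ := hA
    obtain ⟨s, hs, hsP, hsM⟩ := eps_card ψ (d := d)
    rw [d.card_W]
    refine numeric_bound X h3 hs hsP hsM (class_bound ψ X hP hM) ?_ ?_
    · by_contra hlt
      push Not at hlt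
      have h := hW d
      rw [← hs] at h
      have h2 : Nat.card F ^ 2 ≤ Nat.card F ^ (2 * m - 2) := Nat.pow_le_pow_right (by omega) (by omega)
      rw [← h, pow_two] at h2
      exact absurd h2 (not_le.2 (Nat.mul_lt_mul'' hlt hlt))
    · rcases hexc with h | h
      · refine Or.inr ⟨hq, ?_⟩
        by_contra hlt
        push Not at hlt
        have h1 := hW d
        rw [← hs] at h1
        have h2 : 4 ^ 4 ≤ Nat.card F ^ (2 * m - 2) :=
          le_trans (Nat.pow_le_pow_left hq 4) (Nat.pow_le_pow_right (by omega) (by omega))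
        have h3 : s * s ≤ 8 * 8 := Nat.mul_le_mul (by omega) (by omega)
        omega
      · exact Or.inl h
  push Not at hA
  have hN : ∀ (ψ : SqChar F) (d : HPair m F) (v : d.W), nw ψ d X (1, v) ≤ 2 := fun ψ d v => by
    obtain ⟨vP, vM, hP, hM⟩ := exists_eps ψ (d := d) hm
    rcases ψ.cases (q0 (v : V)) with e | e
    · have := hA ψ d v vM e hM; omega
    · have := hA ψ d vP v hP e; omega
  obtain ⟨d₀, -⟩ := exists_hpair hv₀
  have hnF := not_fixed ψ (d := d₀) hq hm hfree (hN ψ d₀) x₀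
  simp only [Fixed, not_forall] at hnF
  obtain ⟨ψ', d, x, hD⟩ := hnF
  obtain ⟨w, hw, hc⟩ := exists_wt_ne ψ' (d := d) hfree x
  obtain ⟨g, s, hg, hx, hδ⟩ := exists_normalise ψ' x hw hc
  set y := g • x
  set v := s⁻¹ • w.2
  have hDy : Dir ψ' d y ≠ ⊥ := fun e => hD <| (AddSubgroup.eq_bot_iff_forall _).2 fun δ hd => by
    have := hδ δ hd
    rw [e, AddSubgroup.mem_bot, smul_eq_zero] at this
    exact this.resolve_left (inv_ne_zero hg.1)
  have htop : Dir ψ' d y = ⊤ := by
    by_cases hsmall : Nat.card d.W ≤ Nat.card F ^ 2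
    · exact not_line ψ' hm ((hcond d).resolve_right fun h => absurd h.2 (not_lt.2 hsmall)) hsmall hfree (hN ψ' d)
        hx hDy
    obtain ⟨δ, hδy, hδ0⟩ : ∃ δ ∈ Dir ψ' d y, δ ≠ 0 := by
      by_contra hcc; push Not at hcc; exact hDy ((AddSubgroup.eq_bot_iff_forall _).2 hcc)
    obtain ⟨a, haδ, ha⟩ : ∃ a : d.W, form (δ : V) (a : V) = 0 ∧ qv v (a : V) ≠ 0 := by
      by_contra hcc
      push Not at hcc
      -- the orthogonal of the direction is totally isotropic
      let φ : d.W →+ F := AddMonoidHom.mk' (fun b => form (δ : V) (b : V)) fun a b => form_add_right _ _ _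
      have hiso : ∀ a ∈ φ.ker, ∀ b ∈ φ.ker, ψ'.χ (pairW d a b) = 1 := fun a ha b hb => by
        have h1 := hcc (a + b) (AddMonoidHom.mem_ker.1 (φ.ker.add_mem ha hb))
        rw [Submodule.coe_add, qv_add, hcc a (AddMonoidHom.mem_ker.1 ha), hcc b (AddMonoidHom.mem_ker.1 hb),
          zero_add, zero_add] at h1
        rw [pairW_apply, h1, AddChar.map_zero_eq_one]
      have h1 := card_sq_le (pairW_perfect (d := d) ψ'.ne_zero) φ.ker hiso
      have h2 := φ.ker.card_mul_index
      rw [AddSubgroup.index_ker] at h2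
      have h3 : Nat.card φ.range ≤ Nat.card F := Nat.card_le_card_of_injective _ Subtype.val_injective
      have h4 : Nat.card φ.ker ≤ Nat.card F := by
        rw [← h2] at h1
        exact (Nat.le_of_mul_le_mul_left h1 Nat.card_pos).trans h3
      refine hsmall ?_
      rw [← h2, pow_two]
      exact Nat.mul_le_mul h4 h3
    exact dir_top_of_perp ψ' hm (hcond d) (hN ψ' d) hx hδy hδ0 (scale_to_one ha)
      (by rw [Submodule.coe_smul, form_smul_right, haδ, mul_zero])
  have hbound := reg_bound ψ' hq hm hfree (fun v v' h h' => by have := hA ψ' d v v' h h'; omega) hx htop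
  rw [d.card_W]
  obtain ⟨r, hr⟩ : ∃ r, Nat.card F = r + 1 := ⟨Nat.card F - 1, by omega⟩
  rw [hr, Nat.add_sub_cancel] at hbound ⊢
  have h1 : (r + 1) ^ 2 ≤ r * (2 * r) := by
    have h3r : 3 ≤ r := by omega
    nlinarith
  calc (r + 1) ^ 2 * Nat.card d.W - 1 ≤ (r + 1) ^ 2 * Nat.card d.W := Nat.sub_le _ _
    _ ≤ r * (2 * r) * Nat.card d.W := Nat.mul_le_mul_right _ h1
    _ = r * (2 * r * Nat.card d.W) := by ring
    _ ≤ _ := Nat.mul_le_mul_left _ hbound

end CfsgLib.MinIdxPSp
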