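import Cfsg.Agent.MinIdxPSp.FourFive
import Mathlib.GroupTheory.Transfer
import Mathlib.LinearAlgebra.Charpoly.Basic

/-!
Elements of order seventeen in dimension four over the field with four elements.
-/

set_option autoImplicit false
set_option linter.style.haveILetI false
set_option linter.unusedSectionVars false

namespace CfsgLib.MinIdxPSp

open Matrix CfsgLib.Symp Polynomial
open scoped Classical

variable {F : Type*} [Field F] [Finite F] [CharP F 2]

local notation "V" => Fin 2 ⊕ Fin 2 → F
local notation "Sp" => Matrix.symplecticGroup (Fin 2) F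

theorem card_V_four (h4 : Nat.card F = 4) : Nat.card (Fin 2 ⊕ Fin 2 → F) = 256 := by
  rw [Nat.card_fun, Nat.card_sum, Nat.card_fin, h4]; norm_num

theorem card_Sp_four (h4 : Nat.card F = 4) : Nat.card (Matrix.symplecticGroup (Fin 2) F) = 979200 := by
  rw [card_Sp, h4, Finset.prod_range_succ, Finset.prod_range_one]; norm_num

/-- The linear map of an element. -/
def linOf : Matrix.symplecticGroup (Fin 2) F →* Module.End F (Fin 2 ⊕ Fin 2 → F) where
  toFun g :=
    { toFun := fun v => g • v
      map_add' := smul_add g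
      map_smul' := fun c v => smul_comm g c v }
  map_one' := LinearMap.ext fun v => one_smul Sp v
  map_mul' := fun g h => LinearMap.ext fun v => mul_smul g h v

theorem linOf_apply (g : Sp) (v : V) : linOf g v = g • v := rfl

theorem linOf_injective : Function.Injective (linOf (F := F)) := fun _ _ h =>
  symp_ext fun v => LinearMap.congr_fun h v

theorem finrank_four : Module.finrank F (Fin 2 ⊕ Fin 2 → F) = 4 := by
  rw [Module.finrank_fintype_fun_eq_card]; simp

variable {g : Matrix.symplecticGroup (Fin 2) F}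

theorem invariant_cases (h4 : Nat.card F = 4) (hg : g ^ 17 = 1) (hg1 : g ≠ 1) :
    (∀ v : V, g • v = v → v = 0) ∧
      ∀ U : Submodule F (Fin 2 ⊕ Fin 2 → F), (∀ v ∈ U, g • v ∈ U) → U = ⊥ ∨ U = ⊤ := by
  have hp : Nat.Prime 17 := by norm_num
  have hcard : ∀ U : Submodule F V, ∃ j ≤ 4, (U : Set V).ncard = 4 ^ j ∧ (j = 0 → U = ⊥) ∧ (j = 4 → U = ⊤) := by
    intro U
    refine ⟨Module.finrank F U, finrank_four (F := F) ▸ U.finrank_le, ?_,
      Submodule.finrank_eq_zero.1, fun e => Submodule.eq_top_of_finrank_eq (by rw [e, finrank_four])⟩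
    rw [← Nat.card_coe_set_eq, ← h4]
    exact Module.natCard_eq_pow_finrank
  let Fix : Submodule F V :=
    { carrier := {v | g • v = v}
      zero_mem' := smul_zero g
      add_mem' := fun {a b} (ha : g • a = a) (hb : g • b = b) => by
        change g • (a + b) = a + b; rw [smul_add, ha, hb]
      smul_mem' := fun c a (ha : g • a = a) => by change g • c • a = c • a; rw [smul_comm, ha] }
  have hfix : ∀ v : V, g • v = v → v = 0 := by
    have h := fix_count hp hg (Set.univ : Set V) fun v _ => Set.mem_univ _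
    rw [Set.ncard_univ, card_V_four h4] at h
    have e : {v ∈ (Set.univ : Set V) | g • v = v} = (Fix : Set V) := by ext v; simp [Fix]
    obtain ⟨j, hj, hc, h0, ht⟩ := hcard Fix
    rw [e, hc] at h
    interval_cases j
    · intro v hv
      exact (Submodule.eq_bot_iff _).1 (h0 rfl) v hv
    · exact absurd h (by decide)
    · exact absurd h (by decide)
    · exact absurd h (by decide)
    · exfalso
      refine hg1 (symp_ext fun v => ?_)
      rw [one_smul]
      exact (ht rfl ▸ Submodule.mem_top : v ∈ Fix)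
  refine ⟨hfix, fun U hU => ?_⟩
  have h := fix_count hp hg (U : Set V) hU
  have e : {v ∈ (U : Set V) | g • v = v} = {0} := by
    ext v
    exact ⟨fun hv => hfix v hv.2, fun hv => by rw [hv]; exact ⟨U.zero_mem, smul_zero g⟩⟩
  obtain ⟨j, hj, hc, h0, ht⟩ := hcard U
  rw [e, Set.ncard_singleton, hc] at h
  interval_cases j
  · exact Or.inl (h0 rfl)
  · exact absurd h (by decide)
  · exact absurd h (by decide)
  · exact absurd h (by decide)
  · exact Or.inr (ht rfl)

theorem commute_zero_or_inj (h4 : Nat.card F = 4) (hg : g ^ 17 = 1) (hg1 : g ≠ 1)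
    {ψ : Module.End F (Fin 2 ⊕ Fin 2 → F)} (hψ : ψ * linOf g = linOf g * ψ) : ψ = 0 ∨ Function.Injective ψ := by
  have hinv : ∀ v ∈ LinearMap.ker ψ, g • v ∈ LinearMap.ker ψ := fun v hv => by
    rw [LinearMap.mem_ker] at hv ⊢
    have := LinearMap.congr_fun hψ v
    simp only [Module.End.mul_apply, linOf_apply, hv, smul_zero] at this
    exact this
  rcases (invariant_cases h4 hg hg1).2 _ hinv with e | e
  · exact Or.inr (LinearMap.ker_eq_bot.1 e)
  · exact Or.inl (LinearMap.ker_eq_top.1 e)

theorem form_aeval (h4 : Nat.card F = 4) (hg : g ^ 17 = 1) (p : F[X]) (x y : V) :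
    form (aeval (linOf g) p x) y = form x (aeval (linOf g) (p ^ 16) y) := by
  induction p using Polynomial.induction_on generalizing x y with
  | C a =>
    have ha : a ^ 16 = a := by
      haveI := Fintype.ofFinite F
      have h2 : a ^ 4 = a := by
        have h1 := FiniteField.pow_card a
        rwa [← Nat.card_eq_fintype_card, h4] at h1
      rw [show (16 : ℕ) = 4 * 4 from rfl, pow_mul, h2, h2]
    rw [← C_pow, ha, aeval_C, Module.algebraMap_end_apply, Module.algebraMap_end_apply, form_smul_left,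
      form_smul_right]
  | add p q hp hq =>
    rw [show (p + q) ^ 16 = p ^ 16 + q ^ 16 from add_pow_char_pow (p := 2) (n := 4) p q, map_add, map_add,
      LinearMap.add_apply, LinearMap.add_apply, form_add_left, form_add_right, hp, hq]
  | monomial n a ih =>
    have hinv : g ^ 16 = g⁻¹ := eq_inv_of_mul_eq_one_left (by rw [← pow_succ]; exact hg)
    rw [pow_succ X n, ← mul_assoc, mul_pow, map_mul, Module.End.mul_apply, ih, aeval_X, linOf_apply,
      map_mul (aeval (linOf g)) _ (X ^ 16), map_pow (aeval (linOf g)) X, aeval_X, ← map_pow, hinv]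
    rw [show ∀ z : V, form (g • x) z = form x (g⁻¹ • z) from fun z => by
      rw [← form_smul_smul g⁻¹ (g • x) z, inv_smul_smul]]
    have hc := LinearMap.congr_fun (show aeval (linOf g) ((C a * X ^ n) ^ 16) * linOf g⁻¹ =
      linOf g⁻¹ * aeval (linOf g) ((C a * X ^ n) ^ 16) by
        rw [← hinv, map_pow linOf, show linOf g ^ 16 = aeval (linOf g) (X ^ 16 : F[X]) by rw [map_pow, aeval_X],
          ← map_mul, ← map_mul, mul_comm]) y
    simp only [Module.End.mul_apply, linOf_apply] at hc ⊢
    rw [hc]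

theorem aeval_comm (p : F[X]) : aeval (linOf g) p * linOf g = linOf g * aeval (linOf g) p := by
  have h := map_mul (aeval (linOf g)) p X
  rw [aeval_X] at h
  rw [← h, mul_comm, map_mul, aeval_X]

theorem commute_pow (h4 : Nat.card F = 4) (hg : g ^ 17 = 1) (hg1 : g ≠ 1)
    {h : Matrix.symplecticGroup (Fin 2) F} (hh : h * g = g * h) : h ^ 17 = 1 := by
  obtain ⟨v, hv⟩ : ∃ v : V, v ≠ 0 := ⟨Pi.single (Sum.inl 0) 1, Pi.single_ne_zero_iff.mpr one_ne_zero⟩
  let U : Submodule F V := LinearMap.range ((LinearMap.applyₗ v).comp (aeval (R := F) (linOf g)).toLinearMap)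
  have hUtop : U = ⊤ := by
    refine ((invariant_cases h4 hg hg1).2 U ?_).resolve_left fun e => hv ?_
    · rintro _ ⟨p, rfl⟩
      exact ⟨X * p, by simp [linOf_apply]⟩
    · exact (Submodule.eq_bot_iff _).1 e v ⟨1, by simp⟩
  obtain ⟨p, hp⟩ : linOf h v ∈ U := hUtop ▸ Submodule.mem_top
  simp only [LinearMap.comp_apply, AlgHom.toLinearMap_apply, LinearMap.applyₗ_apply_apply] at hp
  have heq : linOf h = aeval (linOf g) p := by
    refine sub_eq_zero.1 ((commute_zero_or_inj h4 hg hg1 (ψ := linOf h - aeval (linOf g) p) ?_).resolve_right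
      fun hinj => hv (hinj (by simp [hp])))
    rw [sub_mul, mul_sub, ← map_mul, hh, map_mul, aeval_comm]
  refine linOf_injective ?_
  rw [map_pow, map_one, heq]
  refine LinearMap.ext fun y => ?_
  rw [Module.End.one_apply, ← sub_eq_zero]
  refine eq_zero_of_form_eq_zero fun x => ?_
  rw [← map_pow, pow_succ, map_mul, Module.End.mul_apply]
  have key : ∀ z : V, form z (aeval (linOf g) (p ^ 16) (aeval (linOf g) p y) - y) = 0 := fun z => by
    rw [form_sub_right, ← form_aeval h4 hg, ← heq, linOf_apply, linOf_apply, form_smul_smul, sub_self]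
  exact key x

/-- At most four conjugates of an element of order seventeen are powers of it. -/
theorem conj_bound (h4 : Nat.card F = 4) (hg : g ^ 17 = 1) (hg1 : g ≠ 1) :
    {c | c ∈ Subgroup.zpowers g ∧ ∃ t : Sp, c = t * g * t⁻¹}.ncard ≤ 4 := by
  let K : Subalgebra F (Module.End F V) := (aeval (linOf g)).range
  letI : CommRing K :=
    { (inferInstance : Ring K) with
      mul_comm := by
        rintro ⟨_, a, rfl⟩ ⟨_, b, rfl⟩
        exact Subtype.ext (show aeval (linOf g) a * aeval (linOf g) b = _ by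
          rw [← map_mul, mul_comm, map_mul]; rfl) }
  haveI : NoZeroDivisors K := ⟨fun {a b} hab => by
    obtain ⟨_, p, rfl⟩ := a
    rcases commute_zero_or_inj h4 hg hg1 (ψ := aeval (linOf g) p) (aeval_comm p) with e | e
    · exact Or.inl (Subtype.ext e)
    · refine Or.inr (Subtype.ext (LinearMap.ext fun v => e ?_))
      have := LinearMap.congr_fun (congrArg Subtype.val hab) v
      simpa using this⟩
  haveI : Nontrivial K := ⟨⟨0, 1, fun e => by
    obtain ⟨v, hv⟩ : ∃ v : V, v ≠ 0 := ⟨Pi.single (Sum.inl 0) 1, Pi.single_ne_zero_iff.mpr one_ne_zero⟩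
    exact hv (LinearMap.congr_fun (congrArg Subtype.val e) v).symm⟩⟩
  haveI : IsDomain K := NoZeroDivisors.to_isDomain K
  set χp : F[X] := (linOf g).charpoly
  have hne : χp.map (algebraMap F K) ≠ 0 := by
    refine Polynomial.Monic.ne_zero (Monic.map _ ?_)
    exact LinearMap.charpoly_monic _
  have hsub : {c | c ∈ Subgroup.zpowers g ∧ ∃ t : Sp, c = t * g * t⁻¹}.ncard ≤
      (χp.map (algebraMap F K)).roots.toFinset.card := by
    have hmem : ∀ c ∈ Subgroup.zpowers g, linOf c ∈ K := by
      intro c hc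
      haveI : Finite (Matrix.symplecticGroup (Fin 2) F) := inferInstance
      obtain ⟨n, rfl⟩ := (mem_powers_iff_mem_zpowers (x := g)).2 hc
      exact ⟨X ^ n, by simp⟩
    rw [← Set.ncard_coe_finset]
    refine Set.ncard_le_ncard_of_injOn (fun c => if h : c ∈ Subgroup.zpowers g then ⟨linOf c, hmem c h⟩ else 0)
      ?_ ?_
    · rintro c ⟨hc, t, ht⟩
      simp only [dif_pos hc, Finset.mem_coe, Multiset.mem_toFinset, mem_roots hne, IsRoot.def, eval_map_algebraMap]
      refine Subtype.ext ?_
      change K.val (aeval _ χp) = 0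
      rw [← aeval_algHom_apply]
      change aeval (linOf c) χp = 0
      have hsc : ∀ q : F[X], aeval (linOf c) q * linOf t = linOf t * aeval (linOf g) q := fun q => by
        induction q using Polynomial.induction_on' with
        | add a b ha hb => rw [map_add, map_add, add_mul, mul_add, ha, hb]
        | monomial n a =>
          have hn : c ^ n * t = t * g ^ n := by rw [ht, conj_pow, inv_mul_cancel_right]
          rw [aeval_monomial, aeval_monomial, mul_assoc, ← map_pow linOf, ← map_mul, hn, map_mul, map_pow linOf,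
            ← mul_assoc, Algebra.commutes, mul_assoc]
      have h1 := hsc χp
      rw [LinearMap.aeval_self_charpoly, mul_zero] at h1
      have h2 := congrArg (· * linOf t⁻¹) h1
      simp only [mul_assoc, ← map_mul, mul_inv_cancel, map_one, mul_one, zero_mul] at h2
      exact h2
    · rintro c ⟨hc, -⟩ c' ⟨hc', -⟩ e
      simp only [dif_pos hc, dif_pos hc'] at e
      exact linOf_injective (congrArg Subtype.val e)
  refine hsub.trans ((Multiset.toFinset_card_le _).trans ((card_roots' _).trans ?_))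
  refine natDegree_map_le.trans ?_
  rw [LinearMap.charpoly_natDegree, finrank_four]

/-- The normaliser of a Sylow seventeen-subgroup inside a subgroup. -/
theorem normalizer_seventeen (h4 : Nat.card F = 4) (H : Subgroup (Matrix.symplecticGroup (Fin 2) F))
    (h17 : 17 ∣ Nat.card H) :
    ∃ o ∈ Finset.Icc 1 4, 17 * o ∣ Nat.card H ∧ (Nat.card H / (17 * o)) % 17 = 1 ∧
      ∃ P : Sylow 17 H, Nat.card P = 17 ∧ (o = 1 → Subgroup.normalizer (P : Set H) = P) := by
  haveI : Fact (Nat.Prime 17) := ⟨by norm_num⟩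
  obtain ⟨P⟩ : Nonempty (Sylow 17 H) := Sylow.nonempty
  have hdvd : Nat.card H ∣ 979200 := card_Sp_four h4 ▸ Subgroup.card_subgroup_dvd_card H
  have hsq : ∀ {n : ℕ}, 17 ^ n ∣ 979200 → n ≤ 1 := fun {n} hn => by
    by_contra hn2
    exact absurd ((pow_dvd_pow 17 (by omega : 2 ≤ n)).trans hn) (by norm_num)
  have hPc : Nat.card P = 17 := by
    obtain ⟨n, hn⟩ := P.2.exists_card_eq
    have h1 : n ≤ 1 := hsq (hn ▸ (Subgroup.card_subgroup_dvd_card (P : Subgroup H)).trans hdvd)
    have h2 : 17 ∣ Nat.card P := P.dvd_card_of_dvd_card h17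
    interval_cases n
    · rw [pow_zero] at hn
      rw [show Nat.card P = 1 from hn] at h2
      norm_num at h2
    · simpa using hn
  obtain ⟨⟨g, hgP⟩, hg1⟩ : ∃ g : P, g ≠ 1 := by
    haveI : Nontrivial P := Finite.one_lt_card_iff_nontrivial.1 (by rw [hPc]; norm_num)
    exact exists_ne 1
  have hg1' : (g : Sp) ≠ 1 := fun e => hg1 (Subtype.ext (Subtype.ext e))
  have hg17 : (g : Sp) ^ 17 = 1 := by
    have h1 : (⟨g, hgP⟩ : (P : Subgroup H)) ^ Nat.card (P : Subgroup H) = 1 := pow_card_eq_one'
    have h2 : ((g : Sp)) ^ Nat.card (P : Subgroup H) = 1 :=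
      congrArg (fun q : (P : Subgroup H) => ((q : H) : Sp)) h1
    rwa [show Nat.card (P : Subgroup H) = 17 from hPc] at h2
  have hord : orderOf g = 17 := orderOf_eq_prime (Subtype.ext (by simpa using hg17)) fun e => hg1' (by rw [e]; rfl)
  have hPg : Subgroup.zpowers g = (P : Subgroup H) :=
    Subgroup.eq_of_le_of_card_ge ((Subgroup.zpowers_le).2 hgP) (by rw [Nat.card_zpowers, hord]; exact hPc.le)
  set N := Subgroup.normalizer (P : Set H)
  -- the elements commuting with the generator
  set C : Subgroup H := Subgroup.centralizer {g}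
  have hC : Nat.card C ≤ 17 := by
    have hp : IsPGroup 17 C := fun ⟨c, hc⟩ => ⟨1, by
      have h1 : (c : Sp) * g = g * c := congrArg Subtype.val (Subgroup.mem_centralizer_iff.1 hc g rfl).symm
      exact Subtype.ext (Subtype.ext (by simpa using commute_pow h4 hg17 hg1' h1))⟩
    obtain ⟨n, hn⟩ := hp.exists_card_eq
    have h1 : n ≤ 1 := hsq (hn ▸ (Subgroup.card_subgroup_dvd_card C).trans hdvd)
    rw [hn]
    calc 17 ^ n ≤ 17 ^ 1 := Nat.pow_le_pow_right (by norm_num) h1
      _ = 17 := pow_one _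
  set O : Set Sp := {c | c ∈ Subgroup.zpowers (g : Sp) ∧ ∃ t : Sp, c = t * g * t⁻¹}
  have hO : O.ncard ≤ 4 := conj_bound h4 hg17 hg1'
  let π : N → O := fun t => ⟨((t.1 * g * t.1⁻¹ : H) : Sp), by
    refine ⟨?_, (t.1 : Sp), by simp⟩
    have h1 : t.1 * g * t.1⁻¹ ∈ (P : Subgroup H) := (Subgroup.mem_normalizer_iff.1 t.2 g).1 hgP
    rw [← hPg, Subgroup.mem_zpowers_iff] at h1
    obtain ⟨k, hk⟩ := h1
    exact Subgroup.mem_zpowers_iff.2 ⟨k, by rw [← hk]; simp⟩⟩
  have hN : Nat.card N ≤ 4 * 17 := by
    have hNO : Nat.card N ≤ Nat.card (O × C) := by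
      refine Nat.card_le_card_of_injective (fun t => (π t, ⟨(Function.invFun π (π t)).1⁻¹ * t.1, ?_⟩)) ?_
      · have e : π (Function.invFun π (π t)) = π t := Function.invFun_eq ⟨t, rfl⟩
        set r := Function.invFun π (π t)
        have e'' : ((r.1 * g * r.1⁻¹ : H) : Sp) = ((t.1 * g * t.1⁻¹ : H) : Sp) :=
          congrArg (fun c : O => c.1) e
        have e' : r.1 * g * r.1⁻¹ = t.1 * g * t.1⁻¹ := Subtype.ext e''
        refine Subgroup.mem_centralizer_iff.2 fun x hx => ?_
        rw [Set.mem_singleton_iff.1 hx]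
        calc g * (r.1⁻¹ * t.1) = r.1⁻¹ * (r.1 * g * r.1⁻¹) * t.1 := by group
          _ = r.1⁻¹ * (t.1 * g * t.1⁻¹) * t.1 := by rw [e']
          _ = r.1⁻¹ * t.1 * g := by group
      · intro a b e
        simp only [Prod.mk.injEq, Subtype.mk.injEq] at e
        obtain ⟨e1, e2⟩ := e
        rw [e1] at e2
        exact Subtype.ext (mul_left_cancel e2)
    rw [Nat.card_prod, Nat.card_coe_set_eq] at hNO
    exact hNO.trans (Nat.mul_le_mul hO hC)
  have hPN : (P : Subgroup H) ≤ N := Subgroup.le_normalizer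
  obtain ⟨o, ho⟩ := Subgroup.card_dvd_of_le hPN
  rw [show Nat.card (P : Subgroup H) = 17 from hPc] at ho
  have hpos : 0 < Nat.card N := Nat.card_pos
  have hmod := card_sylow_modEq_one 17 H
  rw [P.card_eq_index_normalizer] at hmod
  have hidx := N.card_mul_index
  refine ⟨o, Finset.mem_Icc.2 ⟨by have : 0 < 17 * o := ho ▸ hpos; omega, by omega⟩,
    ⟨N.index, by rw [← ho]; exact hidx.symm⟩, ?_, P, hPc, fun e => ?_⟩
  · rw [← ho, ← hidx, Nat.mul_div_cancel_left _ hpos]
    exact hmod
  · exact (Subgroup.eq_of_le_of_card_ge hPN (by rw [ho, e, mul_one]; exact hPc.ge)).symm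

set_option maxHeartbeats 1000000 in
/-- No subgroup of order thirteen thousand six hundred. -/
theorem no_13600 (h4 : Nat.card F = 4) (H : Subgroup (Matrix.symplecticGroup (Fin 2) F))
    (hH : Nat.card H = 13600) : False := by
  haveI : Fact (Nat.Prime 17) := ⟨by norm_num⟩
  haveI : Fact (Nat.Prime 5) := ⟨by norm_num⟩
  obtain ⟨o, ho, -, hmod, P, hPc, hN⟩ := normalizer_seventeen h4 H (by rw [hH]; norm_num)
  rw [hH] at hmod
  rw [Finset.mem_Icc] at ho
  obtain ⟨ho1, ho4⟩ := ho
  have ho' : o = 1 := by interval_cases o <;> simp_all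
  haveI : IsCyclic P := isCyclic_of_prime_card hPc
  have hle : Subgroup.normalizer (P : Set H) ≤ Subgroup.centralizer (P : Set H) := by
    rw [hN ho']
    exact Subgroup.le_centralizer (P : Subgroup H)
  set K := (MonoidHom.transferSylow P hle).ker
  have hK : Nat.card K = 800 := by
    have h1 := (MonoidHom.ker_transferSylow_isComplement' P hle).card_mul
    rw [show Nat.card (P : Subgroup H) = 17 from hPc, hH] at h1
    change Nat.card K * 17 = 13600 at h1
    omega
  haveI : K.Normal := MonoidHom.normal_ker _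
  obtain ⟨⟨g, hgP⟩, hg1⟩ : ∃ g : P, g ≠ 1 := by
    haveI : Nontrivial P := Finite.one_lt_card_iff_nontrivial.1 (by rw [hPc]; norm_num)
    exact exists_ne 1
  have hg1' : (g : Sp) ≠ 1 := fun e => hg1 (Subtype.ext (Subtype.ext e))
  have hg17H : g ^ 17 = 1 := by
    have h1 : (⟨g, hgP⟩ : (P : Subgroup H)) ^ Nat.card (P : Subgroup H) = 1 := pow_card_eq_one'
    have h2 : g ^ Nat.card (P : Subgroup H) = 1 := congrArg (fun q : (P : Subgroup H) => (q : H)) h1
    rwa [show Nat.card (P : Subgroup H) = 17 from hPc] at h2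
  have hg17 : (g : Sp) ^ 17 = 1 := by simpa using congrArg Subtype.val hg17H
  -- a Sylow five-subgroup of the complement fixed by the generator
  let σ : H →* MulAut K := MulAut.conjNormal
  obtain ⟨Q₀⟩ : Nonempty (Sylow 5 K) := Sylow.nonempty
  have hQc : Nat.card Q₀ = 25 := by
    rw [Q₀.card_eq_multiplicity, hK, show (800 : ℕ) = 5 ^ 2 * 32 by norm_num,
      Nat.factorization_mul (by norm_num) (by norm_num), Finsupp.add_apply,
      Nat.Prime.factorization_pow (by norm_num), Finsupp.single_eq_same,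
      Nat.factorization_eq_zero_of_not_dvd (by norm_num : ¬ 5 ∣ 32)]
    norm_num
  have hn5 : Nat.card (Sylow 5 K) = 1 ∨ Nat.card (Sylow 5 K) = 16 := by
    have h1 := card_sylow_modEq_one 5 K
    have h2 := Q₀.card_dvd_index
    have h3 := (Q₀ : Subgroup K).card_mul_index
    rw [show Nat.card (Q₀ : Subgroup K) = 25 from hQc, hK] at h3
    rw [show (Q₀ : Subgroup K).index = 2 ^ 5 by omega] at h2
    obtain ⟨i, hi, he⟩ := (Nat.dvd_prime_pow Nat.prime_two).1 h2
    unfold Nat.ModEq at h1
    rw [he] at h1 ⊢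
    interval_cases i <;> simp_all
  letI : MulAction H (Sylow 5 K) := MulAction.compHom _ σ
  have hfix := fix_count (α := Sylow 5 K) (by norm_num : Nat.Prime 17) hg17H Set.univ fun y _ => Set.mem_univ _
  obtain ⟨Q, -, hQ⟩ : {Q ∈ (Set.univ : Set (Sylow 5 K)) | g • Q = Q}.Nonempty := by
    refine Set.nonempty_of_ncard_ne_zero fun e => ?_
    rw [e, Set.ncard_univ] at hfix
    rcases hn5 with h | h <;> rw [h] at hfix <;> exact absurd hfix (by decide)
  letI : MulAction H K := MulAction.compHom _ σ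
  have hQc' : Nat.card Q = 25 := by rw [← hQc]; exact (Nat.card_congr (Q.equiv Q₀).toEquiv)
  have hinv : ∀ k ∈ (Q : Set K), g • k ∈ (Q : Set K) := fun k hk => by
    have h1 : σ g k ∈ ((σ g • Q : Sylow 5 K) : Subgroup K) := Subgroup.smul_mem_pointwise_smul k (σ g) _ hk
    rw [show σ g • Q = Q from hQ] at h1
    exact h1
  have hfix2 := fix_count (α := K) (by norm_num : Nat.Prime 17) hg17H (Q : Set K) hinv
  rw [show (Q : Set K).ncard = 25 by rw [← hQc', ← Nat.card_coe_set_eq]; rfl] at hfix2
  obtain ⟨k, ⟨hkQ, hk⟩, hk1⟩ : ∃ k ∈ {k ∈ (Q : Set K) | g • k = k}, k ≠ 1 := by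
    by_contra hc
    push Not at hc
    have h1 : {k ∈ (Q : Set K) | g • k = k}.ncard ≤ 1 :=
      (Set.ncard_le_ncard (t := {1}) fun k hk => hc k hk).trans (le_of_eq (Set.ncard_singleton _))
    unfold Nat.ModEq at hfix2
    omega
  apply hk1
  have hk' : g * (k : H) * g⁻¹ = k := congrArg Subtype.val (show σ g k = k from hk)
  have h17 := commute_pow h4 hg17 hg1' (h := ((k : H) : Sp)) (by
    exact congrArg Subtype.val (mul_inv_eq_iff_eq_mul.1 hk').symm)
  have h25 : k ^ 25 = 1 := by
    have h1 : (⟨k, hkQ⟩ : Q) ^ 25 = 1 := by rw [← hQc']; exact pow_card_eq_one'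
    exact congrArg (fun q : Q => (q : K)) h1
  have h17' : k ^ 17 = 1 := Subtype.ext (Subtype.ext (by simpa using h17))
  exact orderOf_eq_one_iff.1 (Nat.eq_one_of_dvd_coprimes (by norm_num : Nat.Coprime 25 17)
    (orderOf_dvd_of_pow_eq_one h25) (orderOf_dvd_of_pow_eq_one h17'))

end CfsgLib.MinIdxPSp
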