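import Cfsg.Agent.MinIdxPSp.FourFixed
import Cfsg.Agent.MinIdxPSp.FourSeventeen

/-!
The bound for the symplectic group in dimension four over the field with four elements.
-/

set_option autoImplicit false
set_option linter.style.haveILetI false
set_option linter.unusedSectionVars false

namespace CfsgLib.MinIdxPSp

open Matrix CfsgLib.Symp
open scoped Classical

variable {F : Type*} [Field F] [Finite F] [CharP F 2]
variable {X : Type*} [MulAction (Matrix.symplecticGroup (Fin 2) F) X] [Finite X]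

local notation "V" => Fin 2 ⊕ Fin 2 → F
local notation "Sp" => Matrix.symplecticGroup (Fin 2) F

theorem rep_eq (h4 : Nat.card F = 4) (hfree : Free (m := 2) (F := F) X) {u : V} (hu : u ≠ 0) {x : X} {c : F}
    (hc : c ≠ 0) (h1 : tv u 1 • x = x) (h2 : tv (c • u) 1 • x = x) : c = 1 := by
  by_contra hne
  obtain ⟨ω, hω⟩ := exists_omega (F := F) h4
  obtain ⟨z, hz⟩ := hfree u hu x
  rw [tv_smul_vec, mul_one] at h2
  have h3 : tv u (1 + c ^ 2) • x = x := by rw [← tv_add, mul_smul, h2, h1]
  apply hz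
  have hc2 : c ^ 2 ≠ 1 := fun e => hne (by
    rcases mul_self_eq_one_iff.1 (show c * c = 1 by rw [← e, pow_two]) with e | e
    · exact e
    · rw [e, CharTwo.neg_eq])
  by_cases z0 : z = 0
  · rw [z0, tv_zero, one_smul]
  by_cases z1 : z = 1
  · rw [z1, h1]
  by_cases z2 : z = c ^ 2
  · rw [z2, h2]
  by_cases z3 : z = 1 + c ^ 2
  · rw [z3, h3]
  exfalso
  haveI := Fintype.ofFinite F
  have := Finset.card_le_univ ({z, 0, 1, c ^ 2, 1 + c ^ 2} : Finset F)
  rw [← Nat.card_eq_fintype_card, h4] at this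
  have a1 : (1 : F) + c ^ 2 ≠ 0 := fun e => hc2 (CharTwo.add_eq_zero.1 e).symm
  have a2 : c ^ 2 ≠ 0 := pow_ne_zero 2 hc
  have a3 : (1 : F) ≠ 1 + c ^ 2 := fun e => a2 (by linear_combination -e)
  have a4 : c ^ 2 ≠ 1 + c ^ 2 := fun e => one_ne_zero (α := F) (by linear_combination -e)
  simp [Finset.card_insert_of_notMem, z0, z1, z2, z3, a1.symm, a2.symm, a3, a4, hc2.symm] at this

theorem rep_false (h4 : Nat.card F = 4) (hfree : Free (m := 2) (F := F) X) (x : X)
    (hall : ∀ u : V, u ≠ 0 → ∃ c : F, c ≠ 0 ∧ tv (c • u) 1 • x = x) : False := by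
  obtain ⟨ω, hω⟩ := exists_omega (F := F) h4
  have two := CharTwo.two_eq_zero (R := F)
  have hω0 := k_ne hω
  have hω1 : ω ≠ 1 := fun e => one_ne_zero (α := F) (by rw [e] at hω; linear_combination hω - two)
  set R : Set V := {u | u ≠ 0 ∧ tv u 1 • x = x}
  have hscale : ∀ {u : V} {c : F}, c ≠ 0 → u ∈ R → c • u ∈ R → c = 1 := fun {u c} hc h h' =>
    rep_eq h4 hfree h.1 hc h.2 h'.2
  have hconj : ∀ {r s : V}, r ∈ R → s ∈ R → r + form r s • s ∈ R := fun {r s} hr hs => by
    have e : tv s 1 • r = r + form r s • s := by rw [tv_smul, one_mul]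
    refine ⟨fun h => hr.1 (MulAction.injective (tv s (1 : F)) (by simp only; rw [e, h, smul_zero])), ?_⟩
    have hinv : (tv s (1 : F))⁻¹ • x = x := inv_smul_eq_iff.2 hs.2.symm
    rw [← e, ← tv_conj, mul_smul, mul_smul, hinv, hr.2, hs.2]
  have hne1 : ∀ {r s : V}, r ∈ R → s ∈ R → form r s ≠ 1 := by
    intro r s hr hs h1
    have hne : r + ω • s ≠ 0 := fun e => by
      have := congrArg (fun v => form v s) e
      simp [form_add_left, form_smul_left, form_self, h1, form_zero_left] at this
    obtain ⟨k, hk, hu⟩ := hall _ hne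
    have huR : k • (r + ω • s) ∈ R := ⟨smul_ne_zero hk hne, hu⟩
    have hrs : r + s ∈ R := by have := hconj hr hs; rwa [h1, one_smul] at this
    have er : r + form r (k • (r + ω • s)) • k • (r + ω • s) ∈ R := hconj hr huR
    have es : s + form s (k • (r + ω • s)) • k • (r + ω • s) ∈ R := hconj hs huR
    rw [form_smul_right, form_add_right, form_self, form_smul_right, h1, mul_one, zero_add] at er
    rw [form_smul_right, form_add_right, form_smul_right, form_self, form_comm s r, h1, mul_zero, add_zero,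
      mul_one] at es
    rcases four_cases h4 hω k with e | e | e | e
    · exact hk e
    · subst e
      have : r + (1 * ω) • (1 : F) • (r + ω • s) = (1 + ω) • (r + s) := by
        match_scalars <;> grind
      rw [this] at er
      exact hω0 (by linear_combination hscale (fun h => hω1 (CharTwo.add_eq_zero.1 h).symm) hrs er)
    · rw [e] at er
      have : r + (ω * ω) • ω • (r + ω • s) = ω • s := by match_scalars <;> grind
      rw [this] at er
      exact hω1 (hscale hω0 hs er)
    · subst e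
      have : s + (ω + 1) • (ω + 1) • (r + ω • s) = ω • (r + s) := by match_scalars <;> grind
      rw [this] at es
      exact hω1 (hscale hω0 hrs es)
  have hprod : ∀ {r s w : V}, r ∈ R → s ∈ R → w ∈ R → form r s = 0 → form r w * form s w ≠ 1 := by
    intro r s w hr hs hw h0 h1
    apply hne1 (hconj hr hw) hs
    rw [form_add_left, form_smul_left, h0, zero_add, form_comm w s, h1]
  obtain ⟨e, he⟩ : ∃ e : V, e ≠ 0 := ⟨Pi.single (Sum.inl 0) 1, Pi.single_ne_zero_iff.mpr one_ne_zero⟩
  obtain ⟨d, rfl⟩ := exists_hpair he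
  obtain ⟨a, ha⟩ := W_ne d (le_refl 2)
  obtain ⟨b, hb, hab⟩ := d.nondeg_W a a.2 fun e => ha (Subtype.ext e)
  obtain ⟨c, hc, hr⟩ := hall d.e d.e_ne
  obtain ⟨c', hc', hs⟩ := hall (a : V) fun e => ha (Subtype.ext e)
  have hrR : c • d.e ∈ R := ⟨smul_ne_zero hc d.e_ne, hr⟩
  have hsR : c' • (a : V) ∈ R := ⟨smul_ne_zero hc' fun e => ha (Subtype.ext e), hs⟩
  set y : V := c⁻¹ • d.f + (c'⁻¹ * ω / form (a : V) b) • b
  have hry : form (c • d.e) y = 1 := by
    simp [y, form_add_right, form_smul_left, form_smul_right, d.hef, (d.mem_W.1 hb).1, inv_mul_cancel₀ hc]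
  have hsy : form (c' • (a : V)) y = ω := by
    simp only [y, form_add_right, form_smul_left, form_smul_right, form_zero_swap (d.Wf a), mul_zero, zero_add]
    field_simp
  have hy : y ≠ 0 := fun e => by rw [e, form_zero_right] at hry; exact zero_ne_one hry
  obtain ⟨k, hk, hw⟩ := hall y hy
  have hwR : k • y ∈ R := ⟨smul_ne_zero hk hy, hw⟩
  have h1 := hne1 hrR hwR
  have h2 := hne1 hsR hwR
  have h3 := hprod hrR hsR hwR (by rw [form_smul_left, form_smul_right, d.We a, mul_zero, mul_zero])
  rw [form_smul_right, hry, mul_one] at h1 h3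
  rw [form_smul_right, hsy] at h2 h3
  rcases four_cases h4 hω k with e | e | e | e
  · exact hk e
  · exact h1 e
  · subst e; exact h3 (by grind)
  · subst e; exact h2 (by grind)

theorem thirtysix (h4 : Nat.card F = 4) (hfree : Free (m := 2) (F := F) X)
    [MulAction.IsPretransitive (Matrix.symplecticGroup (Fin 2) F) X] (x₀ : X) (hn : Nat.card X = 36) : False := by
  haveI : Fact (Nat.Prime 17) := ⟨by norm_num⟩
  haveI := Fintype.ofFinite X
  haveI := Fintype.ofFinite V
  obtain ⟨d, -⟩ := exists_hpair (v := (Pi.single (Sum.inl 0) 1 : V)) (Pi.single_ne_zero_iff.mpr one_ne_zero)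
  -- some transvection fixes a point
  obtain ⟨z, hz, x, hx⟩ : ∃ z : F, z ≠ 0 ∧ ∃ x : X, tv d.e z • x = x := by
    by_contra hc
    push Not at hc
    obtain ⟨S, he, hf, -, hmod, b, hb, -, hsemi⟩ := fixed_bound h4 hfree d
    rw [hn] at hmod hb
    have hS := hsemi hc
    have h0 := no_small d h4 hfree S he hf (by omega)
    rw [h0, Set.ncard_empty] at hmod
    exact absurd hmod (by decide)
  set R : X → Set V := fun y => {u | u ≠ 0 ∧ tv u 1 • y = y}
  have hconst : ∀ y, (R y).ncard = (R x₀).ncard := by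
    intro y
    obtain ⟨h, rfl⟩ := MulAction.exists_smul_eq Sp x₀ y
    have e : R (h • x₀) = (fun u => h • u) '' R x₀ := by
      ext u
      constructor
      · rintro ⟨h0, h1⟩
        refine ⟨h⁻¹ • u, ⟨fun e => h0 ?_, ?_⟩, smul_inv_smul h u⟩
        · rw [← smul_inv_smul h u, e, smul_zero]
        · refine MulAction.injective h ?_
          show h • tv (h⁻¹ • u) 1 • x₀ = h • x₀
          conv_rhs => rw [← h1]
          rw [← mul_smul, ← mul_smul]
          congr 1
          have := tv_conj h (h⁻¹ • u) (1 : F)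
          rw [smul_inv_smul, mul_inv_eq_iff_eq_mul] at this
          exact this
      · rintro ⟨v, ⟨h0, h1⟩, rfl⟩
        refine ⟨fun e => h0 (MulAction.injective h (show h • v = h • (0 : V) by rw [smul_zero]; exact e)), ?_⟩
        rw [← tv_conj, mul_smul, mul_smul, inv_smul_smul, h1]
    rw [e, Set.ncard_image_of_injective _ (MulAction.injective h)]
  set f : V → ℕ := fun u => {y : X | tv u 1 • y = y}.ncard
  have hf : ∀ u u' : V, u ≠ 0 → u' ≠ 0 → f u ≤ f u' := by
    intro u u' hu hu'
    obtain ⟨g, rfl⟩ := exists_smul_eq_of_ne_zero hu hu'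
    refine Set.ncard_le_ncard_of_injOn (fun y => g • y) (fun y hy => ?_) (MulAction.injective g).injOn
    show tv (g • u) 1 • g • y = g • y
    rw [← tv_conj, mul_smul, mul_smul, inv_smul_smul, hy]
  set D := (R x₀).ncard
  have hdc : 36 * D = 255 * f d.e := by
    have key := Finset.sum_card_bipartiteAbove_eq_sum_card_bipartiteBelow (s := (Finset.univ : Finset X))
      (t := (Finset.univ : Finset V).erase 0) (fun y u => tv u 1 • y = y)
    have h1 : ∀ y : X, (((Finset.univ : Finset V).erase 0).bipartiteAbove (fun y u => tv u 1 • y = y) y).card =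
        D := fun y => by
      rw [← hconst y, ← Set.ncard_coe_finset]
      congr 1
      ext u
      simp [Finset.bipartiteAbove, R]
    have h2 : ∀ u ∈ (Finset.univ : Finset V).erase 0,
        ((Finset.univ : Finset X).bipartiteBelow (fun y u => tv u 1 • y = y) u).card = f d.e := fun u hu => by
      rw [← le_antisymm (hf u d.e (Finset.ne_of_mem_erase hu) d.e_ne) (hf d.e u d.e_ne (Finset.ne_of_mem_erase hu)),
        ← Set.ncard_coe_finset]
      congr 1
      ext y
      simp [Finset.bipartiteBelow]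
    rw [Finset.sum_congr rfl fun y _ => h1 y, Finset.sum_congr rfl h2, Finset.sum_const, Finset.sum_const,
      smul_eq_mul, smul_eq_mul, Finset.card_erase_of_mem (Finset.mem_univ _), Finset.card_univ, Finset.card_univ,
      ← Nat.card_eq_fintype_card, ← Nat.card_eq_fintype_card, hn, card_V_four h4] at key
    exact key
  have hpos : 1 ≤ f d.e := by
    have hr : rt z ≠ 0 := fun e => hz (by rw [← rt_mul_self z, e, mul_zero])
    refine le_trans ?_ (hf _ d.e (smul_ne_zero hr d.e_ne) d.e_ne)
    refine (Set.ncard_pos (Set.toFinite _)).2 ⟨x, ?_⟩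
    show tv (rt z • d.e) 1 • x = x
    rw [tv_smul_vec, pow_two, rt_mul_self, mul_one]
    exact hx
  -- the representatives, one for each point at most
  set N : Set V := Set.univ \ {0} with hNdef
  have hN : N.ncard = 255 := by
    rw [hNdef, Set.ncard_sdiff (Set.subset_univ _), Set.ncard_univ, Set.ncard_singleton, card_V_four h4]
  haveI := Fintype.ofFinite F
  let Φ : {c : F // c ≠ 0} × R x₀ → V := fun p => p.1.1 • (p.2 : V)
  have hinj : Function.Injective Φ := by
    rintro ⟨⟨c, hc⟩, ⟨u, hu⟩⟩ ⟨⟨c', hc'⟩, ⟨u', hu'⟩⟩ e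
    change c • u = c' • u' at e
    have e2 : u' = (c'⁻¹ * c) • u := by rw [mul_smul, e, inv_smul_smul₀ hc']
    subst e2
    have h1 := rep_eq h4 hfree hu.1 (mul_ne_zero (inv_ne_zero hc') hc) hu.2 hu'.2
    rw [inv_mul_eq_one₀ hc'] at h1
    subst h1
    simp [inv_mul_cancel₀ hc']
  have hcardΦ : Nat.card ({c : F // c ≠ 0} × R x₀) = 3 * D := by
    rw [Nat.card_prod, Nat.card_coe_set_eq]
    congr 1
    rw [Nat.card_eq_fintype_card, Fintype.card_subtype_compl, Fintype.card_subtype_eq, ← Nat.card_eq_fintype_card, h4]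
  have hrange : Set.range Φ ⊆ N := by
    rintro _ ⟨p, rfl⟩
    exact ⟨trivial, smul_ne_zero p.1.2 p.2.2.1⟩
  have hD : 3 * D ≤ 255 := by
    rw [← hcardΦ, ← Set.ncard_range_of_injective hinj, ← hN]
    exact Set.ncard_le_ncard hrange
  have h17 : 17 ∣ D := by
    have hc : Nat.card (MulAction.stabilizer Sp x₀) = 27200 := by
      have h := (MulAction.stabilizer Sp x₀).card_mul_index
      rw [MulAction.index_stabilizer_of_transitive, hn, card_Sp_four h4] at h
      omega
    obtain ⟨g, hg⟩ := exists_prime_orderOf_dvd_card' (G := MulAction.stabilizer Sp x₀) 17 (by rw [hc]; norm_num)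
    have hg17 : (g : Sp) ^ 17 = 1 := by
      rw [← SubmonoidClass.coe_pow, ← hg, pow_orderOf_eq_one]; rfl
    have hg1 : (g : Sp) ≠ 1 := fun e => by
      rw [show g = 1 from Subtype.ext e, orderOf_one] at hg
      norm_num at hg
    have hinv : ∀ u ∈ R x₀, (g : Sp) • u ∈ R x₀ := fun u hu => by
      refine ⟨fun e => hu.1 (MulAction.injective (g : Sp) (by simp only; rw [e, smul_zero])), ?_⟩
      have hgi : (g : Sp)⁻¹ • x₀ = x₀ := inv_smul_eq_iff.2 g.2.symm
      rw [← tv_conj, mul_smul, mul_smul, hgi, hu.2]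
      exact g.2
    have h := fix_count (by norm_num : Nat.Prime 17) hg17 (R x₀) hinv
    have h0 : {u ∈ R x₀ | (g : Sp) • u = u} = ∅ :=
      Set.eq_empty_iff_forall_notMem.2 fun u hu => hu.1.1 ((invariant_cases h4 hg17 hg1).1 u hu.2)
    rw [h0, Set.ncard_empty] at h
    exact (Nat.modEq_zero_iff_dvd).1 h.symm
  obtain ⟨k, hk⟩ := h17
  have hD85 : D = 85 := by
    have : k ≤ 5 := by omega
    interval_cases k <;> omega
  refine rep_false h4 hfree x₀ fun u hu => ?_
  have hrg : Set.range Φ = N := Set.eq_of_subset_of_ncard_le hrange (by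
    rw [Set.ncard_range_of_injective hinj, hcardΦ, hD85, hN])
  obtain ⟨⟨c, v⟩, hcv⟩ : u ∈ Set.range Φ := by rw [hrg]; exact ⟨trivial, hu⟩
  refine ⟨c.1⁻¹, inv_ne_zero c.2, ?_⟩
  rw [← hcv]
  show tv (c.1⁻¹ • c.1 • (v : V)) 1 • x₀ = x₀
  rw [inv_smul_smul₀ c.2]
  exact v.2.2

theorem numeric_list {n : ℕ} (hn : n ≤ 84) (h24 : 24 ≤ n) (hd : n ∣ 979200) (he : 2 ∣ n)
    (h : 17 ∣ n ∨ ∃ o ∈ Finset.Icc 1 4, 17 * o ∣ 979200 / n ∧ (979200 / n / (17 * o)) % 17 = 1) :
    n = 24 ∨ n = 34 ∨ n = 36 ∨ n = 68 ∨ n = 72 := by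
  rcases h with h | ⟨o, ho, h1, h2⟩
  · obtain ⟨k, rfl⟩ := h
    have : k ≤ 4 := by omega
    interval_cases k <;> omega
  · have hodd : ¬ (n % 2 = 1) := by omega
    rw [Finset.mem_Icc] at ho
    obtain ⟨ho1, ho4⟩ := ho
    interval_cases n <;> first
      | omega
      | (interval_cases o <;> omega)

/-- The bound for the field with four elements. -/
theorem four_big (h4 : Nat.card F = 4) (hfree : Free (m := 2) (F := F) X)
    [MulAction.IsPretransitive (Matrix.symplecticGroup (Fin 2) F) X] (x₀ : X) : 85 ≤ Nat.card X := by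
  by_contra hlt
  push Not at hlt
  haveI : Fact (Nat.Prime 17) := ⟨by norm_num⟩
  obtain ⟨d, -⟩ := exists_hpair (v := (Pi.single (Sum.inl 0) 1 : V)) (Pi.single_ne_zero_iff.mpr one_ne_zero)
  have hidx := (MulAction.stabilizer Sp x₀).card_mul_index
  rw [MulAction.index_stabilizer_of_transitive, card_Sp_four h4] at hidx
  set H := MulAction.stabilizer Sp x₀
  have h24 := card_ge h4 hfree x₀
  have hd : Nat.card X ∣ 979200 := ⟨_, by rw [mul_comm]; exact hidx.symm⟩
  have hHc : Nat.card H = 979200 / Nat.card X := (Nat.div_eq_of_eq_mul_left (by omega) hidx.symm).symm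
  -- the number of points is even
  have heven : 2 ∣ Nat.card X := by
    obtain ⟨ω, hω⟩ := exists_omega (F := F) h4
    haveI : Fact (Nat.Prime 2) := ⟨Nat.prime_two⟩
    set B : Set X := {y | tv d.e 1 • y = y}
    have h1 : B.ncard ≡ Nat.card X [MOD 2] := by
      have := fix_count (α := X) Nat.prime_two (g := tv d.e (1 : F))
        (by rw [pow_two, tv_add, CharTwo.add_self_eq_zero, tv_zero]) Set.univ fun y _ => Set.mem_univ _
      rw [Set.ncard_univ] at this
      simpa using this
    have h2 : {y ∈ B | tv d.e ω • y = y}.ncard ≡ B.ncard [MOD 2] :=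
      fix_count Nat.prime_two (by rw [pow_two, tv_add, CharTwo.add_self_eq_zero, tv_zero]) B fun y hy => by
        change tv d.e 1 • tv d.e ω • y = tv d.e ω • y
        rw [← mul_smul, tv_add, add_comm, ← tv_add, mul_smul, hy]
    have h3 : {y ∈ B | tv d.e ω • y = y} = ∅ := Set.eq_empty_iff_forall_notMem.2 fun y ⟨hy, hy'⟩ => by
      obtain ⟨z, hz⟩ := hfree d.e d.e_ne y
      rcases four_cases h4 hω z with e | e | e | e
      · exact hz (by rw [e, tv_zero, one_smul])
      · exact hz (by rw [e]; exact hy)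
      · exact hz (by rw [e]; exact hy')
      · exact hz (by rw [e, ← tv_add, mul_smul, hy, hy'])
    rw [h3, Set.ncard_empty] at h2
    exact (Nat.modEq_zero_iff_dvd).1 (h1.symm.trans h2.symm)
  have hcases : 17 ∣ Nat.card X ∨ ∃ o ∈ Finset.Icc 1 4, 17 * o ∣ 979200 / Nat.card X ∧
      (979200 / Nat.card X / (17 * o)) % 17 = 1 := by
    rcases ((by norm_num : Nat.Prime 17).dvd_mul).1 (show 17 ∣ Nat.card H * Nat.card X by rw [hidx]; norm_num)
      with h | h
    · obtain ⟨o, ho, h1, h2, -⟩ := normalizer_seventeen h4 H h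
      exact Or.inr ⟨o, ho, hHc ▸ h1, hHc ▸ h2⟩
    · exact Or.inl h
  rcases numeric_list (by omega) h24 hd heven hcases with h | h | h | h | h
  case inr.inr.inl => exact thirtysix h4 hfree x₀ h
  case inr.inr.inr.inr => exact no_13600 h4 H (by rw [hHc, h])
  all_goals
    obtain ⟨S, he, hf, htor, hmod, b, hb, hS, -⟩ := fixed_bound h4 hfree d
    rw [h] at hmod hb
    unfold Nat.ModEq at hmod
    have h48 : S.ncard ≤ 4 ∨ S.ncard = 8 := by omega
    rcases h48 with h0 | h0
    · rw [no_small d h4 hfree S he hf h0, Set.ncard_empty] at hmod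
      omega
    · exact no_eight d h4 hfree S he hf htor h0

end CfsgLib.MinIdxPSp
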