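import Cfsg.Agent.MinIdxPSp.Centred
import Cfsg.Agent.MinIdxPSp.EvenLine
import Cfsg.Agent.MinIdxPSp.Four
import Mathlib.LinearAlgebra.Projectivization.Cardinality

/-!
The least index of a proper subgroup of the symplectic group.
-/

set_option autoImplicit false
set_option linter.style.haveILetI false
set_option linter.unusedSectionVars false

namespace CfsgLib.MinIdxPSp

open Matrix CfsgLib.Symp
open scoped Classical LinearAlgebra.Projectivization

variable {m : ℕ} {F : Type*} [Field F] [Finite F]

local notation "V" => Fin m ⊕ Fin m → F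
local notation "Sp" => Matrix.symplecticGroup (Fin m) F

theorem field_facts (hq : Nat.card F = 4) : CharP F 2 := by
  haveI := Fintype.ofFinite F
  refine CharTwo.of_one_ne_zero_of_two_eq_zero one_ne_zero ?_
  have h := FiniteField.cast_card_eq_zero F
  rw [← Nat.card_eq_fintype_card, hq] at h
  have h' : (2 : F) * 2 = 0 := by rw [← h]; push_cast; norm_num
  exact mul_self_eq_zero.1 h'

/-- Every proper subgroup has at least as large an index as the number of points. -/
theorem index_bound (hm : 2 ≤ m) (hq : 3 ≤ Nat.card F) (hexc : ¬ (m = 2 ∧ Nat.card F = 3))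
    (H : Subgroup (Matrix.symplecticGroup (Fin m) F)) (hH : H ≠ ⊤) :
    Nat.card (Fin m ⊕ Fin m → F) - 1 ≤ (Nat.card F - 1) * H.index := by
  by_cases hfree : Free (m := m) (F := F) (Sp ⧸ H)
  swap
  · simp only [Free, not_forall, not_exists, ne_eq, Decidable.not_not] at hfree
    obtain ⟨v, hv, x, hx⟩ := hfree
    obtain ⟨g, rfl⟩ := QuotientGroup.mk_surjective x
    refine centred_bound hq hH (v := g⁻¹ • v) (fun e => hv ?_) fun c => ?_
    · rw [← smul_inv_smul g v, e, smul_zero]
    · have h1 := hx c
      rw [MulAction.Quotient.smul_coe, smul_eq_mul, QuotientGroup.eq] at h1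
      rw [← tv_conj]
      have h2 := H.inv_mem h1
      simpa [mul_assoc] using h2
  rw [Subgroup.index]
  set x₀ : Sp ⧸ H := QuotientGroup.mk 1
  by_cases h2 : (2 : F) = 0
  · haveI : CharP F 2 := CharTwo.of_one_ne_zero_of_two_eq_zero one_ne_zero h2
    haveI := Fintype.ofFinite F
    obtain ⟨n, -, hn⟩ := FiniteField.card F 2
    rw [← Nat.card_eq_fintype_card] at hn
    have h4 : 4 ≤ Nat.card F := by
      rcases Nat.lt_or_ge (n : ℕ) 2 with h | h
      · have := n.pos
        rw [show (n : ℕ) = 1 by omega] at hn
        omega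
      · rw [hn]; exact le_trans (by norm_num) (Nat.pow_le_pow_right (by norm_num) h)
    by_cases hexc' : 3 ≤ m ∨ 8 ≤ Nat.card F
    · exact even_big hm h4 hexc' hfree x₀
    · push Not at hexc'
      obtain rfl : m = 2 := by omega
      have hF : Nat.card F = 4 := by
        rcases Nat.lt_or_ge (n : ℕ) 3 with h | h
        · have := n.pos
          rcases (show (n : ℕ) = 1 ∨ (n : ℕ) = 2 by omega) with e | e <;> rw [e] at hn <;> omega
        · have := le_trans (Nat.pow_le_pow_right (by norm_num : 0 < 2) h) hn.ge
          omega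
      haveI : MulAction.IsPretransitive (Matrix.symplecticGroup (Fin 2) F) (Matrix.symplecticGroup (Fin 2) F ⧸ H) := inferInstance
      have := four_big hF hfree x₀
      rw [card_V_four hF, hF]
      omega
  · refine odd_big h2 hm hq ?_ hfree x₀
    by_cases h : 3 ≤ m
    · exact Or.inl h
    · right
      by_contra h'
      exact hexc ⟨by omega, by omega⟩

/-- The stabiliser of a point attains the bound and contains the centre. -/
theorem exists_index (hm : 2 ≤ m) :
    ∃ H : Subgroup (Matrix.symplecticGroup (Fin m) F), Subgroup.center (Matrix.symplecticGroup (Fin m) F) ≤ H ∧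
      H.index = (Nat.card (Fin m ⊕ Fin m → F) - 1) / (Nat.card F - 1) := by
  haveI : Nonempty (Fin m) := ⟨⟨0, by omega⟩⟩
  haveI := isPretransitive (l := Fin m) (F := F)
  set u : V := Pi.single (Sum.inl ⟨0, by omega⟩) 1
  have hu : u ≠ 0 := Pi.single_ne_zero_iff.mpr one_ne_zero
  refine ⟨MulAction.stabilizer Sp (Projectivization.mk F u hu), fun g hg => ?_, ?_⟩
  · rw [MulAction.mem_stabilizer_iff, smul_mk', Projectivization.mk_eq_mk_iff']
    rcases mem_center_iff.1 hg with e | e
    · refine ⟨1, ?_⟩
      rw [one_smul, show g = 1 from Subtype.ext e, one_smul]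
    · refine ⟨-1, ?_⟩
      change (-1 : F) • u = (g : Matrix _ _ F) *ᵥ u
      rw [e, Matrix.neg_mulVec, Matrix.one_mulVec, neg_smul, one_smul]
  · rw [MulAction.index_stabilizer_of_transitive, Projectivization.card'']

end CfsgLib.MinIdxPSp
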