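import Cfsg.Agent.MinIdxPSp.Odd

/-!
The radical of a point stabiliser in characteristic two as an abelian group, and its weights.
-/

set_option autoImplicit false
set_option linter.style.haveILetI false
set_option linter.unusedSectionVars false

namespace CfsgLib.MinIdxPSp

open Matrix CfsgLib.Symp AddAction CfsgLib.MinIdxPSU
open scoped Classical

variable {m : ℕ} {F : Type*} [Field F] [Finite F] [CharP F 2]

local notation "V" => Fin m ⊕ Fin m → F
local notation "Sp" => Matrix.symplecticGroup (Fin m) F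

/-! ### Scalars -/

theorem sq_surj (x : F) : ∃ r : F, r * r = x := by
  have hinj : Function.Injective fun r : F => r * r := fun a b e => by
    change a * a = b * b at e
    have h : (a - b) * (a - b) = 0 := by linear_combination e + (b * b - a * b) * CharTwo.two_eq_zero (R := F)
    exact sub_eq_zero.1 (mul_self_eq_zero.1 h)
  exact (Finite.injective_iff_surjective.1 hinj) x

/-- The square root. -/
noncomputable def rt (x : F) : F := (sq_surj x).choose

theorem rt_mul_self (x : F) : rt x * rt x = x := (sq_surj x).choose_spec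

/-- The Artin–Schreier map. -/
def asMap (F : Type*) [Field F] [CharP F 2] : F →+ F :=
  AddMonoidHom.mk' (fun x => x * x + x) fun x y => by
    linear_combination (x * y) * CharTwo.two_eq_zero (R := F)

theorem asMap_index : (asMap F).range.index = 2 := by
  have hker : Nat.card (asMap F).ker = 2 := by
    have e : ((asMap F).ker : Set F) = {0, 1} := by
      ext x
      change x * x + x = 0 ↔ x = 0 ∨ x = 1
      refine ⟨fun h => ?_, ?_⟩
      · have h' : x * (x + 1) = 0 := by linear_combination h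
        rcases mul_eq_zero.1 h' with h | h
        · exact Or.inl h
        · exact Or.inr (CharTwo.add_eq_zero.1 h)
      · rintro (rfl | rfl)
        · ring
        · rw [mul_one]; exact CharTwo.add_self_eq_zero 1
    rw [← Set.ncard_pair (zero_ne_one (α := F)), ← e, ← Nat.card_coe_set_eq]; rfl
  have h1 := (asMap F).ker.card_mul_index
  rw [AddSubgroup.index_ker] at h1
  have h2 := (asMap F).range.card_mul_index
  rw [← h1, hker] at h2
  exact Nat.eq_of_mul_eq_mul_left (Nat.card_pos (α := (asMap F).range)) (by rw [h2]; ring)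

/-- A character fixed by squaring. -/
structure SqChar (F : Type*) [Field F] where
  /-- the character -/
  χ : AddChar F ℂ
  ne_zero : χ ≠ 0
  sq : ∀ x, χ (x * x) = χ x

theorem SqChar.exists_ne (ψ : SqChar F) : ∃ x, ψ.χ x ≠ 1 := AddChar.ne_one_iff.1 ψ.ne_zero

theorem exists_sqChar : Nonempty (SqChar F) := by
  obtain ⟨φ₀, hφ₀⟩ := AddChar.exists_apply_ne_zero.2 (one_ne_zero (α := F))
  have hφ : φ₀ ≠ 0 := fun e => hφ₀ (by rw [e]; rfl)
  have hann := card_annB (pairF_perfect (F := F) hφ) (asMap F).range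
  rw [asMap_index] at hann
  obtain ⟨c, hc0⟩ : ∃ c : annB (pairF F) φ₀ (asMap F).range, c ≠ 0 := by
    by_contra hc; push Not at hc
    rw [Nat.card_eq_one_iff_exists.2 ⟨0, hc⟩] at hann
    omega
  refine ⟨⟨φ₀.mulShift c, fun e => ?_, fun x => ?_⟩⟩
  · obtain ⟨y, hy⟩ := AddChar.ne_one_iff.1 hφ
    have := DFunLike.congr_fun e (y / c)
    rw [AddChar.mulShift_apply, mul_div_cancel₀ _ (fun h => hc0 (Subtype.ext h))] at this
    exact hy this
  · have h := c.2 (x * x + x) ⟨x, rfl⟩
    change φ₀ ((x * x + x) * c) = 1 at h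
    rw [AddChar.mulShift_apply, AddChar.mulShift_apply]
    rw [add_mul, AddChar.map_add_eq_mul] at h
    have h2 : φ₀ (x * c) * φ₀ (x * c) = 1 := by
      rw [← AddChar.map_add_eq_mul, CharTwo.add_self_eq_zero, AddChar.map_zero_eq_one]
    rw [mul_comm (c : F), mul_comm (c : F)]
    linear_combination φ₀ (x * c) * h - φ₀ (x * x * c) * h2

variable (ψ : SqChar F)

theorem SqChar.mul_self (x : F) : ψ.χ x * ψ.χ x = 1 := by
  rw [← AddChar.map_add_eq_mul, CharTwo.add_self_eq_zero, AddChar.map_zero_eq_one]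

theorem SqChar.cases (x : F) : ψ.χ x = 1 ∨ ψ.χ x = -1 := mul_self_eq_one_iff.1 (ψ.mul_self x)

theorem SqChar.apply_rt (x : F) : ψ.χ (rt x) = ψ.χ x := by rw [← ψ.sq, rt_mul_self]

theorem SqChar.as_solve {y : F} (hy : ψ.χ y = 1) : ∃ x : F, x * x + x = y := by
  let K : AddSubgroup F :=
    { carrier := {y | ψ.χ y = 1}
      zero_mem' := AddChar.map_zero_eq_one _
      add_mem' := fun {a b} (ha : ψ.χ a = 1) (hb : ψ.χ b = 1) => by
        change ψ.χ (a + b) = 1
        rw [AddChar.map_add_eq_mul, ha, hb, one_mul]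
      neg_mem' := fun {a} (ha : ψ.χ a = 1) => by
        change ψ.χ (-a) = 1
        rw [CharTwo.neg_eq, ha] }
  have hle : (asMap F).range ≤ K := by
    rintro _ ⟨x, rfl⟩
    change ψ.χ (x * x + x) = 1
    rw [AddChar.map_add_eq_mul, ψ.sq, ψ.mul_self]
  have hK : K.index ≠ 1 := fun e => by
    rw [AddSubgroup.index_eq_one] at e
    obtain ⟨x, hx⟩ := ψ.exists_ne
    exact hx (show x ∈ K by rw [e]; trivial)
  have hd := AddSubgroup.index_dvd_of_le hle
  rw [asMap_index] at hd
  have hK2 : K.index = 2 := (Nat.prime_two.eq_one_or_self_of_dvd _ hd).resolve_left hK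
  have hc : Nat.card K = Nat.card (asMap F).range := by
    have h1 := K.card_mul_index
    rw [← (asMap F).range.card_mul_index, asMap_index, hK2] at h1
    omega
  have := AddSubgroup.eq_of_le_of_card_ge hle hc.le
  obtain ⟨x, hx⟩ : y ∈ (asMap F).range := by rw [this]; exact hy
  exact ⟨x, hx⟩

theorem SqChar.perfect : Perfect (pairF F) ψ.χ := pairF_perfect ψ.ne_zero

theorem SqChar.eq_zero {c : F} (h : ∀ x, ψ.χ (x * c) = 1) : c = 0 := ψ.perfect.nondeg c h

/-! ### The quadratic form and the radical -/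

/-- The quadratic form. -/
def q0 (x : Fin m ⊕ Fin m → F) : F := ∑ i, x (Sum.inl i) * x (Sum.inr i)

theorem q0_add (x y : V) : q0 (x + y) = q0 x + q0 y + form x y := by
  simp only [q0, form_apply, Pi.add_apply, ← Finset.sum_add_distrib]
  refine Finset.sum_congr rfl fun i _ => ?_
  linear_combination (x (Sum.inl i) * y (Sum.inr i)) * CharTwo.two_eq_zero (R := F)

theorem q0_smul (c : F) (x : V) : q0 (c • x) = c * c * q0 x := by
  simp only [q0, Pi.smul_apply, smul_eq_mul, Finset.mul_sum]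
  exact Finset.sum_congr rfl fun i _ => by ring

theorem q0_zero : q0 (0 : V) = 0 := by simp [q0]

theorem form_comm (u v : V) : form u v = form v u := by rw [form_swap, CharTwo.neg_eq]

theorem add_self_zero (x : V) : x + x = 0 := funext fun i => CharTwo.add_self_eq_zero (x i)

variable (d : HPair m F)

/-- The element of the radical. -/
def el (d : HPair m F) (p : F × d.W) : Matrix.symplecticGroup (Fin m) F :=
  tv d.e (p.1 + q0 (p.2 : Fin m ⊕ Fin m → F)) * sh d.e (p.2 : Fin m ⊕ Fin m → F)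

theorem el_add (p p' : F × d.W) : el d (p + p') = el d p * el d p' := by
  simp only [el, Prod.fst_add, Prod.snd_add, Submodule.coe_add]
  rw [mul_assoc (tv d.e (p.1 + _)), ← mul_assoc (sh d.e (p.2 : V)), ← (sh_tv_comm (d.We p.2) _).eq,
    mul_assoc (tv d.e (p'.1 + _)), sh_mul (d.We _) (d.We _), ← mul_assoc, ← mul_assoc, tv_add, tv_add, q0_add]
  congr 2
  rw [form_comm]; ring

theorem el_zero : el d (0 : F × d.W) = 1 := by simp [el, q0_zero, sh_zero, tv_zero]

theorem el_fst (z : F) : el d ((z, 0) : F × d.W) = tv d.e z := by simp [el, q0_zero, sh_zero]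

theorem el_snd_eq (a : d.W) : sh d.e (a : V) = el d (q0 (a : V), a) := by
  rw [el, CharTwo.add_self_eq_zero, tv_zero, one_mul]

/-- The type of the set with the radical acting. -/
def QX (_d : HPair m F) (X : Type*) : Type _ := X

/-- A point of the set. -/
def toQX (d : HPair m F) {X : Type*} (x : X) : QX d X := x

variable (X : Type*) [MulAction (Matrix.symplecticGroup (Fin m) F) X] [Finite X]

instance : Finite (QX d X) := ‹Finite X›

instance : AddAction (F × d.W) (QX d X) where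
  vadd p x := toQX d (el d p • (show X from x))
  zero_vadd x := by
    change toQX d (el d 0 • (show X from x)) = x
    rw [el_zero, one_smul]; rfl
  add_vadd p p' x := by
    change toQX d (el d (p + p') • (show X from x)) = toQX d (el d p • el d p' • (show X from x))
    rw [el_add, mul_smul]

/-- The pairing of the radical and its characters. -/
def pairQ (d : HPair m F) : F × d.W →+ F × d.W →+ F :=
  AddMonoidHom.mk' (fun p => AddMonoidHom.mk'
      (fun w => p.1 * w.1 + form (p.2 : Fin m ⊕ Fin m → F) (w.2 : Fin m ⊕ Fin m → F))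
      fun w w' => by simp only [Prod.fst_add, Prod.snd_add, Submodule.coe_add, form_add_right]; ring)
    fun p p' => AddMonoidHom.ext fun w => by
      simp only [AddMonoidHom.mk'_apply, AddMonoidHom.add_apply, Prod.fst_add, Prod.snd_add, Submodule.coe_add,
        form_add_left]
      ring

theorem pairQ_apply (p w : F × d.W) : pairQ d p w = p.1 * w.1 + form (p.2 : V) (w.2 : V) := rfl

theorem pairQ_perfect : Perfect (pairQ d) ψ.χ := by
  refine ⟨fun w h => ?_, rfl⟩
  have h1 : w.1 = 0 := ψ.eq_zero fun x => by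
    have := h (x, 0)
    rwa [pairQ_apply, Submodule.coe_zero, form_zero_left, add_zero] at this
  refine Prod.ext h1 (by_contra fun hne => ?_)
  obtain ⟨u, huW, hu⟩ := d.nondeg_W w.2 w.2.2 fun e => hne (Subtype.ext e)
  obtain ⟨x, hx⟩ := ψ.exists_ne
  apply hx
  have := h (0, (x / form (w.2 : V) u) • ⟨u, huW⟩)
  rwa [pairQ_apply, zero_mul, zero_add, Submodule.coe_smul, form_smul_left, form_comm u,
    div_mul_cancel₀ _ hu] at this

variable {d X}

/-- Fixing a point. -/
def qStab (d : HPair m F) {X : Type*} [MulAction (Matrix.symplecticGroup (Fin m) F) X] (x : X) :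
    AddSubgroup (F × d.W) :=
  stabilizer (F × d.W) (toQX d x)

theorem mem_qStab {p : F × d.W} {x : X} : p ∈ qStab d x ↔ el d p • x = x := mem_stabilizer_iff

/-- The weights of a point. -/
noncomputable def Wt (ψ : SqChar F) (d : HPair m F) {X : Type*} [MulAction (Matrix.symplecticGroup (Fin m) F) X]
    (x : X) : AddSubgroup (F × d.W) :=
  annB (pairQ d) ψ.χ (qStab d x)

theorem mem_Wt {w : F × d.W} {x : X} :
    w ∈ Wt ψ d x ↔ ∀ p : F × d.W, el d p • x = x → ψ.χ (p.1 * w.1 + form (p.2 : V) (w.2 : V)) = 1 :=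
  ⟨fun h p hp => h p (mem_qStab.2 hp), fun h p hp => h p (mem_qStab.1 hp)⟩

/-- The directions of a point. -/
noncomputable def Dir (ψ : SqChar F) (d : HPair m F) {X : Type*} [MulAction (Matrix.symplecticGroup (Fin m) F) X]
    (x : X) : AddSubgroup d.W :=
  (Wt ψ d x).comap (AddMonoidHom.inr F d.W)

theorem mem_Dir {δ : d.W} {x : X} : δ ∈ Dir ψ d x ↔ (0, δ) ∈ Wt ψ d x := Iff.rfl

theorem mem_Dir' {δ : d.W} {x : X} :
    δ ∈ Dir ψ d x ↔ ∀ p : F × d.W, el d p • x = x → ψ.χ (form (p.2 : V) (δ : V)) = 1 := by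
  rw [mem_Dir, mem_Wt]
  exact forall₂_congr fun p _ => by rw [mul_zero, zero_add]

/-- The orbit of a point. -/
def qOrb (d : HPair m F) {X : Type*} [MulAction (Matrix.symplecticGroup (Fin m) F) X] (x : X) :
    AOrb (M := F × d.W) (QX d X) :=
  Quotient.mk'' (toQX d x)

theorem qOrb_eq {x y : X} : qOrb d x = qOrb d y ↔ ∃ p, x = el d p • y := by
  refine ⟨fun h => ?_, fun ⟨p, hp⟩ => Quotient.sound' (orbitRel_apply.2 ⟨p, hp.symm⟩)⟩
  obtain ⟨p, hp⟩ := orbitRel_apply.1 (Quotient.eq''.1 h)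
  exact ⟨p, hp.symm⟩

theorem wt_qOrb (x : X) : wtB (pairQ d) ψ.χ (qOrb d x) = Wt ψ d x := by
  rw [wtB, qOrb, stab_out]; rfl

theorem qOrb_surj (o : AOrb (M := F × d.W) (QX d X)) : ∃ x : X, qOrb d x = o := by
  induction o using Quotient.inductionOn' with
  | h y => exact ⟨y, rfl⟩

theorem Dir_eq_of_qOrb {x y : X} (h : qOrb d x = qOrb d y) : Dir ψ d x = Dir ψ d y := by
  rw [Dir, Dir, ← wt_qOrb, ← wt_qOrb, h]

/-- A translation fixing the orbit of the centre, from the directions. -/
theorem exists_fix_of_dir (a : d.W) (x : X) (h : ∀ δ ∈ Dir ψ d x, ψ.χ (form (a : V) (δ : V)) = 1) :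
    ∃ z, el d (z, a) • x = x := by
  have hmem : ((0, a) : F × d.W) ∈ qStab d x ⊔ (AddMonoidHom.inl F d.W).range := by
    refine mem_of_annB (pairQ_perfect ψ d) fun w hw => ?_
    have h1 : w.1 = 0 := ψ.eq_zero fun c => by
      have := hw (c, 0) (AddSubgroup.mem_sup_right ⟨c, rfl⟩)
      rwa [pairQ_apply, Submodule.coe_zero, form_zero_left, add_zero] at this
    have h2 := h w.2 (show ((0 : F), w.2) ∈ Wt ψ d x from fun p hp => by
      have := hw p (AddSubgroup.mem_sup_left hp)
      rw [pairQ_apply, h1, mul_zero, zero_add] at this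
      change ψ.χ (p.1 * 0 + form (p.2 : V) (w.2 : V)) = 1
      rw [mul_zero, zero_add]
      exact this)
    rw [pairQ_apply, zero_mul, zero_add]
    exact h2
  obtain ⟨p, hp, _, ⟨c, rfl⟩, e⟩ := AddSubgroup.mem_sup.1 hmem
  refine ⟨c, ?_⟩
  have hp' : p = ((c, a) : F × d.W) := by
    have e1 := congrArg Prod.fst e
    have e2 := congrArg Prod.snd e
    simp only [AddMonoidHom.inl_apply, Prod.fst_add, Prod.snd_add, add_zero] at e1 e2
    exact Prod.ext (CharTwo.add_eq_zero.1 e1) e2
  rw [← hp']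
  exact mem_qStab.1 hp

/-! ### Elements normalising the radical -/

/-- Conjugation acting as an automorphism of the radical. -/
def Tr (d : HPair m F) (g : Matrix.symplecticGroup (Fin m) F) (f : F × d.W ≃+ F × d.W) : Prop :=
  ∀ p, g * el d p * g⁻¹ = el d (f p)

theorem Tr.smul {g : Sp} {f : F × d.W ≃+ F × d.W} (hg : Tr d g f) (p : F × d.W) (x : X) :
    g • el d p • x = el d (f p) • g • x := by
  rw [← mul_smul, ← mul_smul, ← hg p, inv_mul_cancel_right]

theorem Tr.qOrb_iff {g : Sp} {f : F × d.W ≃+ F × d.W} (hg : Tr d g f) (x y : X) :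
    qOrb d (g • x) = qOrb d (g • y) ↔ qOrb d x = qOrb d y := by
  rw [qOrb_eq, qOrb_eq]
  refine ⟨fun ⟨p, hp⟩ => ⟨f.symm p, MulAction.injective g ?_⟩, fun ⟨p, hp⟩ => ⟨f p, ?_⟩⟩
  · show g • x = g • el d (f.symm p) • y
    rw [hg.smul, AddEquiv.apply_symm_apply, hp]
  · rw [← hg.smul, hp]

theorem Tr.mem_wt {g : Sp} {f : F × d.W ≃+ F × d.W} (hg : Tr d g f) {w w' : F × d.W}
    (h : ∀ p, ψ.χ (pairQ d (f p) w') = ψ.χ (pairQ d p w)) (x : X) :
    w' ∈ Wt ψ d (g • x) ↔ w ∈ Wt ψ d x := by
  constructor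
  · intro hw p hp
    rw [← h]
    refine hw _ (mem_qStab.2 ?_)
    rw [← hg.smul, mem_qStab.1 hp]
  · intro hw p hp
    rw [← f.apply_symm_apply p, h]
    refine hw _ (mem_qStab.2 (MulAction.injective g ?_))
    show g • el d (f.symm p) • x = g • x
    rw [hg.smul, AddEquiv.apply_symm_apply, mem_qStab.1 hp]

/-- The number of orbits with a weight. -/
noncomputable def nw (ψ : SqChar F) (d : HPair m F) (X : Type*) [MulAction (Matrix.symplecticGroup (Fin m) F) X]
    [Finite X] (w : F × d.W) : ℕ :=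
  nwtB (Y := QX d X) (pairQ d) ψ.χ w

theorem Tr.nw_le {g : Sp} {f : F × d.W ≃+ F × d.W} (hg : Tr d g f) {w w' : F × d.W}
    (h : ∀ p, ψ.χ (pairQ d (f p) w') = ψ.χ (pairQ d p w)) : nw ψ d X w ≤ nw ψ d X w' := by
  unfold nw nwtB
  refine Nat.card_le_card_of_injective (fun o => ⟨qOrb d (g • (qOrb_surj o.1).choose), ?_⟩) fun o o' e => ?_
  · rw [wt_qOrb, hg.mem_wt ψ h, ← wt_qOrb, (qOrb_surj o.1).choose_spec]
    exact o.2
  · have := (hg.qOrb_iff _ _).1 (congrArg Subtype.val e)
    rw [(qOrb_surj o.1).choose_spec, (qOrb_surj o'.1).choose_spec] at this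
    exact Subtype.ext this

theorem Lv.fix_e {g : Sp} (hg : g ∈ d.Lv) : g • d.e = d.e := MulAction.mem_stabilizer_iff.1 hg.1

/-- The automorphism of the radical given by the stabiliser of the pair. -/
def fLv (d : HPair m F) {g : Matrix.symplecticGroup (Fin m) F} (hg : g ∈ d.Lv) : F × d.W ≃+ F × d.W where
  toFun p := (p.1 + q0 (p.2 : Fin m ⊕ Fin m → F) + q0 (g • (p.2 : Fin m ⊕ Fin m → F)), d.lev hg p.2)
  invFun p := (p.1 + q0 (p.2 : Fin m ⊕ Fin m → F) + q0 (g⁻¹ • (p.2 : Fin m ⊕ Fin m → F)), (d.lev hg).symm p.2)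
  left_inv p := by
    refine Prod.ext ?_ ((d.lev hg).symm_apply_apply p.2)
    change p.1 + q0 (p.2 : V) + q0 (g • (p.2 : V)) + q0 (g • (p.2 : V)) + q0 (g⁻¹ • g • (p.2 : V)) = p.1
    rw [inv_smul_smul]
    linear_combination (q0 (p.2 : V) + q0 (g • (p.2 : V))) * CharTwo.two_eq_zero (R := F)
  right_inv p := by
    refine Prod.ext ?_ ((d.lev hg).apply_symm_apply p.2)
    change p.1 + q0 (p.2 : V) + q0 (g⁻¹ • (p.2 : V)) + q0 (g⁻¹ • (p.2 : V)) + q0 (g • g⁻¹ • (p.2 : V)) = p.1
    rw [smul_inv_smul]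
    linear_combination (q0 (p.2 : V) + q0 (g⁻¹ • (p.2 : V))) * CharTwo.two_eq_zero (R := F)
  map_add' p p' := by
    refine Prod.ext ?_ (map_add (d.lev hg) _ _)
    change p.1 + p'.1 + q0 ((p.2 : V) + (p'.2 : V)) + q0 (g • ((p.2 : V) + (p'.2 : V))) = _ + _
    rw [smul_add, q0_add, q0_add, form_smul_smul]
    linear_combination form (p.2 : V) (p'.2 : V) * CharTwo.two_eq_zero (R := F)

theorem tr_Lv {g : Sp} (hg : g ∈ d.Lv) : Tr d g (fLv d hg) := fun p => by
  have h1 : g * el d p * g⁻¹ = tv d.e (p.1 + q0 (p.2 : V)) * sh d.e (g • (p.2 : V)) := by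
    rw [el, show g * (tv d.e (p.1 + q0 (p.2 : V)) * sh d.e (p.2 : V)) * g⁻¹ =
      g * tv d.e (p.1 + q0 (p.2 : V)) * g⁻¹ * (g * sh d.e (p.2 : V) * g⁻¹) by group, tv_conj,
      sh_conj g (d.We _), Lv.fix_e hg]
  rw [h1, el]
  change _ = tv d.e (p.1 + q0 (p.2 : V) + q0 (g • (p.2 : V)) + q0 (g • (p.2 : V))) * sh d.e (g • (p.2 : V))
  rw [CharTwo.add_cancel_right]

theorem pair_fLv_snd {g : Sp} (hg : g ∈ d.Lv) (δ : d.W) (p : F × d.W) :
    ψ.χ (pairQ d (fLv d hg p) (0, d.lev hg δ)) = ψ.χ (pairQ d p (0, δ)) := by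
  rw [pairQ_apply, pairQ_apply, mul_zero, mul_zero, zero_add, zero_add]
  change ψ.χ (form (g • (p.2 : V)) (g • (δ : V))) = _
  rw [form_smul_smul]

/-- An element of the torus. -/
def IsTor (d : HPair m F) (g : Matrix.symplecticGroup (Fin m) F) (s : F) : Prop :=
  s ≠ 0 ∧ g • d.e = s • d.e ∧ g • d.f = s⁻¹ • d.f ∧ ∀ a : d.W, g • (a : Fin m ⊕ Fin m → F) = a

theorem exists_tor {s : F} (hs : s ≠ 0) : ∃ g, IsTor d g s := by
  obtain ⟨t, ht, te, tf⟩ := exists_tvGroup_smul_pair (W := Submodule.span F {d.e, d.f}) (u := d.e) (v := d.f)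
    (u' := s • d.e) (v' := s⁻¹ • d.f) (Submodule.subset_span (Set.mem_insert _ _))
    (Submodule.subset_span (Set.mem_insert_of_mem _ rfl))
    (Submodule.smul_mem _ _ (Submodule.subset_span (Set.mem_insert _ _)))
    (Submodule.smul_mem _ _ (Submodule.subset_span (Set.mem_insert_of_mem _ rfl))) d.hef (by
      rw [form_smul_left, form_smul_right, d.hef, mul_one, mul_inv_cancel₀ hs])
  exact ⟨t, hs, te, tf, fun a => tvGroup_fix ht fun w hw => form_zero_swap (a.2 w hw)⟩

theorem IsTor.mul {g g' : Sp} {s s' : F} (h : IsTor d g s) (h' : IsTor d g' s') : IsTor d (g * g') (s * s') :=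
  ⟨mul_ne_zero h.1 h'.1, by rw [mul_smul, h'.2.1, smul_comm g, h.2.1, smul_smul, mul_comm],
    by rw [mul_smul, h'.2.2.1, smul_comm g, h.2.2.1, smul_smul, mul_inv, mul_comm],
    fun a => by rw [mul_smul, h'.2.2.2, h.2.2.2]⟩

theorem IsTor.comm {g l : Sp} {s : F} (hg : IsTor d g s) (hl : l ∈ d.Lv) : g * l = l * g := by
  refine symp_ext fun v => ?_
  have hv : v = (v - (form v d.f • d.e - form v d.e • d.f)) + (form v d.f • d.e - form v d.e • d.f) :=
    (sub_add_cancel _ _).symm
  have he' := MulAction.mem_stabilizer_iff.1 hl.1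
  have hf' := MulAction.mem_stabilizer_iff.1 hl.2
  rw [hv, mul_smul, mul_smul]
  generalize hw : v - (form v d.f • d.e - form v d.e • d.f) = w
  have hwW : w ∈ d.W := hw ▸ d.proj_mem v
  rw [smul_add, smul_add, smul_add, smul_add, hg.2.2.2 ⟨l • w, d.move_mem hl hwW⟩, hg.2.2.2 ⟨w, hwW⟩]
  simp only [smul_sub, smul_comm g, smul_comm l, hg.2.1, hg.2.2.1, he', hf']

/-- The automorphism of the radical given by the torus. -/
def fTor (d : HPair m F) {s : F} (hs : s ≠ 0) : F × d.W ≃+ F × d.W where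
  toFun p := (s * s * p.1, s • p.2)
  invFun p := ((s * s)⁻¹ * p.1, s⁻¹ • p.2)
  left_inv p := Prod.ext (inv_mul_cancel_left₀ (mul_ne_zero hs hs) _) (inv_smul_smul₀ hs _)
  right_inv p := Prod.ext (mul_inv_cancel_left₀ (mul_ne_zero hs hs) _) (smul_inv_smul₀ hs _)
  map_add' p p' := Prod.ext (mul_add _ _ _) (smul_add s _ _)

theorem tr_tor {g : Sp} {s : F} (hg : IsTor d g s) : Tr d g (fTor d hg.1) := fun p => by
  have he := hg.2.1
  have hW := hg.2.2.2
  have key : g * el d p * g⁻¹ = tv d.e (s * s * p.1 + q0 (s • (p.2 : V))) * sh d.e (s • (p.2 : V)) := by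
    rw [el, show g * (tv d.e (p.1 + q0 (p.2 : V)) * sh d.e (p.2 : V)) * g⁻¹ =
      g * tv d.e (p.1 + q0 (p.2 : V)) * g⁻¹ * (g * sh d.e (p.2 : V) * g⁻¹) by group, tv_conj, sh_conj g (d.We _),
      he, hW, tv_smul_vec, sh_smul_left _ _ _ (d.We _), q0_smul, pow_two, mul_add]
  rw [key, el]
  rfl

theorem pair_fTor {s : F} (hs : s ≠ 0) (w p : F × d.W) :
    ψ.χ (pairQ d (fTor d hs p) ((s * s)⁻¹ * w.1, s⁻¹ • w.2)) = ψ.χ (pairQ d p w) := by
  rw [pairQ_apply, pairQ_apply]
  change ψ.χ (s * s * p.1 * ((s * s)⁻¹ * w.1) + form (s • (p.2 : V)) (s⁻¹ • (w.2 : V))) = _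
  rw [form_smul_left, form_smul_right, mul_inv_cancel_left₀ hs]
  congr 2
  field_simp

/-- The quadratic form attached to a weight. -/
def qv {d : HPair m F} (v : d.W) (b : Fin m ⊕ Fin m → F) : F :=
  form (v : Fin m ⊕ Fin m → F) b * form (v : Fin m ⊕ Fin m → F) b + q0 b

theorem qv_add (v : d.W) (a b : V) : qv v (a + b) = qv v a + qv v b + form a b := by
  simp only [qv, q0_add, form_add_right]
  linear_combination (form (v : V) a * form (v : V) b) * CharTwo.two_eq_zero (R := F)

theorem qv_smul (v : d.W) (c : F) (a : V) : qv v (c • a) = c * c * qv v a := by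
  simp only [qv, q0_smul, form_smul_right]; ring

theorem qv_zero (v : d.W) : qv v (0 : V) = 0 := by simp [qv, q0_zero, form_zero_right]

theorem qv_shift (v : d.W) {u : d.W} (c : F) : qv (v + c • u) (u : V) = qv v (u : V) := by
  simp [qv, form_add_left, form_smul_left, form_self]

/-- The effect of a transvection on the weights of the first slice. -/
theorem pair_tv (v u : d.W) (t : F) (hu : tv (u : V) t ∈ d.Lv) (p : F × d.W) :
    ψ.χ (pairQ d (fLv d hu p) (1, v + (rt t + t * rt (qv v (u : V))) • u)) = ψ.χ (pairQ d p (1, v)) := by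
  rw [pairQ_apply, pairQ_apply]
  change ψ.χ ((p.1 + q0 (p.2 : V) + q0 (tv (u : V) t • (p.2 : V))) * 1 +
    form (tv (u : V) t • (p.2 : V)) ((v : V) + (rt t + t * rt (qv v (u : V))) • (u : V))) = _
  set φ := form (p.2 : V) (u : V)
  set s := rt (qv v (u : V))
  have hs : form (v : V) (u : V) * form (v : V) (u : V) + q0 (u : V) = s * s := (rt_mul_self _).symm
  have e : (p.1 + q0 (p.2 : V) + q0 (tv (u : V) t • (p.2 : V))) * 1 +
      form (tv (u : V) t • (p.2 : V)) ((v : V) + (rt t + t * s) • (u : V)) =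
      (p.1 * 1 + form (p.2 : V) (v : V)) +
        (((t * φ * form (v : V) (u : V)) * (t * φ * form (v : V) (u : V)) + t * φ * form (v : V) (u : V)) +
        (((rt t * φ) * (rt t * φ) + rt t * φ) + ((t * φ * s) * (t * φ * s) + t * φ * s))) := by
    rw [tv_smul, q0_add, q0_smul, form_smul_right, form_add_left, form_add_right, form_add_right, form_smul_left,
      form_smul_left, form_smul_right, form_smul_right, form_self, form_comm (u : V) (v : V)]
    linear_combination (q0 (p.2 : V) - t * t * φ * φ * (form (v : V) (u : V) * form (v : V) (u : V))) * CharTwo.two_eq_zero (R := F) +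
      (t * t * φ * φ) * hs - φ * φ * rt_mul_self t
  rw [e]
  simp only [AddChar.map_add_eq_mul, ψ.sq, ψ.mul_self, mul_one]

/-- A transvection fixing a weight. -/
theorem pair_refl (v u : d.W) (hu : tv (u : V) 1 ∈ d.Lv) (h : qv v (u : V) = 1) (p : F × d.W) :
    ψ.χ (pairQ d (fLv d hu p) (1, v)) = ψ.χ (pairQ d p (1, v)) := by
  have := pair_tv ψ v u 1 hu p
  have h1 : rt (1 : F) = 1 := by
    have h2 := rt_mul_self (1 : F)
    rcases mul_self_eq_one_iff.1 h2 with e | e
    · exact e
    · rw [e, CharTwo.neg_eq]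
  rwa [h, h1, one_mul, CharTwo.add_self_eq_zero, zero_smul, add_zero] at this

end CfsgLib.MinIdxPSp
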