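import Cfsg.Agent.MinIdxPSp.EvenBasic

/-!
In characteristic two some orbit of the radical is larger than the orbit of its centre.
-/

set_option autoImplicit false
set_option linter.style.haveILetI false
set_option linter.unusedSectionVars false

namespace CfsgLib.MinIdxPSp

open Matrix CfsgLib.Symp AddAction CfsgLib.MinIdxPSU
open scoped Classical

variable {m : ℕ} {F : Type*} [Field F] [Finite F] [CharP F 2] (ψ : SqChar F)

local notation "V" => Fin m ⊕ Fin m → F
local notation "Sp" => Matrix.symplecticGroup (Fin m) F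

theorem rt_sq (y : F) : rt (y * y) = y := by
  rcases mul_self_eq_mul_self_iff.1 (rt_mul_self (y * y)) with e | e
  · exact e
  · rw [e, CharTwo.neg_eq]

theorem exists_third (hq : 4 ≤ Nat.card F) (a b : F) : ∃ s : F, s ≠ a ∧ s ≠ b := by
  by_contra hc
  push Not at hc
  haveI := Fintype.ofFinite F
  have : (Finset.univ : Finset F) ⊆ {a, b} := fun x _ => by
    simp only [Finset.mem_insert, Finset.mem_singleton]; exact or_iff_not_imp_left.2 (hc x)
  have := (Finset.card_le_card this).trans Finset.card_le_two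
  rw [Finset.card_univ, ← Nat.card_eq_fintype_card] at this
  omega

/-- A subgroup whose part in the scalars is killed by the character is killed by an extension of it. -/
theorem exists_ext {M : Type*} [AddCommGroup M] [Finite M] (P : F × M →+ F × M →+ F) (hP : Perfect P ψ.χ)
    (hfst : ∀ (z : F) (w : F × M), P (z, 0) w = z * w.1) (K : AddSubgroup (F × M))
    (h : ∀ z : F, (z, 0) ∈ K → ψ.χ z = 1) : ∃ w ∈ annB P ψ.χ K, w.1 = 1 := by
  set C := (annB P ψ.χ K).map (AddMonoidHom.fst F M)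
  suffices h1 : (1 : F) ∈ C by
    obtain ⟨w, hw, e⟩ := h1
    exact ⟨w, hw, e⟩
  refine mem_of_annB ψ.perfect fun z hz => ?_
  rw [show pairF F (1 : F) z = 1 * z from rfl, one_mul]
  refine h z (mem_of_annB hP fun w hw => ?_)
  rw [hfst, mul_comm]
  exact hz w.1 ⟨w, hw, rfl⟩

variable {X : Type*} [MulAction (Matrix.symplecticGroup (Fin m) F) X] [Finite X] {d : HPair m F}

theorem pairQ_fst (z : F) (w : F × d.W) : pairQ d (z, 0) w = z * w.1 := by
  rw [pairQ_apply, Submodule.coe_zero, form_zero_left, add_zero]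

/-- A point seeing the character carries a weight. -/
theorem exists_wt (x : X) (h : ∀ z, tv d.e z • x = x → ψ.χ z = 1) : ∃ v, (1, v) ∈ Wt ψ d x := by
  obtain ⟨w, hw, e⟩ := exists_ext ψ (pairQ d) (pairQ_perfect ψ d) pairQ_fst (qStab d x) fun z hz =>
    h z (by rw [← el_fst]; exact mem_qStab.1 hz)
  exact ⟨w.2, by rw [← e]; exact hw⟩

theorem wt_sees {x : X} {v : d.W} (hv : (1, v) ∈ Wt ψ d x) (z : F) (hz : tv d.e z • x = x) : ψ.χ z = 1 := by
  have := hv (z, 0) (mem_qStab.2 (by rw [el_fst]; exact hz))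
  rwa [pairQ_fst, mul_one] at this

/-- Every point has a weight off the zero slice. -/
theorem exists_wt_ne (hfree : Free (m := m) (F := F) X) (x : X) : ∃ w ∈ Wt ψ d x, w.1 ≠ 0 := by
  by_contra hc
  push Not at hc
  obtain ⟨z, hz⟩ := hfree d.e d.e_ne x
  apply hz
  rw [← el_fst]
  refine mem_qStab.1 (mem_of_annB (pairQ_perfect ψ d) fun w hw => ?_)
  rw [pairQ_fst, hc w hw, mul_zero, AddChar.map_zero_eq_one]

/-- Moving a weight to the first slice. -/
theorem exists_normalise (x : X) {w : F × d.W} (hw : w ∈ Wt ψ d x) (hc : w.1 ≠ 0) :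
    ∃ (g : Matrix.symplecticGroup (Fin m) F) (s : F), IsTor d g s ∧
      (1, s⁻¹ • w.2) ∈ Wt ψ d (g • x) ∧ ∀ δ ∈ Dir ψ d x, s⁻¹ • δ ∈ Dir ψ d (g • x) := by
  have hs : rt w.1 ≠ 0 := fun e => hc (by rw [← rt_mul_self w.1, e, mul_zero])
  obtain ⟨g, hg⟩ := exists_tor (d := d) hs
  refine ⟨g, _, hg, ?_, fun δ hδ => ?_⟩
  · have h := ((tr_tor hg).mem_wt ψ (pair_fTor ψ hg.1 w) x).2 hw
    rwa [rt_mul_self, inv_mul_cancel₀ hc] at h
  · have h := ((tr_tor hg).mem_wt ψ (pair_fTor ψ hg.1 (0, δ)) x).2 hδ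
    rwa [mul_zero] at h

theorem three_eq (hN : ∀ v : d.W, nw ψ d X (1, v) ≤ 2) {v : d.W} {x y z : X} (hx : (1, v) ∈ Wt ψ d x)
    (hy : (1, v) ∈ Wt ψ d y) (hz : (1, v) ∈ Wt ψ d z) :
    qOrb d x = qOrb d y ∨ qOrb d x = qOrb d z ∨ qOrb d y = qOrb d z := by
  by_contra hc
  push Not at hc
  obtain ⟨h1, h2, h3⟩ := hc
  have h := hN v
  rw [nw, nwtB] at h
  have := Nat.card_le_card_of_injective (α := Fin 3)
    (β := {o : AOrb (M := F × d.W) (QX d X) // ((1 : F), v) ∈ wtB (pairQ d) ψ.χ o})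
    ![⟨qOrb d x, by rw [wt_qOrb]; exact hx⟩, ⟨qOrb d y, by rw [wt_qOrb]; exact hy⟩,
      ⟨qOrb d z, by rw [wt_qOrb]; exact hz⟩] fun i j e => by
    fin_cases i <;> fin_cases j <;> first
      | rfl
      | exact absurd (congrArg Subtype.val e) h1
      | exact absurd (congrArg Subtype.val e) h2
      | exact absurd (congrArg Subtype.val e) h3
      | exact absurd (congrArg Subtype.val e).symm h1
      | exact absurd (congrArg Subtype.val e).symm h2
      | exact absurd (congrArg Subtype.val e).symm h3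
  rw [Nat.card_fin] at this
  omega

/-- The radical moves no orbit of its centre. -/
def Fixed (X : Type*) [MulAction (Matrix.symplecticGroup (Fin m) F) X] : Prop :=
  ∀ (ψ : SqChar F) (d : HPair m F) (x : X), Dir ψ d x = ⊥

theorem Fixed.el_fix (hF : Fixed (m := m) (F := F) X) (a : d.W) (x : X) : ∃ z, el d (z, a) • x = x := by
  obtain ⟨ψ⟩ := exists_sqChar (F := F)
  refine exists_fix_of_dir ψ a x fun δ hδ => ?_
  rw [hF ψ d x, AddSubgroup.mem_bot] at hδ
  rw [hδ, Submodule.coe_zero, form_zero_right, AddChar.map_zero_eq_one]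

theorem Fixed.sh_fix (hF : Fixed (m := m) (F := F) X) {b : V} (hb : form d.e b = 0) (x : X) :
    ∃ z, sh d.e b • x = tv d.e z • x := by
  set t := form b d.f
  have hmem : b + -(t • d.e) ∈ d.W := by
    have := d.proj_mem b
    rwa [form_zero_swap hb, zero_smul, sub_zero, sub_eq_add_neg] at this
  obtain ⟨z, hz⟩ := hF.el_fix ⟨_, hmem⟩ x
  refine ⟨z + q0 (b + -(t • d.e)), ?_⟩
  have e : sh d.e b = sh d.e (b + -(t • d.e)) := by
    refine symp_ext fun y => ?_
    have h' : form d.e (b + -(t • d.e)) = 0 := (d.mem_W.1 hmem).1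
    rw [sh_smul hb, sh_smul h', form_add_right, show -(t • d.e) = (-t) • d.e from (neg_smul t d.e).symm,
      form_smul_right, add_smul, smul_add, smul_smul, CharTwo.neg_eq]
    have h2 : ((form y d.e * t) • d.e : V) + (t * form y d.e) • d.e = 0 := by
      rw [mul_comm t, add_self_zero]
    linear_combination (norm := module) (-1 : F) • h2
  rw [e]
  conv_rhs => rw [← hz]
  rw [el, ← mul_smul, ← mul_assoc, tv_add, CharTwo.add_self_eq_zero, tv_zero, one_mul]

/-- The short root elements in a plane, read off a weight. -/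
theorem Fixed.plane_val (hF : Fixed (m := m) (F := F) X) {x : X} {v : d.W} (hv : (1, v) ∈ Wt ψ d x) (a : d.W) (μ : F) :
    ∃ z, sh d.e (μ • (a : V)) • x = tv d.e z • x ∧ ψ.χ z = ψ.χ (μ * rt (qv v (a : V))) := by
  obtain ⟨z, hz⟩ := hF.el_fix (μ • a) x
  refine ⟨z + q0 (μ • (a : V)), ?_, ?_⟩
  · conv_rhs => rw [← hz]
    rw [el, Submodule.coe_smul, ← mul_smul, ← mul_assoc, tv_add, CharTwo.add_self_eq_zero, tv_zero, one_mul]
  · have h := hv (z, μ • a) (mem_qStab.2 hz)
    rw [pairQ_apply, mul_one, Submodule.coe_smul] at h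
    change ψ.χ (z + form (μ • (a : V)) (v : V)) = 1 at h
    rw [← ψ.sq (μ * _), show μ * rt (qv v (a : V)) * (μ * rt (qv v (a : V))) =
      μ * μ * (rt (qv v (a : V)) * rt (qv v (a : V))) by ring, rt_mul_self, qv, q0_smul, mul_add,
      show μ * μ * (form (v : V) (a : V) * form (v : V) (a : V)) =
        form (μ • (a : V)) (v : V) * form (μ • (a : V)) (v : V) by
          rw [form_smul_left, form_comm (a : V)]; ring,
      AddChar.map_add_eq_mul, AddChar.map_add_eq_mul, ψ.sq]
    rw [AddChar.map_add_eq_mul] at h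
    linear_combination ψ.χ (μ * μ * q0 (a : V)) * (ψ.χ (form (μ • (a : V)) (v : V)) * h -
      ψ.χ z * ψ.mul_self (form (μ • (a : V)) (v : V)))

/-- The pairing of two copies of the scalars. -/
def pair2 (F : Type*) [Field F] : F × F →+ F × F →+ F :=
  AddMonoidHom.mk' (fun p => AddMonoidHom.mk' (fun w => p.1 * w.1 + p.2 * w.2)
    fun w w' => by simp only [Prod.fst_add, Prod.snd_add]; ring)
    fun p p' => AddMonoidHom.ext fun w => by
      simp only [AddMonoidHom.mk'_apply, AddMonoidHom.add_apply, Prod.fst_add, Prod.snd_add]; ring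

theorem pair2_perfect : Perfect (pair2 F) ψ.χ := by
  refine ⟨fun w h => Prod.ext (ψ.eq_zero fun x => ?_) (ψ.eq_zero fun x => ?_), rfl⟩
  · have := h (x, 0); change ψ.χ (x * w.1 + 0 * w.2) = 1 at this; rwa [zero_mul, add_zero] at this
  · have := h (0, x); change ψ.χ (0 * w.1 + x * w.2) = 1 at this; rwa [zero_mul, zero_add] at this

/-- A transvection of the complement fixing the weight acts as a nontrivial central element. -/
theorem Fixed.star (hF : Fixed (m := m) (F := F) X) {x : X} {v : d.W} (hv : (1, v) ∈ Wt ψ d x) (a : d.W)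
    (ha : qv v (a : V) ≠ 0) :
    ∃ z, tv (a : V) (qv v (a : V))⁻¹ • x = tv d.e z • x ∧ ψ.χ z ≠ 1 := by
  by_contra hno
  push Not at hno
  set P := qv v (a : V)
  set p := rt P
  have hp : p * p = P := rt_mul_self P
  have hcomm : ∀ t z, tv (a : V) t * tv d.e z = tv d.e z * tv (a : V) t := fun t z => tv_comm_of_fix (fix_tvW a t) z
  let K2 : AddSubgroup (F × F) :=
    { carrier := {w | (tv d.e w.1 * tv (a : V) w.2) • x = x}
      zero_mem' := by
        change (tv d.e 0 * tv (a : V) 0) • x = x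
        rw [tv_zero, tv_zero, one_mul, one_smul]
      add_mem' := fun {w w'} (h : _ = x) (h' : _ = x) => by
        change (tv d.e (w.1 + w'.1) * tv (a : V) (w.2 + w'.2)) • x = x
        rw [← tv_add, ← tv_add, mul_assoc, ← mul_assoc (tv d.e w'.1), ← hcomm, mul_assoc, ← mul_assoc, mul_smul,
          h', h]
      neg_mem' := fun {w} (h : _ = x) => by
        change (tv d.e (-w.1) * tv (a : V) (-w.2)) • x = x
        rw [CharTwo.neg_eq, CharTwo.neg_eq]; exact h }
  let K2' : AddSubgroup (F × F) := K2 ⊔ AddSubgroup.zmultiples (0, P⁻¹)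
  obtain ⟨w, hw, hw1⟩ := exists_ext ψ (pair2 F) (pair2_perfect ψ)
    (fun z w => by change z * w.1 + 0 * w.2 = z * w.1; rw [zero_mul, add_zero]) K2' (fun z hz => by
      obtain ⟨⟨z1, t1⟩, h1, r, hr, e⟩ := AddSubgroup.mem_sup.1 hz
      obtain ⟨n, rfl⟩ := AddSubgroup.mem_zmultiples_iff.1 hr
      simp only [Prod.smul_mk, smul_zero, Prod.mk_add_mk, add_zero, Prod.mk.injEq] at e
      obtain ⟨e1, e2⟩ := e
      subst e1
      change (tv d.e z1 * tv (a : V) t1) • x = x at h1
      rw [zsmul_eq_mul] at e2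
      rcases Int.even_or_odd n with ⟨k, rfl⟩ | ⟨k, rfl⟩
      · push_cast at e2
        have ht : t1 = 0 := by linear_combination e2 - (k : F) * P⁻¹ * CharTwo.two_eq_zero (R := F)
        rw [ht, tv_zero, mul_one] at h1
        exact wt_sees ψ hv z1 h1
      · push_cast at e2
        have ht : t1 = P⁻¹ := by
          linear_combination e2 - ((k : F) + 1) * P⁻¹ * CharTwo.two_eq_zero (R := F)
        rw [ht, mul_smul] at h1
        refine hno z1 ?_
        conv_rhs => rw [← h1]
        rw [← mul_smul, tv_add, CharTwo.add_self_eq_zero, tv_zero, one_smul])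
  have hwP : ψ.χ (w.2 / P) = 1 := by
    have := hw (0, P⁻¹) (AddSubgroup.mem_sup_right (AddSubgroup.mem_zmultiples _))
    change ψ.χ (0 * w.1 + P⁻¹ * w.2) = 1 at this
    rwa [zero_mul, zero_add, mul_comm, ← div_eq_mul_inv] at this
  obtain ⟨y, hy⟩ := ψ.as_solve hwP
  set σ := p * y
  have hσ : σ * σ + σ * p = w.2 := by
    calc σ * σ + σ * p = (p * p) * (y * y + y) := by ring
      _ = w.2 := by rw [hp, hy, mul_div_cancel₀ _ ha]
  have he : form d.e (a : V) = 0 := d.We a
  have hne : (a : V) + σ • d.e ≠ 0 := fun e => by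
    have h1 : qv v ((a : V) + σ • d.e) = 0 := by rw [e, qv_zero]
    have h2 : σ = 0 := by
      have := congrArg (fun z => form z d.f) e
      simpa [form_add_left, form_smul_left, d.hef, form_zero_swap (d.Wf a), form_zero_left] using this
    rw [h2, zero_smul, add_zero] at h1
    exact ha h1
  obtain ⟨d', hd'⟩ := exists_hpair (m := m) (F := F) hne
  obtain ⟨u, hu⟩ := ψ.exists_ne
  apply hu
  set μ := u / p
  have hp0 : p ≠ 0 := fun e => ha (by rw [← hp, e, mul_zero])
  have hb : form d'.e (μ • d.e) = 0 := by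
    rw [hd', form_smul_right, form_add_left, form_zero_swap he, form_smul_left, form_self, mul_zero, add_zero,
      mul_zero]
  obtain ⟨z, hz⟩ := hF.sh_fix hb x
  have e1 : sh d'.e (μ • d.e) = sh d.e (μ • (a : V)) := by
    refine symp_ext fun y => ?_
    rw [sh_smul hb, sh_smul (by rw [form_smul_right, he, mul_zero]), hd', form_add_right, form_smul_right,
      form_smul_right, form_smul_right]
    have h2 : (((μ * form y d.e * σ) • d.e : V) + (μ * form y d.e * σ) • d.e) = 0 := add_self_zero _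
    linear_combination (norm := module) (1 : F) • h2
  rw [e1, hd', tv_expand he] at hz
  obtain ⟨z1, hz1, hz1'⟩ := hF.plane_val ψ hv a μ
  obtain ⟨z2, hz2, hz2'⟩ := hF.plane_val ψ hv a (z * σ)
  have hmem : ((z1 + z2 + z * σ ^ 2, z) : F × F) ∈ K2' := by
    refine AddSubgroup.mem_sup_left ?_
    change (tv d.e (z1 + z2 + z * σ ^ 2) * tv (a : V) z) • x = x
    have h3 : tv d.e z1 • x = tv (a : V) z • tv d.e (z * σ ^ 2 + z2) • x := by
      rw [← hz1, hz, mul_assoc, mul_smul (tv (a : V) z), ← tv_add d.e (z * σ ^ 2),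
        mul_smul (tv d.e (z * σ ^ 2)), ← hz2, ← mul_smul (tv d.e (z * σ ^ 2)),
        (sh_tv_comm (by rw [form_smul_right, he, mul_zero]) _).eq]
    rw [show z1 + z2 + z * σ ^ 2 = z1 + (z * σ ^ 2 + z2) by ring, ← tv_add, mul_assoc, ← hcomm, mul_smul,
      mul_smul, ← h3, ← mul_smul, tv_add, CharTwo.add_self_eq_zero, tv_zero, one_smul]
  have h := hw _ hmem
  change ψ.χ ((z1 + z2 + z * σ ^ 2) * w.1 + z * w.2) = 1 at h
  rw [hw1, mul_one, ← hσ, AddChar.map_add_eq_mul, AddChar.map_add_eq_mul, AddChar.map_add_eq_mul, hz1', hz2',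
    mul_add z, AddChar.map_add_eq_mul, ← mul_assoc z σ σ, show z * σ ^ 2 = z * σ * σ by ring,
    show z * (σ * p) = z * σ * p by ring] at h
  change ψ.χ (μ * p) * ψ.χ (z * σ * p) * ψ.χ (z * σ * σ) * (ψ.χ (z * σ * σ) * ψ.χ (z * σ * p)) = 1 at h
  rw [show μ * p = u from div_mul_cancel₀ u hp0] at h
  linear_combination h - ψ.χ u * ψ.χ (z * σ * p) * ψ.χ (z * σ * p) * ψ.mul_self (z * σ * σ) -
    ψ.χ u * ψ.mul_self (z * σ * p)

theorem exists_qv_ne (hW : ∃ a : d.W, a ≠ 0) (v : d.W) : ∃ a : d.W, qv v (a : V) ≠ 0 := by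
  by_contra hc
  push Not at hc
  obtain ⟨a, ha⟩ := hW
  obtain ⟨b, hb, hab⟩ := d.nondeg_W a a.2 fun e => ha (Subtype.ext e)
  apply hab
  have h := qv_add v (a : V) b
  rw [hc a, hc ⟨b, hb⟩] at h
  have h2 := hc ⟨(a : V) + b, d.W.add_mem a.2 hb⟩
  change qv v ((a : V) + b) = 0 at h2
  rw [h2, zero_add, zero_add] at h
  exact h.symm

/-- Not every orbit of the centre is fixed by the radical. -/
theorem not_fixed (hq : 4 ≤ Nat.card F) (hm : 2 ≤ m) (hfree : Free (m := m) (F := F) X)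
    (hN : ∀ v : d.W, nw ψ d X (1, v) ≤ 2) (x₀ : X) : ¬ Fixed (m := m) (F := F) X := by
  intro hF
  obtain ⟨w₀, hw₀, hc₀⟩ := exists_wt_ne ψ (d := d) hfree x₀
  obtain ⟨g₁, s₁, -, hx₁, -⟩ := exists_normalise ψ x₀ hw₀ hc₀
  set x₁ := g₁ • x₀
  set v₁ := s₁⁻¹ • w₀.2
  obtain ⟨a₁, ha₁⟩ := exists_qv_ne (W_ne d hm) v₁
  -- the transvection group of the complement acts semiregularly
  have hsemi : ∀ t, tv (a₁ : V) t • x₁ = x₁ → t = 0 := by
    intro t ht
    by_contra ht0
    have hu := d.tvGroup_le (tv_mem_tvGroup a₁.2 t)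
    have h := ((tr_Lv hu).mem_wt ψ (pair_tv ψ v₁ a₁ t hu) x₁).2 hx₁
    rw [ht] at h
    have hd : (((1 : F), v₁ + (rt t + t * rt (qv v₁ (a₁ : V))) • a₁) - (1, v₁)) ∈ Wt ψ d x₁ :=
      (Wt ψ d x₁).sub_mem h hx₁
    rw [Prod.mk_sub_mk, sub_self, add_sub_cancel_left] at hd
    have h0 : _ ∈ Dir ψ d x₁ := hd
    rw [hF ψ d x₁, AddSubgroup.mem_bot, smul_eq_zero] at h0
    have ha0 : a₁ ≠ 0 := fun e => ha₁ (by rw [e, Submodule.coe_zero, qv_zero])
    have hκ := h0.resolve_right ha0
    set p := rt (qv v₁ (a₁ : V))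
    set y := rt t
    have hp : p * p = qv v₁ (a₁ : V) := rt_mul_self _
    have hy : y * y = t := rt_mul_self t
    have hy0 : y ≠ 0 := fun e => ht0 (by rw [← hy, e, mul_zero])
    have h2 : y * (1 + y * p) = 0 := by linear_combination hκ + p * hy
    have h3 : y * p = 1 := (CharTwo.add_eq_zero.1 ((mul_eq_zero.1 h2).resolve_left hy0)).symm
    have ht1 : t = (qv v₁ (a₁ : V))⁻¹ :=
      eq_inv_of_mul_eq_one_left (by rw [← hy, ← hp]; linear_combination (y * p + 1) * h3)
    obtain ⟨z, hz, hzne⟩ := hF.star ψ hx₁ a₁ ha₁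
    rw [← ht1, ht] at hz
    exact hzne (wt_sees ψ hx₁ z hz.symm)
  obtain ⟨g, hg⟩ := exists_smul_eq_of_ne_zero (u := (a₁ : V)) (v := d.e)
    (fun e => ha₁ (by rw [e, qv_zero])) d.e_ne
  obtain ⟨y, hy⟩ : ∃ y, y = g • x₁ := ⟨_, rfl⟩
  have hreg : ∀ z, tv d.e z • y = y → z = 0 := fun z hz => hsemi z <| by
    subst hy
    have e := tv_conj g (a₁ : V) z
    rw [hg, mul_inv_eq_iff_eq_mul] at e
    rw [← mul_smul, ← e, mul_smul] at hz
    exact MulAction.injective g hz
  obtain ⟨v, hv⟩ := exists_wt ψ (d := d) y fun z hz => by rw [hreg z hz, AddChar.map_zero_eq_one]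
  choose φ hφ using fun a : d.W => hF.el_fix a y
  have huniq : ∀ (z : F) (a : d.W), el d (z, a) • y = y → z = φ a := fun z a h => by
    have h' : el d ((z, a) + (φ a, a)) • y = y := by rw [el_add, mul_smul, hφ, h]
    rw [Prod.mk_add_mk, show a + a = 0 from Subtype.ext (add_self_zero (a : V)), el_fst] at h'
    exact CharTwo.add_eq_zero.1 (hreg _ h')
  have hadd : ∀ a b, φ (a + b) = φ a + φ b := fun a b => (huniq _ _ (by
    rw [show ((φ a + φ b, a + b) : F × d.W) = (φ a, a) + (φ b, b) from rfl, el_add, mul_smul, hφ, hφ])).symm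
  set Φ : d.W → F := fun a => φ a + q0 (a : V)
  have hΦadd : ∀ a b : d.W, Φ (a + b) = Φ a + Φ b + form (a : V) (b : V) := fun a b => by
    simp only [Φ, hadd, Submodule.coe_add, q0_add]; ring
  -- the reflections fix the function
  have hrefl : ∀ a : d.W, qv v (a : V) ≠ 0 → ∀ b : d.W,
      Φ (b + ((qv v (a : V))⁻¹ * form (b : V) (a : V)) • a) = Φ b := by
    intro a ha b
    obtain ⟨z, hz, -⟩ := hF.star ψ hv a ha
    have hu := d.tvGroup_le (tv_mem_tvGroup a.2 (qv v (a : V))⁻¹)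
    have h1 := (tr_Lv hu).smul (φ b, b) y
    rw [hφ, hz, ← el_fst, ← mul_smul, ← el_add, add_comm, el_add, mul_smul] at h1
    have h2 : el d (fLv d hu (φ b, b)) • y = y := MulAction.injective (el d ((z, 0) : F × d.W)) h1.symm
    have h3 := huniq _ _ h2
    have hb : d.lev hu b = b + ((qv v (a : V))⁻¹ * form (b : V) (a : V)) • a := Subtype.ext (tv_smul _ _ _)
    change φ b + q0 (b : V) + q0 (d.lev hu b : V) = φ (d.lev hu b) at h3
    simp only [Φ, ← hb, ← h3]
    linear_combination q0 (d.lev hu b : V) * CharTwo.two_eq_zero (R := F)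
  have hW : ∀ a : d.W, a ≠ 0 → ∀ c : F, ∃ b : d.W, form (b : V) (a : V) = c := fun a ha c => by
    obtain ⟨b, hb, hab⟩ := d.nondeg_W a a.2 fun e => ha (Subtype.ext e)
    exact ⟨(c / form (a : V) b) • ⟨b, hb⟩, by
      rw [Submodule.coe_smul, form_smul_left, form_comm b, div_mul_cancel₀ _ hab]⟩
  have hhom1 : ∀ a : d.W, qv v (a : V) ≠ 0 → ∀ t : F, Φ (t • a) = t * t * qv v (a : V) := by
    intro a ha t
    obtain ⟨b, hb⟩ := hW a (fun e => ha (by rw [e, Submodule.coe_zero, qv_zero])) (t * qv v (a : V))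
    have h := hrefl a ha b
    rw [hb, show (qv v (a : V))⁻¹ * (t * qv v (a : V)) = t by field_simp, hΦadd, Submodule.coe_smul,
      form_smul_right, hb] at h
    linear_combination h - t * (t * qv v (a : V)) * CharTwo.two_eq_zero (R := F)
  have hhom : ∀ (a : d.W) (t : F), Φ (t • a) = t * t * Φ a := by
    have h1 : ∀ a : d.W, qv v (a : V) ≠ 0 → ∀ t : F, Φ (t • a) = t * t * Φ a := fun a ha t => by
      rw [hhom1 a ha t, show Φ a = qv v (a : V) by simpa using hhom1 a ha 1]
    intro b t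
    by_cases hb : qv v (b : V) ≠ 0
    · exact h1 b hb t
    push Not at hb
    obtain ⟨a, ha⟩ := exists_qv_ne (W_ne d hm) v
    obtain ⟨l, hl, hl'⟩ := exists_third hq 0 (form (b : V) (a : V) / qv v (a : V))
    have hla : qv v ((l • a : d.W) : V) ≠ 0 := by
      rw [Submodule.coe_smul, qv_smul]; exact mul_ne_zero (mul_ne_zero hl hl) ha
    have hsum : qv v ((b + l • a : d.W) : V) ≠ 0 := by
      rw [Submodule.coe_add, qv_add, hb, zero_add, Submodule.coe_smul, qv_smul, form_smul_right,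
        show l * l * qv v (a : V) + l * form (b : V) (a : V) =
          l * (l * qv v (a : V) + form (b : V) (a : V)) by ring]
      refine mul_ne_zero hl fun e => hl' ?_
      rw [eq_div_iff ha]
      exact CharTwo.add_eq_zero.1 e
    have e1 := h1 _ hsum t
    have e2 := h1 _ hla t
    rw [smul_add, hΦadd, hΦadd, e2, Submodule.coe_smul, Submodule.coe_smul, Submodule.coe_smul, form_smul_left,
      form_smul_right, form_smul_right] at e1
    linear_combination e1
  -- the torus permutes at most two orbits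
  have htor : ∀ g s, IsTor d g s → (1, v) ∈ Wt ψ d (g • y) := by
    intro g s hg p hp
    have h0 := mem_qStab.1 hp
    rw [← (fTor d hg.1).apply_symm_apply p, ← (tr_tor hg).smul] at h0
    have h1 := MulAction.injective g h0
    set p' := (fTor d hg.1).symm p
    have h2 : p'.1 = φ p'.2 := huniq _ _ h1
    refine hv p (mem_qStab.2 ?_)
    rw [← (fTor d hg.1).apply_symm_apply p]
    change el d (s * s * p'.1, s • p'.2) • y = y
    rw [show s * s * p'.1 = φ (s • p'.2) by
      have h3 := hhom p'.2 s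
      simp only [Φ, Submodule.coe_smul, q0_smul] at h3
      rw [h2]; linear_combination -h3]
    exact hφ _
  obtain ⟨s, hs, hs1⟩ := exists_third hq 0 1
  have hr : rt s ≠ 0 := fun e => hs (by rw [← rt_mul_self s, e, mul_zero])
  obtain ⟨τ, hτ⟩ := exists_tor (d := d) hr
  have hτ2 := hτ.mul hτ
  rw [rt_mul_self] at hτ2
  have horb : qOrb d ((τ * τ) • y) = qOrb d y := by
    rcases three_eq ψ hN hv (htor τ _ hτ) (htor _ _ hτ2) with h | h | h
    · rw [mul_smul]
      exact (((tr_tor hτ).qOrb_iff _ _).2 h.symm).trans h.symm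
    · exact h.symm
    · rw [mul_smul] at h ⊢
      exact h.symm.trans ((tr_tor hτ).qOrb_iff _ _ |>.1 h.symm)
  obtain ⟨⟨z₁, a₂⟩, hp⟩ := qOrb_eq.1 horb
  have hgy : (τ * τ) • y = tv d.e (z₁ + φ a₂) • y := by
    rw [hp]
    conv_lhs => rw [← hφ a₂]
    rw [← mul_smul, ← el_add, Prod.mk_add_mk, show a₂ + a₂ = 0 from Subtype.ext (add_self_zero (a₂ : V)), el_fst]
  obtain ⟨a, ha⟩ := exists_qv_ne (W_ne d hm) v
  obtain ⟨z, hz, hzne⟩ := hF.star ψ hv a ha
  apply hzne
  set r := tv (a : V) (qv v (a : V))⁻¹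
  set G := τ * τ
  have hGr : G * r = r * G := hτ2.comm (d.tvGroup_le (tv_mem_tvGroup a.2 _))
  have hGz : G * tv d.e z = tv d.e (s * s * z) * G := by
    rw [← mul_inv_eq_iff_eq_mul, tv_conj, hτ2.2.1, tv_smul_vec, pow_two]
  have h1 : G • r • y = r • G • y := by rw [← mul_smul, ← mul_smul, hGr]
  rw [hz, ← mul_smul G, hGz, mul_smul, hgy, ← mul_smul r, tv_comm_of_fix (fix_tvW a _), mul_smul, hz, ← mul_smul,
    tv_add, ← mul_smul, tv_add, add_comm _ z] at h1
  rw [show s * s * z + (z₁ + φ a₂) = (s * s * z + z) + (z + (z₁ + φ a₂)) by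
    linear_combination -z * CharTwo.two_eq_zero (R := F), ← tv_add, mul_smul] at h1
  have h2 : (s * s + 1) * z = 0 := by
    rw [← mul_smul, tv_add, add_comm _ (z + (z₁ + φ a₂)), ← tv_add, mul_smul] at h1
    have := hreg (s * s * z + z) (MulAction.injective _ h1)
    linear_combination this
  have h3 : z = 0 := by
    refine (mul_eq_zero.1 h2).resolve_left fun e => hs1 ?_
    rcases mul_self_eq_one_iff.1 (CharTwo.add_eq_zero.1 e) with e' | e'
    · exact e'
    · rw [e', CharTwo.neg_eq]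
  rw [h3, AddChar.map_zero_eq_one]

end CfsgLib.MinIdxPSp
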