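import Cfsg.Agent.MinIdxPSp.EvenFixed

/-!
Transitive sets without fixed points of transvection groups, in characteristic two.
-/

set_option autoImplicit false
set_option linter.style.haveILetI false
set_option linter.unusedSectionVars false

namespace CfsgLib.MinIdxPSp

open Matrix CfsgLib.Symp AddAction CfsgLib.MinIdxPSU
open scoped Classical

variable {m : ℕ} {F : Type*} [Field F] [Finite F] [CharP F 2] (ψ : SqChar F) {d : HPair m F}

local notation "V" => Fin m ⊕ Fin m → F
local notation "Sp" => Matrix.symplecticGroup (Fin m) F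

/-! ### The two classes of weights -/

/-- The type of a weight. -/
noncomputable def eps (ψ : SqChar F) {d : HPair m F} (v : d.W) : ℂ := ψ.χ (q0 (v : Fin m ⊕ Fin m → F))

theorem nw_class (X : Type*) [MulAction (Matrix.symplecticGroup (Fin m) F) X] [Finite X] {v v' : d.W}
    (h : eps ψ v = eps ψ v') : nw ψ d X (1, v) ≤ nw ψ d X (1, v') := by
  set u : d.W := v + v' with hu
  have hs : ψ.χ (rt (qv v (u : V))) = 1 := by
    rw [ψ.apply_rt, qv, AddChar.map_add_eq_mul, ψ.sq, hu, Submodule.coe_add, form_add_right, form_self, zero_add,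
      q0_add, AddChar.map_add_eq_mul, AddChar.map_add_eq_mul]
    unfold eps at h
    rw [h]
    linear_combination ψ.mul_self (q0 (v' : V)) * ψ.χ (form (v : V) (v' : V)) * ψ.χ (form (v : V) (v' : V)) +
      ψ.mul_self (form (v : V) (v' : V))
  set s := rt (qv v (u : V))
  obtain ⟨t, ht⟩ : ∃ t : F, rt t + t * s = 1 := by
    by_cases h0 : s = 0
    · exact ⟨1 * 1, by rw [rt_sq, h0, mul_zero, add_zero]⟩
    obtain ⟨x, hx⟩ := ψ.as_solve hs
    refine ⟨x / s * (x / s), ?_⟩
    rw [rt_sq]
    field_simp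
    linear_combination hx
  have hu' := d.tvGroup_le (tv_mem_tvGroup u.2 t)
  refine (tr_Lv hu').nw_le ψ fun p => ?_
  have := pair_tv ψ v u t hu' p
  rwa [ht, one_smul, show v + u = v' by
    rw [hu, ← add_assoc, show v + v = 0 from Subtype.ext (add_self_zero (v : V)), zero_add]] at this

theorem class_count :
    ∃ (P M s : ℕ) (vP vM : d.W), eps ψ vP = 1 ∧ eps ψ vM = -1 ∨ Nat.card d.W = 1 ∧ P = 0 ∧ M = 0 ∧ s = 0 := by
  rcases Nat.lt_or_ge 1 (Nat.card d.W) with hQ | hQ
  swap
  · exact ⟨0, 0, 0, 0, 0, Or.inr ⟨le_antisymm hQ Nat.card_pos, rfl, rfl, rfl⟩⟩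
  haveI := Fintype.ofFinite d.W
  set S : ℂ := ∑ v : d.W, eps ψ v
  have hS : S * S = (Nat.card d.W : ℂ) := by
    have h0 : ∀ v w : d.W, eps ψ v * eps ψ (v + w) = ψ.χ (q0 (w : V)) * ψ.χ (form (v : V) (w : V)) := by
      intro v w
      unfold eps
      rw [← AddChar.map_add_eq_mul, ← AddChar.map_add_eq_mul, Submodule.coe_add, q0_add]
      congr 1
      linear_combination q0 (v : V) * CharTwo.two_eq_zero (R := F)
    calc S * S = ∑ v : d.W, ∑ w : d.W, eps ψ v * eps ψ (v + w) := by
          rw [Finset.sum_mul]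
          refine Finset.sum_congr rfl fun v _ => ?_
          rw [← Finset.mul_sum]
          congr 1
          exact (Equiv.sum_comp (Equiv.addLeft v) (eps ψ)).symm
      _ = ∑ w : d.W, ψ.χ (q0 (w : V)) * ∑ v : d.W, ψ.χ (form (v : V) (w : V)) := by
          rw [Finset.sum_comm]
          refine Finset.sum_congr rfl fun w _ => ?_
          rw [Finset.mul_sum]
          exact Finset.sum_congr rfl fun v _ => h0 v w
      _ = _ := by
          rw [Finset.sum_eq_single (0 : d.W)]
          · simp [q0_zero, form_zero_right, AddChar.map_zero_eq_one, Nat.card_eq_fintype_card]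
          · intro w _ hw
            set φ : AddChar d.W ℂ := ψ.χ.compAddMonoidHom (AddMonoidHom.mk' (fun v : d.W => form (v : V) (w : V))
              fun a b => form_add_left _ _ _)
            have hφ : φ ≠ 0 := fun e => hw ((pairW_perfect (d := d) ψ.ne_zero).nondeg w fun a =>
              DFunLike.congr_fun e a)
            rw [show ∑ v : d.W, ψ.χ (form (v : V) (w : V)) = ∑ v, φ v from rfl,
              AddChar.sum_eq_zero_iff_ne_zero.2 hφ, mul_zero]
          · simp
  have hP : ∃ vP : d.W, eps ψ vP = 1 := ⟨0, by simp [eps, q0_zero, AddChar.map_zero_eq_one]⟩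
  obtain ⟨vP, hvP⟩ := hP
  by_cases hM : ∃ vM : d.W, eps ψ vM = -1
  · obtain ⟨vM, hvM⟩ := hM
    exact ⟨0, 0, 0, vP, vM, Or.inl ⟨hvP, hvM⟩⟩
  push Not at hM
  exfalso
  have hall : ∀ v : d.W, eps ψ v = 1 := fun v => (ψ.cases _).resolve_right (hM v)
  rw [show S = (Nat.card d.W : ℂ) by simp [S, hall, Nat.card_eq_fintype_card]] at hS
  norm_cast at hS
  have : Nat.card d.W = 1 := by
    apply Nat.eq_of_mul_eq_mul_left (Nat.card_pos (α := d.W))
    rw [hS, mul_one]
  omega

theorem exists_eps (hm : 2 ≤ m) : ∃ vP vM : d.W, eps ψ vP = 1 ∧ eps ψ vM = -1 := by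
  obtain ⟨P, M, s, vP, vM, h | ⟨h, -⟩⟩ := class_count ψ (d := d)
  · exact ⟨vP, vM, h⟩
  obtain ⟨a, ha⟩ := W_ne d hm
  haveI := (Nat.card_eq_one_iff_unique.1 h).1
  exact absurd (Subsingleton.elim _ _) ha

theorem eps_card :
    ∃ s : ℕ, s * s = Nat.card d.W ∧ Nat.card d.W ≤ 2 * Nat.card {v : d.W // eps ψ v = 1} + s ∧
      Nat.card d.W ≤ 2 * Nat.card {v : d.W // eps ψ v = -1} + s := by
  haveI := Fintype.ofFinite d.W
  set P := Nat.card {v : d.W // eps ψ v = 1} with hP
  set M := Nat.card {v : d.W // eps ψ v = -1} with hM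
  set S : ℂ := ∑ v : d.W, eps ψ v
  have hne : ∀ v : d.W, ¬ eps ψ v = 1 ↔ eps ψ v = -1 := fun v =>
    ⟨fun h => (ψ.cases _).resolve_left h, fun h h' => by
      rw [h'] at h
      norm_num at h⟩
  have hQ : P + M = Nat.card d.W := by
    rw [hP, hM, ← Nat.card_congr (Equiv.subtypeEquivRight hne), ← Nat.card_sum]
    exact Nat.card_congr (Equiv.sumCompl fun v : d.W => eps ψ v = 1)
  have hS : S = (P : ℂ) - (M : ℂ) := by
    rw [show S = ∑ v : d.W, ((if eps ψ v = 1 then (1 : ℂ) else 0) - (if eps ψ v = -1 then (1 : ℂ) else 0)) from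
      Finset.sum_congr rfl fun v _ => by
        rcases ψ.cases (q0 (v : V)) with e | e <;> simp [eps, e]
        all_goals norm_num,
      Finset.sum_sub_distrib, Finset.sum_boole, Finset.sum_boole, ← Fintype.card_subtype, ← Fintype.card_subtype,
      ← Nat.card_eq_fintype_card, ← Nat.card_eq_fintype_card]
  have hSS : S * S = (Nat.card d.W : ℂ) := by
    have h0 : ∀ v w : d.W, eps ψ v * eps ψ (v + w) = ψ.χ (q0 (w : V)) * ψ.χ (form (v : V) (w : V)) := by
      intro v w
      unfold eps
      rw [← AddChar.map_add_eq_mul, ← AddChar.map_add_eq_mul, Submodule.coe_add, q0_add]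
      congr 1
      linear_combination q0 (v : V) * CharTwo.two_eq_zero (R := F)
    calc S * S = ∑ v : d.W, ∑ w : d.W, eps ψ v * eps ψ (v + w) := by
          rw [Finset.sum_mul]
          refine Finset.sum_congr rfl fun v _ => ?_
          rw [← Finset.mul_sum]
          congr 1
          exact (Equiv.sum_comp (Equiv.addLeft v) (eps ψ)).symm
      _ = ∑ w : d.W, ψ.χ (q0 (w : V)) * ∑ v : d.W, ψ.χ (form (v : V) (w : V)) := by
          rw [Finset.sum_comm]
          refine Finset.sum_congr rfl fun w _ => ?_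
          rw [Finset.mul_sum]
          exact Finset.sum_congr rfl fun v _ => h0 v w
      _ = _ := by
          rw [Finset.sum_eq_single (0 : d.W)]
          · simp [q0_zero, form_zero_right, AddChar.map_zero_eq_one, Nat.card_eq_fintype_card]
          · intro w _ hw
            set φ : AddChar d.W ℂ := ψ.χ.compAddMonoidHom (AddMonoidHom.mk' (fun v : d.W => form (v : V) (w : V))
              fun a b => form_add_left _ _ _)
            have hφ : φ ≠ 0 := fun e => hw ((pairW_perfect (d := d) ψ.ne_zero).nondeg w fun a =>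
              DFunLike.congr_fun e a)
            rw [show ∑ v : d.W, ψ.χ (form (v : V) (w : V)) = ∑ v, φ v from rfl,
              AddChar.sum_eq_zero_iff_ne_zero.2 hφ, mul_zero]
          · simp
  rw [hS] at hSS
  refine ⟨((P : ℤ) - M).natAbs, ?_, ?_, ?_⟩
  · have h : ((P : ℤ) - M) * ((P : ℤ) - M) = (Nat.card d.W : ℤ) := by exact_mod_cast hSS
    have := Int.natAbs_mul_self (a := (P : ℤ) - M)
    omega
  · omega
  · omega

variable (X : Type*) [MulAction (Matrix.symplecticGroup (Fin m) F) X] [Finite X]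

theorem slice_sum [Fintype d.W] :
    Nat.card F * ∑ v : d.W, nw ψ d X (1, v) ≤ Nat.card X := by
  haveI := Fintype.ofFinite F
  rw [show Nat.card X = Nat.card (QX d X) from rfl, card_eq_sum_nwtB (Y := QX d X) (pairQ_perfect ψ d),
    Fintype.sum_prod_type, Nat.card_eq_fintype_card, ← Finset.card_univ, ← smul_eq_mul, ← Finset.sum_const]
  refine Finset.sum_le_sum fun c _ => ?_
  rcases eq_or_ne c 0 with rfl | hc
  · haveI := Fintype.ofFinite (AOrb (M := F × d.W) (QX d X))
    simp only [nw, nwtB, Nat.card_eq_fintype_card, Fintype.card_subtype, Finset.card_filter]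
    rw [Finset.sum_comm, Finset.sum_comm (f := fun v o => if ((0 : F), v) ∈ wtB (pairQ d) ψ.χ o then 1 else 0)]
    refine Finset.sum_le_sum fun o _ => ?_
    rw [← Finset.card_filter, ← Finset.card_filter]
    by_cases h : ∃ v₀ : d.W, ((1 : F), v₀) ∈ wtB (pairQ d) ψ.χ o
    · obtain ⟨v₀, hv₀⟩ := h
      refine Finset.card_le_card_of_injOn (fun v => v - v₀) ?_ (sub_left_injective).injOn
      intro v hv
      simp only [Finset.coe_filter, Finset.mem_univ, true_and, Set.mem_ofPred_eq] at hv ⊢
      have := (wtB (pairQ d) ψ.χ o).sub_mem hv hv₀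
      rwa [Prod.mk_sub_mk, sub_self] at this
    · push Not at h
      simp [h]
  · have hr : rt c ≠ 0 := fun e => hc (by rw [← rt_mul_self c, e, mul_zero])
    obtain ⟨g, hg⟩ := exists_tor (d := d) (inv_ne_zero hr)
    have hle : ∀ v : d.W, nw ψ d X (1, v) ≤ nw ψ d X (c, rt c • v) := fun v => by
      refine (tr_tor hg).nw_le ψ fun p => ?_
      have h := pair_fTor ψ hg.1 (1, v) p
      simp only [mul_one, mul_inv, inv_inv, rt_mul_self] at h
      exact h
    refine le_trans (Finset.sum_le_sum fun v _ => hle v) (le_of_eq ?_)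
    exact Equiv.sum_comp (Equiv.ofBijective _ (Finite.injective_iff_bijective.1 (smul_right_injective d.W hr)))
      (fun v => nwtB (Y := QX d X) (pairQ d) ψ.χ (c, v))

theorem class_bound {vP vM : d.W} (hP : eps ψ vP = 1) (hM : eps ψ vM = -1) :
    Nat.card F * (nw ψ d X (1, vP) * Nat.card {v : d.W // eps ψ v = 1} +
      nw ψ d X (1, vM) * Nat.card {v : d.W // eps ψ v = -1}) ≤ Nat.card X := by
  haveI := Fintype.ofFinite d.W
  refine le_trans (Nat.mul_le_mul_left _ ?_) (slice_sum ψ (d := d) X)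
  rw [← Finset.sum_filter_add_sum_filter_not Finset.univ (fun v : d.W => eps ψ v = 1)]
  refine Nat.add_le_add ?_ ?_
  · rw [mul_comm, Nat.card_eq_fintype_card, Fintype.card_subtype, ← smul_eq_mul, ← Finset.sum_const]
    exact Finset.sum_le_sum fun v hv => nw_class ψ X (hP.trans (Finset.mem_filter.1 hv).2.symm)
  · rw [mul_comm, Nat.card_eq_fintype_card, Fintype.card_subtype, ← smul_eq_mul, ← Finset.sum_const]
    refine le_trans (Finset.sum_le_sum fun v hv => nw_class ψ X (hM.trans (Finset.mem_filter.1 hv).2.symm))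
      (Finset.sum_le_sum_of_subset fun v hv => Finset.mem_filter.2 ⟨Finset.mem_univ _, fun h => ?_⟩)
    rw [(Finset.mem_filter.1 hv).2] at h
    norm_num at h

theorem numeric_bound {a b P M : ℕ} {s Q : ℕ} (hab : 3 ≤ a + b) (hs : s * s = Q) (hP : Q ≤ 2 * P + s)
    (hM : Q ≤ 2 * M + s) (hX : Nat.card F * (a * P + b * M) ≤ Nat.card X) (hsq : Nat.card F ≤ s)
    (hq : 8 ≤ Nat.card F ∨ (4 ≤ Nat.card F ∧ 9 ≤ s)) :
    Nat.card F ^ 2 * Q - 1 ≤ (Nat.card F - 1) * Nat.card X := by
  have h3 : 3 * Q ≤ 2 * (a * P + b * M) + 3 * s := by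
    rcases le_total P M with h | h
    · have h1 : b * P ≤ b * M := Nat.mul_le_mul_left _ h
      have h2 : 3 * P ≤ (a + b) * P := Nat.mul_le_mul_right _ hab
      rw [add_mul] at h2
      omega
    · have h1 : a * M ≤ a * P := Nat.mul_le_mul_left _ h
      have h2 : 3 * M ≤ (a + b) * M := Nat.mul_le_mul_right _ hab
      rw [add_mul] at h2
      omega
  set n := a * P + b * M
  obtain ⟨r, hr⟩ : ∃ r, Nat.card F = r + 1 := ⟨Nat.card F - 1, by omega⟩
  rw [hr] at hX hsq hq ⊢
  rw [Nat.add_sub_cancel, Nat.sub_le_iff_le_add]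
  have hgoal : (r + 1) ^ 2 * Q ≤ r * ((r + 1) * n) := by
    have h4 : 3 * r * Q ≤ 2 * (r * n) + 3 * r * s := by nlinarith [Nat.mul_le_mul_left r h3]
    have h5 : 2 * (r + 1) * Q + 3 * r * s ≤ 3 * r * Q := by
      subst hs
      have h6 : 2 * (r + 1) * s + 3 * r ≤ 3 * r * s := by
        rcases hq with hq | ⟨hq, hs9⟩ <;> nlinarith
      nlinarith [Nat.mul_le_mul_right s h6]
    nlinarith
  calc (r + 1) ^ 2 * Q ≤ r * ((r + 1) * n) := hgoal
    _ ≤ r * Nat.card X := Nat.mul_le_mul_left _ hX
    _ ≤ _ := Nat.le_succ _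

/-! ### Reflections -/

variable {X}

/-- The reflection. -/
def refl (u : d.W) : Matrix.symplecticGroup (Fin m) F := tv (u : Fin m ⊕ Fin m → F) 1

theorem refl_mem (u : d.W) : refl u ∈ d.Lv := d.tvGroup_le (tv_mem_tvGroup u.2 1)

theorem refl_apply (u : d.W) (b : d.W) :
    d.lev (refl_mem u) b = b + form (b : V) (u : V) • u :=
  Subtype.ext (by rw [d.lev_apply, refl, tv_smul, one_mul, Submodule.coe_add, Submodule.coe_smul])

theorem refl_invol (u : d.W) (x : X) : refl u • refl u • x = x := by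
  rw [← mul_smul, refl, tv_add, CharTwo.add_self_eq_zero, tv_zero, one_smul]

theorem refl_wt {v u : d.W} (hu : qv v (u : V) = 1) {x : X} (hx : (1, v) ∈ Wt ψ d x) :
    (1, v) ∈ Wt ψ d (refl u • x) :=
  ((tr_Lv (refl_mem u)).mem_wt ψ (pair_refl ψ v u (refl_mem u) hu) x).2 hx

theorem dir_move {g : Sp} (hg : g ∈ d.Lv) {x : X} {δ : d.W} :
    d.lev hg δ ∈ Dir ψ d (g • x) ↔ δ ∈ Dir ψ d x :=
  (tr_Lv hg).mem_wt ψ (pair_fLv_snd ψ hg δ) x

theorem scale_to_one {v b : d.W} (hb : qv v (b : V) ≠ 0) :
    qv v (((rt (qv v (b : V)))⁻¹ • b : d.W) : V) = 1 := by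
  rw [Submodule.coe_smul, qv_smul, ← mul_inv, rt_mul_self, inv_mul_cancel₀ hb]

/-- The reflections are connected by conjugation. -/
theorem refl_connected (hq : 4 ≤ Nat.card F) {v : d.W} {P : d.W → Prop}
    (h : ∀ a b c : d.W, qv v (a : V) = 1 → qv v (b : V) = 1 → qv v (c : V) = 1 →
      d.lev (refl_mem c) a = b → P a → P b)
    {a b : d.W} (ha : qv v (a : V) = 1) (hb : qv v (b : V) = 1) (hPa : P a) : P b := by
  have hdirect : ∀ a b : d.W, qv v (a : V) = 1 → qv v (b : V) = 1 → form (a : V) (b : V) ≠ 0 → P a → P b := by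
    intro a b ha hb hab hPa
    have hne : qv v ((a + b : d.W) : V) ≠ 0 := by
      rwa [Submodule.coe_add, qv_add, ha, hb, CharTwo.add_self_eq_zero, zero_add]
    refine h a b _ ha hb (scale_to_one hne) ?_ hPa
    set k := rt (qv v ((a + b : d.W) : V))
    have hk : k * k = form (a : V) (b : V) := by
      rw [rt_mul_self, Submodule.coe_add, qv_add, ha, hb, CharTwo.add_self_eq_zero, zero_add]
    rw [refl_apply, smul_smul, Submodule.coe_smul, form_smul_right, Submodule.coe_add, form_add_right, form_self,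
      zero_add, ← hk, show k⁻¹ * (k * k) * k⁻¹ = 1 by
        have : k ≠ 0 := fun e => hab (by rw [← hk, e, mul_zero])
        field_simp, one_smul, ← add_assoc, show a + a = 0 from Subtype.ext (add_self_zero (a : V)), zero_add]
  by_cases hab : form (a : V) (b : V) ≠ 0
  · exact hdirect a b ha hb hab hPa
  push Not at hab
  have ha0 : a ≠ 0 := fun e => by rw [e, Submodule.coe_zero, qv_zero] at ha; exact zero_ne_one ha
  have hb0 : b ≠ 0 := fun e => by rw [e, Submodule.coe_zero, qv_zero] at hb; exact zero_ne_one hb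
  obtain ⟨w, hwa, hwb⟩ : ∃ w : d.W, form (a : V) (w : V) ≠ 0 ∧ form (b : V) (w : V) ≠ 0 := by
    obtain ⟨y, hy, hay⟩ := d.nondeg_W a a.2 fun e => ha0 (Subtype.ext e)
    obtain ⟨z, hz, hbz⟩ := d.nondeg_W b b.2 fun e => hb0 (Subtype.ext e)
    by_cases h1 : form (b : V) y ≠ 0
    · exact ⟨⟨y, hy⟩, hay, h1⟩
    by_cases h2 : form (a : V) z ≠ 0
    · exact ⟨⟨z, hz⟩, h2, hbz⟩
    push Not at h1 h2
    refine ⟨⟨y + z, d.W.add_mem hy hz⟩, ?_, ?_⟩
    · change form (a : V) (y + z) ≠ 0; rwa [form_add_right, h2, add_zero]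
    · change form (b : V) (y + z) ≠ 0; rwa [form_add_right, h1, zero_add]
  obtain ⟨l, hl, hl'⟩ : ∃ l : F, qv v ((w + l • a : d.W) : V) ≠ 0 ∧ True := by
    by_cases hw : qv v (w : V) ≠ 0
    · exact ⟨0, by rwa [zero_smul, add_zero], trivial⟩
    push Not at hw
    obtain ⟨l, hl, hl'⟩ := exists_third hq 0 (form (w : V) (a : V))
    refine ⟨l, ?_, trivial⟩
    rw [Submodule.coe_add, qv_add, hw, zero_add, Submodule.coe_smul, qv_smul, ha, form_smul_right,
      show l * l * 1 + l * form (w : V) (a : V) = l * (l + form (w : V) (a : V)) by ring]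
    exact mul_ne_zero hl fun e => hl' (CharTwo.add_eq_zero.1 e)
  set k := rt (qv v ((w + l • a : d.W) : V))
  have hk : k⁻¹ ≠ 0 := inv_ne_zero fun e => hl (by rw [← rt_mul_self (qv v _)]; change k * k = 0; rw [e, mul_zero])
  refine hdirect (k⁻¹ • (w + l • a)) b (scale_to_one hl) hb ?_
    (hdirect a _ ha (scale_to_one hl) ?_ hPa)
  · rw [Submodule.coe_smul, form_smul_left, Submodule.coe_add, Submodule.coe_smul, form_add_left, form_smul_left,
      hab, mul_zero, add_zero, form_comm]
    exact mul_ne_zero hk hwb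
  · rw [Submodule.coe_smul, form_smul_right, Submodule.coe_add, Submodule.coe_smul, form_add_right, form_smul_right,
      form_self, mul_zero, add_zero]
    exact mul_ne_zero hk hwa

/-- The subgroups invariant under all reflections. -/
theorem invariant_top (hm : 2 ≤ m) (hcond : 8 ≤ Nat.card F ∨ (4 ≤ Nat.card F ∧ Nat.card F ^ 2 < Nat.card d.W))
    (v : d.W) (T : AddSubgroup d.W) (hT : T ≠ ⊥)
    (hinv : ∀ u : d.W, qv v (u : V) = 1 → ∀ δ ∈ T, form (δ : V) (u : V) • u ∈ T) : T = ⊤ := by
  have hq : 4 ≤ Nat.card F := by rcases hcond with h | h <;> omega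
  obtain ⟨δ, hδT, hδ⟩ : ∃ δ ∈ T, δ ≠ 0 := by
    by_contra hc; push Not at hc; exact hT ((AddSubgroup.eq_bot_iff_forall _).2 hc)
  obtain ⟨u, hu, hδu⟩ : ∃ u : d.W, qv v (u : V) = 1 ∧ form (δ : V) (u : V) ≠ 0 := by
    obtain ⟨a, haW, ha⟩ := d.nondeg_W δ δ.2 fun e => hδ (Subtype.ext e)
    obtain ⟨l, hl⟩ : ∃ l : F, qv v (((⟨a, haW⟩ : d.W) + l • δ : d.W) : V) ≠ 0 := by
      by_cases h0 : qv v a ≠ 0
      · exact ⟨0, by rwa [zero_smul, add_zero]⟩
      push Not at h0
      obtain ⟨l, hl, hl'⟩ := exists_third hq 0 (form a (δ : V) / qv v (δ : V))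
      refine ⟨l, ?_⟩
      rw [Submodule.coe_add, qv_add, h0, zero_add, Submodule.coe_smul, qv_smul, form_smul_right,
        show l * l * qv v (δ : V) + l * form a (δ : V) = l * (l * qv v (δ : V) + form a (δ : V)) by ring]
      refine mul_ne_zero hl fun e => ?_
      by_cases hqd : qv v (δ : V) = 0
      · rw [hqd, mul_zero, zero_add, form_comm] at e; exact ha e
      · exact hl' ((eq_div_iff hqd).2 (CharTwo.add_eq_zero.1 e))
    refine ⟨_, scale_to_one hl, ?_⟩
    rw [Submodule.coe_smul, form_smul_right, Submodule.coe_add, Submodule.coe_smul, form_add_right, form_smul_right,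
      form_self, mul_zero, add_zero]
    exact mul_ne_zero (inv_ne_zero fun e => hl (by
      have h1 := rt_mul_self (qv v (((⟨a, haW⟩ : d.W) + l • δ : d.W) : V))
      simp only [Submodule.coe_add, Submodule.coe_smul] at e h1 ⊢
      rw [e, mul_zero] at h1
      exact h1.symm)) ha
  -- the multiples of `u`
  let M : AddSubgroup F :=
    { carrier := {μ | μ • u ∈ T}
      zero_mem' := by change (0 : F) • u ∈ T; rw [zero_smul]; exact T.zero_mem
      add_mem' := fun {a b} (ha : a • u ∈ T) (hb : b • u ∈ T) => by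
        change (a + b) • u ∈ T; rw [add_smul]; exact T.add_mem ha hb
      neg_mem' := fun {a} (ha : a • u ∈ T) => by change (-a) • u ∈ T; rw [CharTwo.neg_eq]; exact ha }
  have hlam : form (δ : V) (u : V) ∈ M := hinv u hu δ hδT
  let R0 : AddSubgroup F :=
    { carrier := {r | ∀ μ ∈ M, r * μ ∈ M}
      zero_mem' := fun μ _ => by rw [zero_mul]; exact M.zero_mem
      add_mem' := fun {a b} ha hb μ hμ => by rw [add_mul]; exact M.add_mem (ha μ hμ) (hb μ hμ)
      neg_mem' := fun {a} ha μ hμ => by rw [neg_mul]; exact M.neg_mem (ha μ hμ) }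
  have hc2 : ∀ w : d.W, qv v (w : V) = 1 → form (u : V) (w : V) * form (u : V) (w : V) ∈ R0 := by
    intro w hw μ hμ
    have h1 := hinv w hw _ hμ
    have h2 := hinv u hu _ h1
    rw [Submodule.coe_smul, form_smul_left, Submodule.coe_smul, form_smul_left, form_comm (w : V)] at h2
    change (_ * μ) • u ∈ T
    rwa [show form (u : V) (w : V) * form (u : V) (w : V) * μ =
      μ * form (u : V) (w : V) * form (u : V) (w : V) by ring]
  obtain ⟨z₀, hz₀W, hz₀⟩ := d.nondeg_W u u.2 fun e => by rw [e, qv_zero] at hu; exact zero_ne_one hu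
  obtain ⟨z, hz⟩ : ∃ z : d.W, form (u : V) (z : V) = 1 :=
    ⟨(form (u : V) z₀)⁻¹ • ⟨z₀, hz₀W⟩, by rw [Submodule.coe_smul, form_smul_right, inv_mul_cancel₀ hz₀]⟩
  have hR0 : R0 = ⊤ := by
    -- inverses of the values of the form on the affine line
    have hval : ∀ y : d.W, form (u : V) (y : V) = 1 → qv v (y : V) ≠ 0 → (qv v (y : V))⁻¹ ∈ R0 := by
      intro y hy hne
      have := hc2 _ (scale_to_one hne)
      rwa [Submodule.coe_smul, form_smul_right, hy, mul_one, ← mul_inv, rt_mul_self] at this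
    rcases hcond with hq8 | ⟨-, hbig⟩
    · set A := qv v (z : V)
      have hline : ∀ η : F, qv v ((z + η • u : d.W) : V) = A + (η * η + η) := fun η => by
        rw [Submodule.coe_add, qv_add, Submodule.coe_smul, qv_smul, hu, form_smul_right, form_comm, hz]; ring
      have hmemR : ∀ η : F, (A + (η * η + η))⁻¹ ∈ R0 := fun η => by
        by_cases h0 : A + (η * η + η) = 0
        · rw [h0, _root_.inv_zero]; exact R0.zero_mem
        · rw [← hline]
          refine hval _ ?_ (by rwa [hline])
          rw [Submodule.coe_add, Submodule.coe_smul, form_add_right, form_smul_right, form_self, mul_zero, add_zero,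
            hz]
      have hone : (1 : F) ∈ R0 := fun μ hμ => by rw [one_mul]; exact hμ
      have hmul : ∀ a ∈ R0, ∀ b ∈ R0, a * b ∈ R0 := fun a ha b hb μ hμ => by
        rw [mul_assoc]; exact ha _ (hb μ hμ)
      have hcard : Nat.card F ≤ 2 * Nat.card R0 := by
        have h1 : Nat.card (asMap F).range ≤ Nat.card R0 := by
          refine Nat.card_le_card_of_injective (fun y : (asMap F).range => (⟨(A + y.1)⁻¹, ?_⟩ : R0))
            fun a b e => Subtype.ext (add_left_cancel (inv_injective (congrArg Subtype.val e)))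
          obtain ⟨η, hη⟩ := y.2
          rw [← hη]
          exact hmemR η
        rw [← (asMap F).range.card_mul_index, asMap_index]
        omega
      refine (AddSubgroup.eq_top_iff' _).2 fun x => ?_
      by_cases hx : x = 0
      · rw [hx]; exact R0.zero_mem
      obtain ⟨r, hr, hr0, hxr⟩ : ∃ r ∈ R0, r ≠ 0 ∧ x * r ∈ R0 := by
        by_contra hc
        push Not at hc
        have hinj : Function.Injective fun p : R0 × R0 => x * (p.1 : F) + (p.2 : F) := by
          rintro ⟨a, b⟩ ⟨a', b'⟩ e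
          change x * (a : F) + b = x * (a' : F) + b' at e
          have h1 : x * ((a : F) - a') = b' - b := by linear_combination e
          have h2 : (a : F) - a' = 0 := by
            by_contra hne
            exact hc _ (R0.sub_mem a.2 a'.2) hne (h1 ▸ R0.sub_mem b'.2 b.2)
          rw [h2, mul_zero, eq_comm, sub_eq_zero] at h1
          exact Prod.ext (Subtype.ext (sub_eq_zero.1 h2)) (Subtype.ext h1.symm)
        have h3 := Nat.card_le_card_of_injective _ hinj
        rw [Nat.card_prod] at h3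
        nlinarith
      have hrinv : r⁻¹ ∈ R0 := by
        haveI := Fintype.ofFinite F
        have hpow : ∀ n : ℕ, r ^ n ∈ R0 := fun n => by
          induction n with
          | zero => rwa [pow_zero]
          | succ n ih => rw [pow_succ]; exact hmul _ ih _ hr
        have h4 : r ^ (Fintype.card F - 1) = 1 := FiniteField.pow_card_sub_one_eq_one r hr0
        have h5 : r⁻¹ = r ^ (Fintype.card F - 2) := by
          refine inv_eq_of_mul_eq_one_right ?_
          rw [← pow_succ', show Fintype.card F - 2 + 1 = Fintype.card F - 1 by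
            have := Fintype.one_lt_card (α := F); omega]
          exact h4
        rw [h5]; exact hpow _
      have := hmul _ hxr _ hrinv
      rwa [mul_inv_cancel_right₀ hr0] at this
    · -- a vector orthogonal to the plane
      obtain ⟨t, ht⟩ : ∃ t : d.W, form (u : V) (t : V) = 0 ∧ form (z : V) (t : V) = 0 ∧ qv v (t : V) ≠ 0 := by
        let φ : d.W →+ F × F := AddMonoidHom.mk' (fun b => (form (u : V) (b : V), form (z : V) (b : V)))
          fun a b => by simp [form_add_right]
        obtain ⟨⟨a, ha⟩, ha0⟩ : ∃ a : φ.ker, a ≠ 0 := by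
          by_contra hc
          push Not at hc
          have hk : φ.ker = ⊥ := (AddSubgroup.eq_bot_iff_forall _).2 fun a ha => congrArg Subtype.val (hc ⟨a, ha⟩)
          have := Nat.card_le_card_of_injective _ ((AddMonoidHom.ker_eq_bot_iff φ).1 hk)
          rw [Nat.card_prod, ← pow_two] at this
          omega
        have ha' := AddMonoidHom.mem_ker.1 ha
        simp only [φ, AddMonoidHom.mk'_apply, Prod.mk_eq_zero] at ha'
        by_cases hqa : qv v (a : V) ≠ 0
        · exact ⟨a, ha'.1, ha'.2, hqa⟩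
        push Not at hqa
        obtain ⟨y, hy, hay⟩ := d.nondeg_W a a.2 fun e => ha0 (Subtype.ext (Subtype.ext e))
        set b : d.W := ⟨y, hy⟩ + form (u : V) y • z + form (z : V) y • u with hb
        have hb1 : form (u : V) (b : V) = 0 ∧ form (z : V) (b : V) = 0 ∧ form (a : V) (b : V) ≠ 0 := by
          simp only [hb, Submodule.coe_add, Submodule.coe_smul, form_add_right, form_smul_right, form_self, hz,
            form_comm (z : V) (u : V), form_comm (a : V) (z : V), form_comm (a : V) (u : V), ha'.1, ha'.2,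
            mul_zero, mul_one, add_zero, CharTwo.add_self_eq_zero, true_and]
          exact hay
        by_cases hqb : qv v (b : V) ≠ 0
        · exact ⟨b, hb1.1, hb1.2.1, hqb⟩
        push Not at hqb
        refine ⟨a + b, ?_, ?_, ?_⟩
        · rw [Submodule.coe_add, form_add_right, ha'.1, hb1.1, add_zero]
        · rw [Submodule.coe_add, form_add_right, ha'.2, hb1.2.1, add_zero]
        · rw [Submodule.coe_add, qv_add, hqa, hqb, zero_add, zero_add]; exact hb1.2.2
      refine (AddSubgroup.eq_top_iff' _).2 fun x => ?_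
      by_cases hx : x = 0
      · rw [hx]; exact R0.zero_mem
      set k := rt ((x⁻¹ + qv v (z : V)) / qv v (t : V))
      have hy : form (u : V) ((z + k • t : d.W) : V) = 1 := by
        rw [Submodule.coe_add, Submodule.coe_smul, form_add_right, form_smul_right, ht.1, mul_zero, add_zero, hz]
      have hyv : qv v ((z + k • t : d.W) : V) = x⁻¹ := by
        rw [Submodule.coe_add, qv_add, Submodule.coe_smul, qv_smul, form_smul_right, ht.2.1, mul_zero, add_zero,
          rt_mul_self, div_mul_cancel₀ _ ht.2.2, ← add_assoc, add_comm (qv v (z : V)), add_assoc,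
          CharTwo.add_self_eq_zero, add_zero]
      have := hval _ hy (by rw [hyv]; exact inv_ne_zero hx)
      rwa [hyv, inv_inv] at this
  have hline : ∀ μ : F, μ • u ∈ T := fun μ => by
    have h : μ / form (δ : V) (u : V) ∈ R0 := by rw [hR0]; trivial
    have := h _ hlam
    rwa [div_mul_cancel₀ _ hδu] at this
  have hall : ∀ b : d.W, qv v (b : V) = 1 → ∀ μ : F, μ • b ∈ T := fun b hb =>
    refl_connected hq (P := fun b => ∀ μ : F, μ • b ∈ T) (fun a b c _ _ hc hab hP μ => by
      have h1 : μ • b = μ • a + form ((μ • a : d.W) : V) (c : V) • c := by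
        rw [← hab, refl_apply, smul_add, smul_smul, Submodule.coe_smul, form_smul_left]
      rw [h1]
      exact T.add_mem (hP μ) (hinv c hc _ (hP μ))) hu hb hline
  have hne : ∀ b : d.W, qv v (b : V) ≠ 0 → b ∈ T := fun b hb => by
    have := hall _ (scale_to_one hb) (rt (qv v (b : V)))
    rwa [smul_inv_smul₀ (fun e => hb (by rw [← rt_mul_self (qv v _), e, mul_zero]))] at this
  refine (AddSubgroup.eq_top_iff' _).2 fun b => ?_
  by_cases hb : qv v (b : V) ≠ 0
  · exact hne b hb
  push Not at hb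
  obtain ⟨l, hl, hl'⟩ := exists_third hq 0 (form (b : V) (u : V))
  have h1 : b + l • u ∈ T := hne _ (by
    rw [Submodule.coe_add, qv_add, hb, zero_add, Submodule.coe_smul, qv_smul, hu, form_smul_right,
      show l * l * 1 + l * form (b : V) (u : V) = l * (l + form (b : V) (u : V)) by ring]
    exact mul_ne_zero hl fun e => hl' (CharTwo.add_eq_zero.1 e))
  have := T.sub_mem h1 (hline l)
  rwa [add_sub_cancel_right] at this

/-! ### Regular orbits -/

theorem reg_stab {x : X} (hD : Dir ψ d x = ⊤) {p : F × d.W} (hp : el d p • x = x) : p.2 = 0 := by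
  refine (pairW_perfect (d := d) ψ.ne_zero).nondeg p.2 fun a => ?_
  rw [pairW_apply, form_comm]
  exact (mem_Dir' ψ).1 (show a ∈ Dir ψ d x by rw [hD]; trivial) p hp

theorem reg_bound (hq : 4 ≤ Nat.card F) (hm : 2 ≤ m) (hfree : Free (m := m) (F := F) X)
    (hsum : ∀ v v' : d.W, eps ψ v = 1 → eps ψ v' = -1 → nw ψ d X (1, v) + nw ψ d X (1, v') ≤ 2)
    {x : X} {v : d.W} (hx : (1, v) ∈ Wt ψ d x) (hD : Dir ψ d x = ⊤) :
    2 * (Nat.card F - 1) * Nat.card d.W ≤ Nat.card X := by
  have hall : ∀ {y : X}, Dir ψ d y = ⊤ → ∀ {w : d.W}, (1, w) ∈ Wt ψ d y → ∀ w', (1, w') ∈ Wt ψ d y := by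
    intro y hy w hw w'
    have h : ((0 : F), w' - w) ∈ Wt ψ d y := show w' - w ∈ Dir ψ d y by rw [hy]; trivial
    have := (Wt ψ d y).add_mem hw h
    rwa [Prod.mk_add_mk, add_zero, add_sub_cancel] at this
  -- the complement fixes the orbit
  have hfix : ∀ g ∈ d.Lv, qOrb d (g • x) = qOrb d x := by
    intro g hg
    by_contra hne
    have hDg : Dir ψ d (g • x) = ⊤ := (AddSubgroup.eq_top_iff' _).2 fun δ => by
      rw [← (d.lev hg).apply_symm_apply δ, dir_move, hD]; trivial
    obtain ⟨w, hw⟩ := exists_wt ψ (d := d) (g • x) fun z hz => wt_sees ψ hx z <| MulAction.injective g (by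
      show g • tv d.e z • x = g • x
      rw [← mul_smul, tv_comm_of_fix (Lv.fix_e hg), mul_smul, hz])
    obtain ⟨vP, vM, hP, hM⟩ := exists_eps ψ (d := d) hm
    have htwo : ∀ w' : d.W, 2 ≤ nw ψ d X (1, w') := fun w' => by
      unfold nw nwtB
      have := Nat.card_le_card_of_injective (α := Fin 2)
        (β := {o : AOrb (M := F × d.W) (QX d X) // ((1 : F), w') ∈ wtB (pairQ d) ψ.χ o})
        ![⟨qOrb d (g • x), by rw [wt_qOrb]; exact hall hDg hw w'⟩,
          ⟨qOrb d x, by rw [wt_qOrb]; exact hall hD hx w'⟩] fun i j e => by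
        fin_cases i <;> fin_cases j <;> first
          | rfl
          | exact absurd (congrArg Subtype.val e) hne
          | exact absurd (congrArg Subtype.val e).symm hne
      rwa [Nat.card_fin] at this
    have := hsum vP vM hP hM
    have := htwo vP
    have := htwo vM
    omega
  by_cases hcase : ∃ (g : Sp) (s : F), IsTor d g s ∧ s ≠ 1 ∧ qOrb d (g • x) = qOrb d x
  · exfalso
    obtain ⟨g, s, hg, hs1, horb⟩ := hcase
    obtain ⟨⟨z₀, a₀⟩, hp⟩ := qOrb_eq.1 horb
    have hs' : s + 1 ≠ 0 := fun e => hs1 (CharTwo.add_eq_zero.1 e)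
    set b : d.W := (s + 1)⁻¹ • a₀
    obtain ⟨y, hy⟩ : ∃ y, y = el d (0, b) • x := ⟨_, rfl⟩
    have hgy : g • y = tv d.e z₀ • y := by
      rw [hy, (tr_tor hg).smul, hp, ← mul_smul, ← el_add, ← el_fst, ← mul_smul, ← el_add]
      congr 2
      change ((s * s * 0, s • b) : F × d.W) + (z₀, a₀) = (z₀, 0) + (0, b)
      rw [Prod.mk_add_mk, Prod.mk_add_mk, mul_zero, zero_add, add_zero, zero_add,
        show a₀ = (s + 1) • b from (smul_inv_smul₀ hs' a₀).symm, add_smul, one_smul, ← add_assoc,
        show s • b + s • b = 0 from Subtype.ext (add_self_zero ((s • b : d.W) : V)), zero_add]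
    have hDy : Dir ψ d y = ⊤ := by
      rw [Dir_eq_of_qOrb ψ (qOrb_eq.2 ⟨(0, b), hy⟩), hD]
    obtain ⟨a, ha⟩ := W_ne d hm
    refine not_fix_four hq hfree ha (x := y) fun l hl _ => ?_
    have h1 : qOrb d (l • y) = qOrb d y := by
      have h2 : qOrb d y = qOrb d x := qOrb_eq.2 ⟨(0, b), hy⟩
      rw [((tr_Lv hl).qOrb_iff _ _).2 h2, hfix l hl, h2]
    obtain ⟨q, hq'⟩ := qOrb_eq.1 h1
    have h3 : g • l • y = l • g • y := by rw [← mul_smul, ← mul_smul, hg.comm hl]
    rw [hq', hgy, (tr_tor hg).smul, hgy, ← mul_smul l, tv_comm_of_fix (Lv.fix_e hl), mul_smul, hq', ← el_fst,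
      ← mul_smul, ← el_add, ← mul_smul, ← el_add] at h3
    have h4 : el d ((((z₀, 0) : F × d.W) + q) + (fTor d hg.1 q + (z₀, 0))) • y = y := by
      rw [el_add, mul_smul, h3, ← mul_smul, ← el_add,
        show (((z₀, 0) : F × d.W) + q) + ((z₀, 0) + q) = 0 from Prod.ext (CharTwo.add_self_eq_zero _)
          (Subtype.ext (add_self_zero _)), el_zero, one_smul]
    have h5 := reg_stab ψ hDy h4
    simp only [Prod.snd_add, zero_add, add_zero] at h5
    change q.2 + s • q.2 = 0 at h5
    rw [← one_smul F q.2, smul_smul, mul_one, ← add_smul, smul_eq_zero] at h5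
    have h6 : q.2 = 0 := h5.resolve_left fun e => hs' (by rw [add_comm]; exact e)
    refine ⟨q.1, ?_⟩
    rw [ActsAs, hq', ← el_fst, show q = (q.1, 0) from Prod.ext rfl h6]
  push Not at hcase
  haveI := Fintype.ofFinite F
  haveI := Fintype.ofFinite (AOrb (M := F × d.W) (QX d X))
  have htor : ∀ s : {s : F // s ≠ 0}, ∃ g, IsTor d g s.1 := fun s => exists_tor s.2
  choose τ hτ using htor
  have hinj : Function.Injective fun s : {s : F // s ≠ 0} => qOrb d (τ s • x) := by
    intro s t h
    obtain ⟨g, hg⟩ := exists_tor (d := d) (inv_ne_zero t.2)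
    have h1 := ((tr_tor hg).qOrb_iff _ _).2 h
    rw [← mul_smul, ← mul_smul] at h1
    have hone : g * τ t = 1 := by
      have hg1 := hg.mul (hτ t)
      rw [inv_mul_cancel₀ t.2] at hg1
      refine symp_ext fun w => ?_
      rw [one_smul]
      conv_lhs => rw [← sub_add_cancel w (form w d.f • d.e - form w d.e • d.f)]
      rw [smul_add, hg1.2.2.2 ⟨_, d.proj_mem w⟩, smul_sub (g * τ t), smul_comm (g * τ t) (form w d.f),
        smul_comm (g * τ t) (form w d.e), hg1.2.1, hg1.2.2.1, inv_one, one_smul, one_smul, sub_add_cancel]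
    rw [hone, one_smul] at h1
    by_contra hne
    refine hcase _ _ (hg.mul (hτ s)) ?_ h1
    rw [ne_eq, inv_mul_eq_one₀ t.2]
    exact fun e => hne (Subtype.ext e.symm)
  have hsize : ∀ s : {s : F // s ≠ 0},
      2 * Nat.card d.W ≤ Nat.card (wtB (pairQ d) ψ.χ (qOrb d (τ s • x))) := by
    intro s
    rw [wt_qOrb]
    have e : Nat.card (Bool × d.W) = 2 * Nat.card d.W := by
      rw [Nat.card_prod, Nat.card_eq_fintype_card (α := Bool), Fintype.card_bool]
    rw [← e]
    refine Nat.card_le_card_of_injective (fun p : Bool × d.W =>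
      (⟨if p.1 then ((s.1 * s.1)⁻¹ * (1 : F), s.1⁻¹ • p.2) else ((s.1 * s.1)⁻¹ * 0, s.1⁻¹ • p.2), ?_⟩ :
        Wt ψ d (τ s • x))) ?_
    · by_cases h : p.1 = true
      · rw [if_pos h]
        exact ((tr_tor (hτ s)).mem_wt ψ (pair_fTor ψ (hτ s).1 (1, p.2)) x).2 (hall hD hx p.2)
      · rw [if_neg h]
        exact ((tr_tor (hτ s)).mem_wt ψ (pair_fTor ψ (hτ s).1 (0, p.2)) x).2
          (show p.2 ∈ Dir ψ d x by rw [hD]; trivial)
    · rintro ⟨i, a⟩ ⟨j, b⟩ e
      have e' := congrArg Subtype.val e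
      have hs0 : (s.1 * s.1)⁻¹ ≠ 0 := inv_ne_zero (mul_ne_zero s.2 s.2)
      cases i <;> cases j <;> simp [hs0, s.2] at e' ⊢ <;> exact e'
  rw [show Nat.card X = Nat.card (QX d X) from rfl, card_eq_sum_wt (Y := QX d X) (pairQ_perfect ψ d)]
  refine le_trans ?_ (Finset.sum_le_sum_of_subset (Finset.subset_univ
    ((Finset.univ : Finset {s : F // s ≠ 0}).image fun s => qOrb d (τ s • x))))
  rw [Finset.sum_image hinj.injOn]
  refine le_trans (le_of_eq ?_) (Finset.sum_le_sum fun s _ => hsize s)
  rw [Finset.sum_const, smul_eq_mul, Finset.card_univ, Fintype.card_subtype_compl, Fintype.card_subtype_eq,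
    Nat.card_eq_fintype_card (α := F)]
  ring

end CfsgLib.MinIdxPSp
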