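import Cfsg.Agent.MinIdxPSp.EvenLine

/-!
Elements of order five in dimension four over the field with four elements.
-/

set_option autoImplicit false
set_option linter.style.haveILetI false
set_option linter.unusedSectionVars false

namespace CfsgLib.MinIdxPSp

open Matrix CfsgLib.Symp AddAction CfsgLib.MinIdxPSU
open scoped Classical

variable {m : ℕ} {F : Type*} [Field F] [Finite F] [CharP F 2]

local notation "V" => Fin m ⊕ Fin m → F
local notation "Sp" => Matrix.symplecticGroup (Fin m) F

/-! ### The field -/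

theorem exists_omega (h4 : Nat.card F = 4) : ∃ ω : F, ω * ω + ω + 1 = 0 := by
  haveI := Fintype.ofFinite F
  obtain ⟨w, hw0, hw1⟩ := exists_third (F := F) (by omega) 0 1
  refine ⟨w, ?_⟩
  have h3 := FiniteField.pow_card_sub_one_eq_one w hw0
  rw [← Nat.card_eq_fintype_card, h4] at h3
  have h : (w - 1) * (w * w + w + 1) = 0 := by linear_combination h3
  exact (mul_eq_zero.1 h).resolve_left (sub_ne_zero.2 hw1)

theorem four_cases (h4 : Nat.card F = 4) {ω : F} (hω : ω * ω + ω + 1 = 0) (x : F) :
    x = 0 ∨ x = 1 ∨ x = ω ∨ x = ω + 1 := by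
  by_contra hc
  push Not at hc
  obtain ⟨h0, h1, h2, h3⟩ := hc
  have ha : ω ≠ 0 := fun e => one_ne_zero (α := F) (by rw [e] at hω; linear_combination hω)
  have hb : ω ≠ 1 := fun e => one_ne_zero (α := F) (by
    rw [e] at hω; linear_combination hω - CharTwo.two_eq_zero (R := F))
  have hc' : ω + 1 ≠ 0 := fun e => hb (CharTwo.add_eq_zero.1 e)
  have hd : ω + 1 ≠ 1 := fun e => ha (by linear_combination e)
  have he : ω + 1 ≠ ω := fun e => one_ne_zero (α := F) (by linear_combination e)
  haveI := Fintype.ofFinite F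
  have := Finset.card_le_univ ({x, 0, 1, ω, ω + 1} : Finset F)
  rw [← Nat.card_eq_fintype_card, h4] at this
  simp [Finset.card_insert_of_notMem, h0, h1, h2, h3, ha.symm, hb.symm, hc'.symm, hd.symm, he.symm] at this

theorem nz_mul_eq (h4 : Nat.card F = 4) {z : F} (hz : z ≠ 0) : z * z * z = 1 := by
  haveI := Fintype.ofFinite F
  have h3 := FiniteField.pow_card_sub_one_eq_one z hz
  rw [← Nat.card_eq_fintype_card, h4] at h3
  linear_combination h3

/-! ### The element -/

/-- A product of two transvections with centres in a hyperbolic pair. -/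
def five (u w : Fin m ⊕ Fin m → F) (t s : F) : Matrix.symplecticGroup (Fin m) F := tv u t * tv w s

variable {u w : Fin m ⊕ Fin m → F} {t s k : F}

theorem five_apply (huw : form u w = 1) (hts : t * s = k) (x : V) :
    five u w t s • x = x + (t * form x u + k * form x w) • u + (s * form x w) • w := by
  rw [five, mul_smul, tv_smul, tv_smul, form_add_left, form_smul_left, form_comm w u, huw]
  subst hts
  module

theorem five_step (huw : form u w = 1) (hts : t * s = k) (x : V) {a b c d a' b' c' d' : F}
    (h1 : a' = a + k + k * c + k * a) (h2 : b' = b + 1 + d + k * b) (h3 : c' = c + 1 + a) (h4 : d' = d + k * b) :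
    five u w t s • (x + (a * form x w + b * (t * form x u)) • u + (c * (s * form x w) + d * form x u) • w) =
      x + (a' * form x w + b' * (t * form x u)) • u + (c' * (s * form x w) + d' * form x u) • w := by
  rw [five_apply huw hts]
  simp only [form_add_left, form_smul_left, form_self, huw, form_comm w u]
  subst h1 h2 h3 h4 hts
  module

theorem five_pow (huw : form u w = 1) (hts : t * s = k) (hk : k * k + k + 1 = 0) : five u w t s ^ 5 = 1 := by
  have two := CharTwo.two_eq_zero (R := F)
  refine symp_ext fun x => ?_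
  rw [one_smul, pow_succ, pow_succ, pow_succ, pow_succ, pow_one, mul_smul, mul_smul, mul_smul, mul_smul]
  conv_lhs => rw [show x = x + ((0 : F) * form x w + (0 : F) * (t * form x u)) • u +
    ((0 : F) * (s * form x w) + (0 : F) * form x u) • w by simp]
  rw [five_step huw hts x (a' := k) (b' := 1) (c' := 1) (d' := 0) (by grind) (by grind) (by grind) (by grind),
    five_step huw hts x (a' := 1) (b' := k) (c' := k) (d' := k)
      (by grind) (by grind) (by grind) (by grind),
    five_step huw hts x (a' := k) (b' := k) (c' := k) (d' := 1)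
      (by grind) (by grind) (by grind) (by grind),
    five_step huw hts x (a' := 0) (b' := 1) (c' := 1) (d' := k)
      (by grind) (by grind) (by grind) (by grind),
    five_step huw hts x (a' := 0) (b' := 0) (c' := 0) (d' := 0)
      (by grind) (by grind) (by grind) (by grind)]
  simp

theorem five_inv : (five u w t s)⁻¹ = tv w s * tv u t := by
  rw [five, _root_.mul_inv_rev, tv_inv, tv_inv, CharTwo.neg_eq, CharTwo.neg_eq]

theorem five_conj : tv u t * five u w t s * tv u t = (five u w t s)⁻¹ := by
  rw [five_inv, five, ← mul_assoc, tv_add, CharTwo.add_self_eq_zero, tv_zero, one_mul]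

theorem k_ne {k : F} (hk : k * k + k + 1 = 0) : k ≠ 0 :=
  fun e => one_ne_zero (α := F) (by rw [e] at hk; linear_combination hk)

theorem five_fixed (huw : form u w = 1) (hts : t * s = k) (hk : k * k + k + 1 = 0) {x : V}
    (h : five u w t s • x = x) : form x u = 0 ∧ form x w = 0 := by
  have hs : s ≠ 0 := fun e => k_ne hk (by rw [← hts, e, mul_zero])
  have ht : t ≠ 0 := fun e => k_ne hk (by rw [← hts, e, zero_mul])
  rw [five_apply huw hts, add_assoc, add_eq_left] at h
  have h1 := congrArg (fun y => form y u) h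
  have h2 := congrArg (fun y => form y w) h
  simp only [form_add_left, form_smul_left, form_self, huw, form_comm w u, form_zero_left, mul_zero, mul_one,
    zero_add, add_zero, mul_eq_zero, hs, false_or] at h1 h2
  refine ⟨?_, h1⟩
  rw [h1, mul_zero, add_zero] at h2
  exact (mul_eq_zero.1 h2).resolve_left ht

/-! ### Permutations of prime order -/

theorem fix_count {α : Type*} [Finite α] {G : Type*} [Group G] [MulAction G α] {p : ℕ} (hp : p.Prime) {g : G}
    (hg : g ^ p = 1) (S : Set α) (hS : ∀ y ∈ S, g • y ∈ S) :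
    {y ∈ S | g • y = y}.ncard ≡ S.ncard [MOD p] := by
  haveI := Fact.mk hp
  haveI := Fintype.ofFinite α
  let e : Function.End S := fun y => ⟨g • y.1, hS _ y.2⟩
  have he : ∀ (n : ℕ) (y : S), ((e ^ n) y : α) = g ^ n • (y : α) := fun n => by
    induction n with
    | zero => intro y; rw [pow_zero, pow_zero, one_smul]; rfl
    | succ n ih => intro y; rw [pow_succ', pow_succ', mul_smul, ← ih y]; rfl
  have h1 : e ^ p ^ 1 = 1 := funext fun y => Subtype.ext (by rw [pow_one, he, hg, one_smul]; rfl)
  have h2 := Equiv.Perm.card_fixedPoints_modEq h1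
  rw [← Nat.card_eq_fintype_card, ← Nat.card_eq_fintype_card, Nat.card_coe_set_eq S] at h2
  have h3 : Nat.card (Function.fixedPoints e) = {y ∈ S | g • y = y}.ncard := by
    rw [← Nat.card_coe_set_eq]
    exact Nat.card_congr
      { toFun := fun y => ⟨y.1.1, y.1.2, congrArg Subtype.val y.2⟩
        invFun := fun y => ⟨⟨y.1, y.2.1⟩, Subtype.ext y.2.2⟩
        left_inv := fun y => rfl
        right_inv := fun y => rfl }
  rw [h3] at h2
  exact h2.symm

/-! ### Small invariant sets of the group of the pair -/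

variable {X : Type*} [MulAction (Matrix.symplecticGroup (Fin m) F) X] [Finite X] (d : HPair m F)

theorem five_mem_stable (S : Set X) (he : ∀ z : F, ∀ y ∈ S, tv d.e z • y ∈ S)
    (hf : ∀ z : F, ∀ y ∈ S, tv d.f z • y ∈ S) (t s : F) : ∀ y ∈ S, five d.e d.f t s • y ∈ S := fun y hy => by
  rw [five, mul_smul]; exact he _ _ (hf _ _ hy)

theorem all_fix_false (h4 : Nat.card F = 4) (hfree : Free (m := m) (F := F) X) {y : X}
    (h : ∀ t s k : F, t * s = k → k * k + k + 1 = 0 → five d.e d.f t s • y = y) : False := by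
  obtain ⟨ω, hω⟩ := exists_omega (F := F) h4
  obtain ⟨z, hz⟩ := hfree d.e d.e_ne y
  apply hz
  have hω1 : ω + 1 ≠ 0 := fun e => one_ne_zero (α := F) (by
    rw [CharTwo.add_eq_zero.1 e] at hω; linear_combination hω - CharTwo.two_eq_zero (R := F))
  set a := z / (ω + 1)
  have hz' : z = a + a * ω := by
    rw [show a + a * ω = a * (ω + 1) by ring, div_mul_cancel₀ _ hω1]
  by_cases ha : a = 0
  · rw [hz', ha, zero_mul, add_zero, tv_zero, one_smul]
  set s := ω / a
  have h1 := h a s ω (mul_div_cancel₀ _ ha) hω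
  have h2 := h (a * ω) s (ω + 1) (by
    rw [mul_assoc, mul_comm ω, ← mul_assoc, mul_div_cancel₀ _ ha]
    linear_combination hω - (ω + 1) * CharTwo.two_eq_zero (R := F)) (by
    linear_combination hω + (ω + 1) * CharTwo.two_eq_zero (R := F))
  rw [five, mul_smul] at h1 h2
  have h3 : tv d.e a • y = tv d.f s • y := by
    conv_lhs => rw [← h1]
    rw [← mul_smul, tv_add, CharTwo.add_self_eq_zero, tv_zero, one_smul]
  rw [← h3, ← mul_smul, tv_add, add_comm, ← hz'] at h2
  exact h2

theorem no_small (h4 : Nat.card F = 4) (hfree : Free (m := m) (F := F) X) (S : Set X)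
    (he : ∀ z : F, ∀ y ∈ S, tv d.e z • y ∈ S) (hf : ∀ z : F, ∀ y ∈ S, tv d.f z • y ∈ S) (hS : S.ncard ≤ 4) :
    S = ∅ := by
  refine Set.eq_empty_iff_forall_notMem.2 fun y hy => all_fix_false d h4 hfree (y := y) fun t s k hts hk => ?_
  have hmem := five_mem_stable d S he hf t s
  have h := fix_count Nat.prime_five (five_pow d.hef hts hk) S hmem
  have hle : {y ∈ S | five d.e d.f t s • y = y}.ncard ≤ S.ncard := Set.ncard_le_ncard (fun y h => h.1)
  have heq : {y ∈ S | five d.e d.f t s • y = y}.ncard = S.ncard := by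
    rw [Nat.ModEq, Nat.mod_eq_of_lt (by omega), Nat.mod_eq_of_lt (by omega)] at h
    exact h
  have := Set.eq_of_subset_of_ncard_le (fun y h => h.1) heq.ge
  rw [← this] at hy
  exact hy.2

theorem no_eight (h4 : Nat.card F = 4) (hfree : Free (m := m) (F := F) X) (S : Set X)
    (he : ∀ z : F, ∀ y ∈ S, tv d.e z • y ∈ S) (hf : ∀ z : F, ∀ y ∈ S, tv d.f z • y ∈ S)
    (htor : ∀ g s, IsTor d g s → ∀ y ∈ S, g • y ∈ S) (hS : S.ncard = 8) : False := by
  obtain ⟨ω, hω⟩ := exists_omega (F := F) h4
  have hω0 := k_ne hω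
  set B : F → Set X := fun z => {y ∈ S | tv d.e z • y = y} with hB
  have hdisj : ∀ z z', z ≠ 0 → z' ≠ 0 → z ≠ z' → Disjoint (B z) (B z') := by
    intro z z' hz hz' hne
    refine Set.disjoint_left.2 fun y h h' => ?_
    obtain ⟨c, hc⟩ := hfree d.e d.e_ne y
    apply hc
    have h'' : tv d.e (z + z') • y = y := by rw [← tv_add, mul_smul, h'.2, h.2]
    have hzz : z + z' ≠ 0 := fun e => hne (CharTwo.add_eq_zero.1 e)
    have hzero : z ≠ z + z' ∧ z' ≠ z + z' :=
      ⟨fun e => hz' (by linear_combination -e), fun e => hz (by linear_combination -e)⟩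
    by_cases c0 : c = 0
    · rw [c0, tv_zero, one_smul]
    rcases eq_or_ne c z with rfl | c1
    · exact h.2
    rcases eq_or_ne c z' with rfl | c2
    · exact h'.2
    rcases eq_or_ne c (z + z') with rfl | c3
    · exact h''
    exfalso
    haveI := Fintype.ofFinite F
    have := Finset.card_le_univ ({c, 0, z, z', z + z'} : Finset F)
    rw [← Nat.card_eq_fintype_card, h4] at this
    simp [Finset.card_insert_of_notMem, c0, c1, c2, c3, hz.symm, hz'.symm, hne, hzz.symm, hzero.1, hzero.2] at this
  have hle : ∀ z z' : F, z ≠ 0 → z' ≠ 0 → (B z).ncard ≤ (B z').ncard := by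
    intro z z' hz hz'
    have hr : rt (z' / z) ≠ 0 := fun e => div_ne_zero hz' hz (by rw [← rt_mul_self (z' / z), e, mul_zero])
    obtain ⟨g, hg⟩ := exists_tor (d := d) hr
    refine Set.ncard_le_ncard_of_injOn (fun y => g • y) (fun y hy => ⟨htor g _ hg y hy.1, ?_⟩)
      (MulAction.injective g).injOn
    have e := tv_conj g d.e z
    rw [hg.2.1, tv_smul_vec, pow_two, rt_mul_self, div_mul_cancel₀ _ hz, mul_inv_eq_iff_eq_mul] at e
    show tv d.e z' • g • y = g • y
    rw [← mul_smul, ← e, mul_smul, hy.2]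
  have hω1 : ω ≠ 1 := fun e => one_ne_zero (α := F) (by
    rw [e] at hω; linear_combination hω - CharTwo.two_eq_zero (R := F))
  have hω2 : ω + 1 ≠ 0 := fun e => hω1 (CharTwo.add_eq_zero.1 e)
  have heven : (B 1).ncard ≡ S.ncard [MOD 2] :=
    fix_count Nat.prime_two (by rw [pow_two, tv_add, CharTwo.add_self_eq_zero, tv_zero]) S (he 1)
  set U : Set X := B 1 ∪ B ω ∪ B (ω + 1)
  have hU : U.ncard = 3 * (B 1).ncard := by
    rw [Set.ncard_union_eq, Set.ncard_union_eq, le_antisymm (hle ω 1 hω0 one_ne_zero) (hle 1 ω one_ne_zero hω0),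
      le_antisymm (hle (ω + 1) 1 hω2 one_ne_zero) (hle 1 (ω + 1) one_ne_zero hω2)]
    · ring
    · exact hdisj _ _ one_ne_zero hω0 hω1.symm
    · refine Set.disjoint_union_left.2 ⟨hdisj _ _ one_ne_zero hω2 fun e => hω0 (by linear_combination -e),
        hdisj _ _ hω0 hω2 fun e => one_ne_zero (α := F) (by linear_combination -e)⟩
  have hUS : U ⊆ S := Set.union_subset (Set.union_subset (fun y h => h.1) fun y h => h.1) fun y h => h.1
  have hfreeU : ∀ y ∈ S, y ∉ U → ∀ z, tv d.e z • y = y → z = 0 := fun y hy hyU z hz => by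
    rcases four_cases h4 hω z with e | e | e | e
    · exact e
    all_goals exact absurd (by simp [U, hB, ← e, hy, hz]) hyU
  have hB0 : B 1 = ∅ := by
    by_contra hne
    have h1 := Set.ncard_le_ncard hUS
    rw [hU, hS] at h1
    rw [hS] at heven
    have h2 : (B 1).ncard = 2 := by
      have := (Set.ncard_pos (s := B 1)).2 (Set.nonempty_iff_ne_empty.2 hne)
      unfold Nat.ModEq at heven
      omega
    have h3 : (S \ U).ncard = 2 := by rw [Set.ncard_sdiff hUS, hU, hS, h2]
    obtain ⟨y, hy⟩ : (S \ U).Nonempty := Set.nonempty_of_ncard_ne_zero (by omega)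
    have hinj : Function.Injective fun z : F => tv d.e z • y := fun z z' e => by
      change tv d.e z • y = tv d.e z' • y at e
      refine CharTwo.add_eq_zero.1 (hfreeU y hy.1 hy.2 _ ?_)
      rw [add_comm, ← tv_add, mul_smul, e, ← mul_smul, tv_add, CharTwo.add_self_eq_zero, tv_zero, one_smul]
    have hin : ∀ z : F, tv d.e z • y ∈ S \ U := fun z => ⟨he z y hy.1, fun h => hy.2 (by
      have key : ∀ c : F, tv d.e z • y ∈ B c → y ∈ B c := fun c hc => ⟨hy.1, MulAction.injective (tv d.e z) (by
        show tv d.e z • tv d.e c • y = tv d.e z • y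
        rw [← mul_smul, tv_add, add_comm, ← tv_add, mul_smul, hc.2])⟩
      rcases h with (h | h) | h
      · exact Or.inl (Or.inl (key _ h))
      · exact Or.inl (Or.inr (key _ h))
      · exact Or.inr (key _ h))⟩
    have h5 := Set.ncard_le_ncard_of_injOn (s := (Set.univ : Set F)) (fun z => tv d.e z • y) (fun z _ => hin z)
      hinj.injOn
    rw [Set.ncard_univ, h4, h3] at h5
    omega
  have hsemi : ∀ z : F, z ≠ 0 → B z = ∅ := fun z hz => by
    have h := hle z 1 hz one_ne_zero
    rw [hB0, Set.ncard_empty] at h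
    exact (Set.ncard_eq_zero).1 (Nat.le_zero.1 h)
  obtain ⟨y, hy⟩ : S.Nonempty := Set.nonempty_of_ncard_ne_zero (by omega)
  refine all_fix_false d h4 hfree (y := y) fun t s k hts hk => ?_
  set x := five d.e d.f t s
  set T : Set X := {y ∈ S | x • y = y}
  have hT := fix_count Nat.prime_five (five_pow d.hef hts hk) S (five_mem_stable d S he hf t s)
  have hTS : T.ncard ≤ 8 := hS ▸ Set.ncard_le_ncard (fun y h => h.1)
  have hT' : T.ncard = 3 ∨ T.ncard = 8 := by
    change T.ncard ≡ S.ncard [MOD 5] at hT
    rw [hS] at hT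
    unfold Nat.ModEq at hT
    omega
  rcases hT' with h3 | h8
  · exfalso
    have ht : t ≠ 0 := fun e => k_ne hk (by rw [← hts, e, zero_mul])
    have hinv : ∀ y ∈ T, tv d.e t • y ∈ T := fun y hy => ⟨he t y hy.1, by
      have h1 : x⁻¹ • y = y := inv_smul_eq_iff.2 hy.2.symm
      rw [← five_conj, mul_smul, mul_smul] at h1
      conv_rhs => rw [← h1]
      rw [← mul_smul (tv d.e t), tv_add, CharTwo.add_self_eq_zero, tv_zero, one_smul]⟩
    have h := fix_count Nat.prime_two (g := tv d.e t)
      (by rw [pow_two, tv_add, CharTwo.add_self_eq_zero, tv_zero]) T hinv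
    have h0 : {y ∈ T | tv d.e t • y = y} = ∅ := Set.eq_empty_iff_forall_notMem.2 fun y hy' => by
      have h1 : y ∈ B t := ⟨hy'.1.1, hy'.2⟩
      rw [hsemi t ht] at h1
      exact h1
    rw [h0, Set.ncard_empty, h3] at h
    exact absurd h (by decide)
  · have := Set.eq_of_subset_of_ncard_le (s := T) (fun y h => h.1) (by omega)
    rw [← this] at hy
    exact hy.2

end CfsgLib.MinIdxPSp
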