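import Cfsg.Agent.MinIdxPSp.FourFive

/-!
The points fixed by an element of order five, seen by the weights.
-/

set_option autoImplicit false
set_option linter.style.haveILetI false
set_option linter.unusedSectionVars false

namespace CfsgLib.MinIdxPSp

open Matrix CfsgLib.Symp AddAction CfsgLib.MinIdxPSU
open scoped Classical

variable {F : Type*} [Field F] [Finite F] [CharP F 2] (ψ : SqChar F)
variable {X : Type*} [MulAction (Matrix.symplecticGroup (Fin 2) F) X] [Finite X]

local notation "V" => Fin 2 ⊕ Fin 2 → F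
local notation "Sp" => Matrix.symplecticGroup (Fin 2) F

theorem card_W_four (h4 : Nat.card F = 4) (d : HPair 2 F) : Nat.card d.W = 16 := by
  have h := d.card_W
  rw [Nat.card_fun, Nat.card_sum, Nat.card_fin, h4] at h
  omega

theorem nw_small (h4 : Nat.card F = 4) (d : HPair 2 F) (v : d.W) : 24 * nw ψ d X (1, v) ≤ Nat.card X := by
  obtain ⟨s, hs, hsP, hsM⟩ := eps_card ψ (d := d)
  rw [card_W_four h4] at hs hsP hsM
  have hs4 : s = 4 := by nlinarith
  obtain ⟨vP, vM, hP, hM⟩ := exists_eps ψ (d := d) (le_refl 2)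
  have hb := class_bound ψ X hP hM
  rw [h4] at hb
  have h6P : 6 ≤ Nat.card {v : d.W // eps ψ v = 1} := by omega
  have h6M : 6 ≤ Nat.card {v : d.W // eps ψ v = -1} := by omega
  have hmain : 24 * (nw ψ d X (1, vP) + nw ψ d X (1, vM)) ≤ Nat.card X := by nlinarith
  rcases ψ.cases (q0 (v : V)) with e | e
  · have := nw_class ψ X (v := v) (v' := vP) (e.trans hP.symm); omega
  · have := nw_class ψ X (v := v) (v' := vM) (e.trans hM.symm); omega

theorem card_ge (h4 : Nat.card F = 4) (hfree : Free (m := 2) (F := F) X) (x : X) : 24 ≤ Nat.card X := by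
  obtain ⟨ψ⟩ := exists_sqChar (F := F)
  obtain ⟨d, -⟩ := exists_hpair (v := (Pi.single (Sum.inl 0) 1 : V)) (Pi.single_ne_zero_iff.mpr one_ne_zero)
  obtain ⟨w, hw, hc⟩ := exists_wt_ne ψ (d := d) hfree x
  obtain ⟨g, s, -, hx, -⟩ := exists_normalise ψ x hw hc
  have h := nw_small ψ (X := X) h4 d (s⁻¹ • w.2)
  have h1 : 1 ≤ nw ψ d X (1, s⁻¹ • w.2) := by
    unfold nw nwtB
    haveI : Nonempty {o : AOrb (M := F × d.W) (QX d X) // ((1 : F), s⁻¹ • w.2) ∈ wtB (pairQ d) ψ.χ o} :=
      ⟨⟨qOrb d (g • x), by rw [wt_qOrb]; exact hx⟩⟩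
    exact Nat.card_pos
  omega

theorem chi_one (h4 : Nat.card F = 4) : ψ.χ (1 : F) = 1 := by
  obtain ⟨ω, hω⟩ := exists_omega (F := F) h4
  have e : ω * ω = ω + 1 := by linear_combination hω - (ω + 1) * CharTwo.two_eq_zero (R := F)
  have h := ψ.sq ω
  rw [e, AddChar.map_add_eq_mul] at h
  linear_combination ψ.χ ω * h - (ψ.χ (1 : F) - 1) * ψ.mul_self ω

variable {d : HPair 2 F} {u w : d.W} {t s k : F}

theorem five_mem (u w : d.W) (t s : F) : five (u : V) (w : V) t s ∈ d.Lv :=
  mul_mem (d.tvGroup_le (tv_mem_tvGroup u.2 t)) (d.tvGroup_le (tv_mem_tvGroup w.2 s))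

theorem span_uw (h4 : Nat.card F = 4) (huw : form (u : V) (w : V) = 1) {a : d.W} (ha : form (a : V) (u : V) = 0)
    (ha' : form (a : V) (w : V) = 0) : a = 0 := by
  have hsurj : Function.Surjective fun a : d.W => (form (a : V) (u : V), form (a : V) (w : V)) := fun p =>
    ⟨p.1 • w + p.2 • u, by simp [form_add_left, form_smul_left, form_self, huw, form_comm (w : V) (u : V)]⟩
  have hbij := (Nat.bijective_iff_surjective_and_card _).2 ⟨hsurj, by rw [card_W_four h4, Nat.card_prod, h4]⟩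
  exact hbij.1 (by simp [ha, ha', form_zero_left])

theorem fix_W (h4 : Nat.card F = 4) (huw : form (u : V) (w : V) = 1) (hts : t * s = k) (hk : k * k + k + 1 = 0)
    {a : d.W} (h : five (u : V) (w : V) t s • (a : V) = a) : a = 0 :=
  span_uw h4 huw (five_fixed huw hts hk h).1 (five_fixed huw hts hk h).2

theorem dir_cases (h4 : Nat.card F = 4) (huw : form (u : V) (w : V) = 1) (hts : t * s = k)
    (hk : k * k + k + 1 = 0) {y : X} (hy : five (u : V) (w : V) t s • y = y) :
    Dir ψ d y = ⊥ ∨ Dir ψ d y = ⊤ := by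
  set h := five (u : V) (w : V) t s
  have hh := five_mem u w t s
  set S : Set V := (fun a : d.W => (a : V)) '' (Dir ψ d y : Set d.W)
  have hinv : ∀ a ∈ S, h • a ∈ S := by
    rintro _ ⟨a, ha, rfl⟩
    refine ⟨d.lev hh a, ?_, rfl⟩
    have := (dir_move ψ hh (x := y)).2 ha
    rwa [hy] at this
  have hc := fix_count Nat.prime_five (five_pow huw hts hk) S hinv
  have hfix : {a ∈ S | h • a = a} = {(0 : V)} := by
    ext a
    constructor
    · rintro ⟨⟨b, -, rfl⟩, hb⟩
      rw [fix_W h4 huw hts hk hb]; rfl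
    · rintro rfl
      exact ⟨⟨0, (Dir ψ d y).zero_mem, rfl⟩, smul_zero _⟩
  have hS : S.ncard = Nat.card (Dir ψ d y) := by
    rw [Set.ncard_image_of_injective _ Subtype.val_injective, ← Nat.card_coe_set_eq]; rfl
  rw [hfix, Set.ncard_singleton, hS] at hc
  have hdvd : Nat.card (Dir ψ d y) ∣ 2 ^ 4 := by
    rw [show 2 ^ 4 = Nat.card d.W by rw [card_W_four h4]; norm_num]
    exact AddSubgroup.card_addSubgroup_dvd_card _
  obtain ⟨i, hi, he⟩ := (Nat.dvd_prime_pow Nat.prime_two).1 hdvd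
  interval_cases i
  · exact Or.inl (AddSubgroup.eq_bot_of_card_eq _ he)
  · rw [he] at hc; exact absurd hc (by decide)
  · rw [he] at hc; exact absurd hc (by decide)
  · rw [he] at hc; exact absurd hc (by decide)
  · exact Or.inr (AddSubgroup.eq_top_of_card_eq _ (by rw [he, card_W_four h4]; norm_num))

theorem wt_fixed (huw : form (u : V) (w : V) = 1) (hs : s ≠ 0) (ht : t ≠ 0) {y : X}
    (hy : five (u : V) (w : V) t s • y = y) {v : d.W} (hv : (1, v) ∈ Wt ψ d y) (hD : Dir ψ d y = ⊥) :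
    rt s + s * rt (qv v (w : V)) = 0 ∧ rt t + t * rt (qv v (u : V)) = 0 := by
  have hw' := d.tvGroup_le (tv_mem_tvGroup w.2 s)
  have hu' := d.tvGroup_le (tv_mem_tvGroup u.2 t)
  have h1 := ((tr_Lv hw').mem_wt ψ (pair_tv ψ v w s hw') y).2 hv
  set v1 := v + (rt s + s * rt (qv v (w : V))) • w with hv1
  have h2 := ((tr_Lv hu').mem_wt ψ (pair_tv ψ v1 u t hu') (tv (w : V) s • y)).2 h1
  rw [← mul_smul, show tv (u : V) t * tv (w : V) s = five (u : V) (w : V) t s from rfl, hy] at h2
  have h3 := (Wt ψ d y).sub_mem h2 hv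
  rw [Prod.mk_sub_mk, sub_self, hv1, add_assoc, add_sub_cancel_left] at h3
  have h4 : _ ∈ Dir ψ d y := h3
  rw [hD, AddSubgroup.mem_bot] at h4
  have e := congrArg (fun a : d.W => form (a : V) (u : V)) h4
  simp only [Submodule.coe_add, Submodule.coe_smul, Submodule.coe_zero, form_add_left, form_smul_left, form_self,
    form_zero_left, form_comm (w : V) (u : V), huw, mul_one, mul_zero, add_zero] at e
  refine ⟨e, ?_⟩
  have e' := congrArg (fun a : d.W => form (a : V) (w : V)) h4
  simp only [Submodule.coe_add, Submodule.coe_smul, Submodule.coe_zero, form_add_left, form_smul_left, form_self,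
    form_zero_left, huw, mul_one, mul_zero, zero_add] at e'
  rwa [e, zero_smul, add_zero] at e'

theorem wt_unique (h4 : Nat.card F = 4) (huw : form (u : V) (w : V) = 1) (hs : s ≠ 0) (ht : t ≠ 0) {v v' : d.W}
    (hv : rt s + s * rt (qv v (w : V)) = 0 ∧ rt t + t * rt (qv v (u : V)) = 0)
    (hv' : rt s + s * rt (qv v' (w : V)) = 0 ∧ rt t + t * rt (qv v' (u : V)) = 0) : v = v' := by
  have key : ∀ {c : F} (a : d.W), c ≠ 0 → rt c + c * rt (qv v (a : V)) = 0 → rt c + c * rt (qv v' (a : V)) = 0 →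
      form ((v + v' : d.W) : V) (a : V) = 0 := by
    intro c a hc e e'
    have h1 : rt (qv v (a : V)) = rt (qv v' (a : V)) := mul_left_cancel₀ hc (by linear_combination e - e')
    have h2 : qv v (a : V) = qv v' (a : V) := by
      rw [← rt_mul_self (qv v (a : V)), h1, rt_mul_self]
    simp only [qv, add_left_inj] at h2
    rw [Submodule.coe_add, form_add_left, CharTwo.add_eq_zero]
    rcases mul_self_eq_mul_self_iff.1 h2 with e | e
    · exact e
    · rw [e, CharTwo.neg_eq]
  have h := span_uw h4 huw (key u ht hv.2 hv'.2) (key w hs hv.1 hv'.1)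
  refine Subtype.ext (funext fun i => CharTwo.add_eq_zero.1 ?_)
  exact congrFun (congrArg Subtype.val h) i

theorem fixed_center (h4 : Nat.card F = 4) (huw : form (u : V) (w : V) = 1) (hts : t * s = k)
    (hk : k * k + k + 1 = 0) {y y' : X} (hy : five (u : V) (w : V) t s • y = y)
    (hy' : five (u : V) (w : V) t s • y' = y') (h : qOrb d y' = qOrb d y) : ∃ z, y' = tv d.e z • y := by
  obtain ⟨p, hp⟩ := qOrb_eq.1 h
  have hh := five_mem u w t s
  set f := fLv d hh
  have hmove : ∀ r, el d r • y = y' → el d (f r) • y = y' := fun r hr => by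
    have := (tr_Lv hh).smul r y
    rw [hr, hy, hy'] at this
    exact this.symm
  have h1 := hmove p hp.symm
  have h2 := hmove _ h1
  have h3 := hmove _ h2
  have h4' := hmove _ h3
  have hK : ∀ {a b : F × d.W}, el d a • y = y' → el d b • y = y' → el d (a + b) • y = y := by
    intro a b ha hb
    rw [el_add, mul_smul, hb, ← ha, ← mul_smul, ← el_add,
      show a + a = 0 from Prod.ext (CharTwo.add_self_eq_zero _) (Subtype.ext (add_self_zero _)), el_zero, one_smul]
  set T := p + ((f p + f (f p)) + (f (f (f p)) + f (f (f (f p)))))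
  have hT : el d T • y = y' := by
    rw [el_add, mul_smul, el_add, mul_smul, hK h3 h4', hK h1 h2, ← hp]
  have hT2 : T.2 = 0 := by
    refine fix_W h4 huw hts hk ?_
    set g := five (u : V) (w : V) t s
    have h5 : g • g • g • g • g • (p.2 : V) = (p.2 : V) := by
      rw [← mul_smul, ← mul_smul, ← mul_smul, ← mul_smul,
        show g * g * g * g * g = g ^ 5 by simp [pow_succ], five_pow huw hts hk, one_smul]
    change g • ((p.2 : V) + ((g • (p.2 : V) + g • g • (p.2 : V)) +
      (g • g • g • (p.2 : V) + g • g • g • g • (p.2 : V)))) = (p.2 : V) + ((g • (p.2 : V) + g • g • (p.2 : V)) +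
      (g • g • g • (p.2 : V) + g • g • g • g • (p.2 : V)))
    simp only [smul_add, h5]
    abel
  refine ⟨T.1, ?_⟩
  rw [← hT, show T = (T.1, 0) from Prod.ext rfl hT2, el_fst]

/-- The fixed points of an element of order five. -/
theorem fixed_bound (h4 : Nat.card F = 4) (hfree : Free (m := 2) (F := F) X) (d : HPair 2 F) :
    ∃ S : Set X, (∀ z : F, ∀ y ∈ S, tv d.e z • y ∈ S) ∧ (∀ z : F, ∀ y ∈ S, tv d.f z • y ∈ S) ∧
      (∀ g s, IsTor d g s → ∀ y ∈ S, g • y ∈ S) ∧ S.ncard ≡ Nat.card X [MOD 5] ∧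
      ∃ b : ℕ, 24 * b ≤ Nat.card X ∧ S.ncard ≤ 6 * b ∧
      ((∀ z : F, z ≠ 0 → ∀ x : X, tv d.e z • x ≠ x) → S.ncard ≤ 4 * b) := by
  obtain ⟨ψ⟩ := exists_sqChar (F := F)
  obtain ⟨ω, hω⟩ := exists_omega (F := F) h4
  obtain ⟨a₀, ha₀⟩ := W_ne d (le_refl 2)
  obtain ⟨b₀, hb₀, hab⟩ := d.nondeg_W a₀ a₀.2 fun e => ha₀ (Subtype.ext e)
  set u : d.W := a₀
  set w : d.W := (form (u : V) b₀)⁻¹ • ⟨b₀, hb₀⟩
  have huw : form (u : V) (w : V) = 1 := by
    rw [Submodule.coe_smul, form_smul_right, inv_mul_cancel₀ hab]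
  have hts : (1 : F) * ω = ω := one_mul _
  set h := five (u : V) (w : V) 1 ω
  have hh : h ∈ d.Lv := five_mem u w 1 ω
  have hfix : ∀ {g : Sp} {y : X}, g * h = h * g → h • y = y → h • g • y = g • y := fun {g y} e hy => by
    rw [← mul_smul, ← e, mul_smul, hy]
  refine ⟨{y | h • y = y}, fun z y hy => hfix (tv_comm_of_fix (Lv.fix_e hh) z).symm hy,
    fun z y hy => hfix (tv_comm_of_fix (MulAction.mem_stabilizer_iff.1 hh.2) z).symm hy,
    fun g s hg y hy => hfix (hg.comm hh) hy, ?_, ?_⟩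
  · have h1 := fix_count (α := X) Nat.prime_five (five_pow huw hts hω) Set.univ fun y _ => Set.mem_univ _
    rw [Set.ncard_univ] at h1
    simpa using h1
  -- pairs of a fixed point and an element of the centre fixing it
  set Y := {y : X | h • y = y}
  let T : F → Type _ := fun c => {p : X × F // h • p.1 = p.1 ∧ tv d.e p.2 • p.1 = p.1 ∧
    ∀ z, tv d.e z • p.1 = p.1 → ψ.χ (c * z) = 1}
  have hT1 : ∀ c : F, c ≠ 0 → Nat.card (T c) ≤ Nat.card (T 1) := by
    intro c hc
    have hr : rt c ≠ 0 := fun e => hc (by rw [← rt_mul_self c, e, mul_zero])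
    obtain ⟨g, hg⟩ := exists_tor (d := d) hr
    have hgz : ∀ z, g * tv d.e z = tv d.e (c * z) * g := fun z => by
      have e := tv_conj g d.e z
      rw [hg.2.1, tv_smul_vec, pow_two, rt_mul_self, mul_inv_eq_iff_eq_mul] at e
      exact e
    refine Nat.card_le_card_of_injective (fun p => ⟨(g • p.1.1, c * p.1.2), hfix (hg.comm hh) p.2.1, ?_, ?_⟩)
      fun p q e => ?_
    · show tv d.e (c * p.1.2) • g • p.1.1 = g • p.1.1
      rw [← mul_smul, ← hgz, mul_smul, p.2.2.1]
    · intro z hz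
      have h1 := p.2.2.2 (z / c) (MulAction.injective g (by
        show g • tv d.e (z / c) • p.1.1 = g • p.1.1
        rw [← mul_smul, hgz, mul_div_cancel₀ _ hc, mul_smul]; exact hz))
      rw [mul_div_cancel₀ _ hc] at h1
      rwa [one_mul]
    · have e' := congrArg Subtype.val e
      simp only [Prod.mk.injEq] at e'
      exact Subtype.ext (Prod.ext (MulAction.injective g e'.1) (mul_left_cancel₀ hc e'.2))
  have hwt : ∀ p : T 1, ∃ v, (1, v) ∈ Wt ψ d p.1.1 := fun p =>
    exists_wt ψ p.1.1 fun z hz => by have := p.2.2.2 z hz; rwa [one_mul] at this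
  have hω0 := k_ne hω
  obtain ⟨v₀, hv₀⟩ : ∃ v₀ : d.W, ∀ p : T 1, (1, v₀) ∈ Wt ψ d p.1.1 := by
    by_cases hbot : ∃ p : T 1, Dir ψ d p.1.1 = ⊥
    · obtain ⟨p, hp⟩ := hbot
      obtain ⟨v, hv⟩ := hwt p
      refine ⟨v, fun q => ?_⟩
      obtain ⟨v', hv'⟩ := hwt q
      rcases dir_cases ψ h4 huw hts hω q.2.1 with e | e
      · rwa [wt_unique h4 huw hω0 one_ne_zero (wt_fixed ψ huw hω0 one_ne_zero p.2.1 hv hp)
          (wt_fixed ψ huw hω0 one_ne_zero q.2.1 hv' e)]
      · have h1 : ((0 : F), v - v') ∈ Wt ψ d q.1.1 := show v - v' ∈ Dir ψ d q.1.1 by rw [e]; trivial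
        have := (Wt ψ d q.1.1).add_mem hv' h1
        rwa [Prod.mk_add_mk, add_zero, add_sub_cancel] at this
    · refine ⟨0, fun q => ?_⟩
      obtain ⟨v', hv'⟩ := hwt q
      have e := (dir_cases ψ h4 huw hts hω q.2.1).resolve_left fun e => hbot ⟨q, e⟩
      have h1 : ((0 : F), -v') ∈ Wt ψ d q.1.1 := show -v' ∈ Dir ψ d q.1.1 by rw [e]; trivial
      have := (Wt ψ d q.1.1).add_mem hv' h1
      rwa [Prod.mk_add_mk, add_zero, add_neg_cancel] at this
  have hT : Nat.card (T 1) ≤ nw ψ d X (1, v₀) * 4 := by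
    let O := {o : AOrb (M := F × d.W) (QX d X) // ((1 : F), v₀) ∈ wtB (pairQ d) ψ.χ o}
    let π : T 1 → O := fun p => ⟨qOrb d p.1.1, by rw [wt_qOrb]; exact hv₀ p⟩
    rcases isEmpty_or_nonempty (T 1) with hE | hE
    · rw [Nat.card_of_isEmpty]; exact Nat.zero_le _
    let B : O → X := fun o => (Function.invFun π o).1.1
    let a : O → X → F := fun o y => Classical.epsilon fun z => y = tv d.e z • B o
    have ha : ∀ p : T 1, p.1.1 = tv d.e (a (π p) p.1.1) • B (π p) := fun p => by
      have e : π (Function.invFun π (π p)) = π p := Function.invFun_eq ⟨p, rfl⟩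
      exact Classical.epsilon_spec (p := fun z => p.1.1 = tv d.e z • B (π p))
        (fixed_center h4 huw hts hω (Function.invFun π (π p)).2.1 p.2.1 (congrArg Subtype.val e).symm)
    rw [show nw ψ d X (1, v₀) * 4 = Nat.card (O × F) by rw [Nat.card_prod, h4]; rfl]
    refine Nat.card_le_card_of_injective (fun p => (π p, a (π p) p.1.1 + p.1.2)) fun p q e => ?_
    simp only [Prod.mk.injEq] at e
    obtain ⟨e1, e2⟩ := e
    have key : ∀ r : T 1, r.1.1 = tv d.e (a (π r) r.1.1 + r.1.2) • B (π r) := fun r => by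
      rw [add_comm, ← tv_add, mul_smul, ← ha r, r.2.2.1]
    have hy : p.1.1 = q.1.1 := by rw [key p, key q, e2, e1]
    refine Subtype.ext (Prod.ext hy ?_)
    rw [e1, hy, add_right_inj] at e2
    exact e2
  have hsum : Nat.card (Σ c : {c : F // c ≠ 0}, T c.1) ≤ 3 * (nw ψ d X (1, v₀) * 4) := by
    haveI := Fintype.ofFinite {c : F // c ≠ 0}
    rw [Nat.card_sigma]
    refine (Finset.sum_le_sum fun c _ => (hT1 c.1 c.2).trans hT).trans (le_of_eq ?_)
    rw [Finset.sum_const, smul_eq_mul, Finset.card_univ, ← Nat.card_eq_fintype_card]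
    congr 1
    haveI := Fintype.ofFinite F
    rw [Nat.card_eq_fintype_card, Fintype.card_subtype_compl, Fintype.card_subtype_eq, ← Nat.card_eq_fintype_card, h4]
  have hb := nw_small ψ (X := X) h4 d v₀
  refine ⟨_, hb, ?_, fun hsemi => ?_⟩
  · have hpick : ∀ y : Y, ∃ f : Bool → Σ c : {c : F // c ≠ 0}, T c.1,
        Function.Injective f ∧ ∀ i, (f i).2.1.1 = y.1 := by
      intro y
      by_cases hz : ∃ z₀ : F, z₀ ≠ 0 ∧ tv d.e z₀ • y.1 = y.1
      · obtain ⟨z₀, hz₀, hfz⟩ := hz
        obtain ⟨z₁, hz₁⟩ := hfree d.e d.e_ne y.1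
        have hsee : ∀ z, tv d.e z • y.1 = y.1 → ψ.χ (z₀⁻¹ * z) = 1 := by
          intro z hzf
          by_cases hc0 : z = 0
          · rw [hc0, mul_zero, AddChar.map_zero_eq_one]
          by_cases hc1 : z = z₀
          · rw [hc1, inv_mul_cancel₀ hz₀, chi_one ψ h4]
          exfalso
          have h3 : tv d.e (z + z₀) • y.1 = y.1 := by rw [← tv_add, mul_smul, hfz, hzf]
          have hne : z + z₀ ≠ 0 := fun e => hc1 (CharTwo.add_eq_zero.1 e)
          haveI := Fintype.ofFinite F
          have := Finset.card_le_univ ({z₁, 0, z, z₀, z + z₀} : Finset F)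
          rw [← Nat.card_eq_fintype_card, h4] at this
          have a0 : z₁ ≠ 0 := fun e => hz₁ (by rw [e, tv_zero, one_smul])
          have a1 : z₁ ≠ z := fun e => hz₁ (by rw [e, hzf])
          have a2 : z₁ ≠ z₀ := fun e => hz₁ (by rw [e, hfz])
          have a3 : z₁ ≠ z + z₀ := fun e => hz₁ (by rw [e, h3])
          have a4 : z ≠ z + z₀ := fun e => hz₀ (by linear_combination -e)
          have a5 : z₀ ≠ z + z₀ := fun e => hc0 (by linear_combination -e)
          simp [Finset.card_insert_of_notMem, a0, a1, a2, a3, a4, a5, Ne.symm hc0, hz₀.symm, hc1, hne.symm] at this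
        refine ⟨fun i => ⟨⟨z₀⁻¹, inv_ne_zero hz₀⟩, ⟨(y.1, if i then z₀ else 0), y.2, ?_, hsee⟩⟩, ?_, fun i => rfl⟩
        · cases i
          · simp [tv_zero]
          · simpa using hfz
        · intro i j e
          have e' := congrArg (fun q : (Σ c : {c : F // c ≠ 0}, T c.1) => q.2.1.2) e
          cases i <;> cases j <;> simp [hz₀, hz₀.symm] at e' ⊢
      · push Not at hz
        refine ⟨fun i => ⟨⟨if i then ω else 1, by cases i <;> simp [hω0]⟩, ⟨(y.1, 0), y.2, by simp [tv_zero],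
          fun z hzf => ?_⟩⟩, ?_, fun i => rfl⟩
        · by_cases hc0 : z = 0
          · rw [hc0, mul_zero, AddChar.map_zero_eq_one]
          · exact absurd hzf (hz z hc0)
        · intro i j e
          have e' := congrArg (fun q : (Σ c : {c : F // c ≠ 0}, T c.1) => (q.1 : F)) e
          have h1 : ω ≠ 1 := fun e => one_ne_zero (α := F) (by
            rw [e] at hω; linear_combination hω - CharTwo.two_eq_zero (R := F))
          cases i <;> cases j <;> simp [h1, h1.symm] at e' ⊢
    choose f hf hfy using hpick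
    have h1 : Nat.card (Y × Bool) ≤ Nat.card (Σ c : {c : F // c ≠ 0}, T c.1) :=
      Nat.card_le_card_of_injective (fun q => f q.1 q.2) fun q q' e => by
        have e1 : q.1 = q'.1 := Subtype.ext (by
          rw [← hfy q.1 q.2, ← hfy q'.1 q'.2]; exact congrArg (fun r : (Σ c : {c : F // c ≠ 0}, T c.1) => r.2.1.1) e)
        obtain ⟨y, i⟩ := q
        obtain ⟨y', i'⟩ := q'
        subst e1
        exact Prod.ext rfl (hf y e)
    rw [Nat.card_prod, Nat.card_coe_set_eq, Nat.card_eq_fintype_card (α := Bool), Fintype.card_bool] at h1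
    omega
  · have h1 : Nat.card (Y × {c : F // c ≠ 0}) ≤ Nat.card (Σ c : {c : F // c ≠ 0}, T c.1) :=
      Nat.card_le_card_of_injective (fun q => ⟨q.2, ⟨(q.1.1, 0), q.1.2, by simp [tv_zero], fun z hzf => by
        by_cases hc0 : z = 0
        · rw [hc0, mul_zero, AddChar.map_zero_eq_one]
        · exact absurd hzf (hsemi z hc0 q.1.1)⟩⟩) fun q q' e => by
        have e1 := congrArg (fun r : (Σ c : {c : F // c ≠ 0}, T c.1) => r.2.1.1) e
        have e2 := congrArg (fun r : (Σ c : {c : F // c ≠ 0}, T c.1) => r.1) e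
        exact Prod.ext (Subtype.ext e1) e2
    haveI := Fintype.ofFinite F
    rw [Nat.card_prod, Nat.card_coe_set_eq, Nat.card_eq_fintype_card (α := {c : F // c ≠ 0}),
      Fintype.card_subtype_compl, Fintype.card_subtype_eq, ← Nat.card_eq_fintype_card, h4] at h1
    omega

end CfsgLib.MinIdxPSp
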