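import Cfsg.Agent.MinIdxPSp.Orbits

/-!
Transitive sets without fixed points of transvection groups, in odd characteristic.
-/

set_option autoImplicit false
set_option linter.style.haveILetI false
set_option linter.unusedSectionVars false

namespace CfsgLib.MinIdxPSp

open Matrix CfsgLib.Symp AddAction CfsgLib.MinIdxPSU
open scoped Classical

variable {m : ℕ} {F : Type*} [Field F] [Finite F]

local notation "V" => Fin m ⊕ Fin m → F
local notation "Sp" => Matrix.symplecticGroup (Fin m) F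

/-- A binary quadratic form with non-zero discriminant takes the value one. -/
theorem exists_rep (h2 : (2 : F) ≠ 0) {A B C : F} (h : B * B - 4 * A * C ≠ 0) :
    ∃ α β : F, A * (α * α) + B * (α * β) + C * (β * β) = 1 := by
  haveI := Fintype.ofFinite F
  by_cases hA : A = 0
  · subst hA
    have hB : B ≠ 0 := fun e => h (by rw [e]; ring)
    refine ⟨(1 - C) / B, 1, ?_⟩
    field_simp
    ring
  have h4 : (4 : F) ≠ 0 := by rw [show (4 : F) = 2 * 2 by norm_num]; exact mul_ne_zero h2 h2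
  obtain ⟨p, hp⟩ := CharP.exists F
  have hodd : Fintype.card F % 2 = 1 := by
    refine Nat.mod_two_ne_zero.1 fun hev => h2 ?_
    have hF := Nat.cast_card_eq_zero F
    haveI := hp
    haveI : Fact p.Prime := ⟨CharP.char_is_prime F p⟩
    obtain ⟨n, -, hn⟩ := FiniteField.card F p
    have h2p : 2 ∣ p := Nat.prime_two.dvd_of_dvd_pow (hn ▸ Nat.dvd_of_mod_eq_zero hev)
    rw [← (Nat.prime_dvd_prime_iff_eq Nat.prime_two (Fact.out : p.Prime)).1 h2p] at hp
    haveI := hp
    exact_mod_cast (CharP.cast_eq_zero F 2)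
  -- sums of two scaled squares
  have hdeg : ∀ c : F, c ≠ 0 → (Polynomial.C c * Polynomial.X ^ 2).degree = 2 := fun c hc => by
    rw [Polynomial.degree_C_mul_X_pow _ hc]; rfl
  set D := B * B - 4 * A * C with hD
  obtain ⟨u, β, hu⟩ := FiniteField.exists_root_sum_quadratic
    (f := Polynomial.C (1 : F) * Polynomial.X ^ 2 - Polynomial.C (4 * A))
    (g := Polynomial.C (-D) * Polynomial.X ^ 2)
    (by
      rw [sub_eq_add_neg, Polynomial.degree_add_eq_left_of_degree_lt]
      · exact hdeg 1 one_ne_zero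
      · rw [Polynomial.degree_neg, hdeg 1 one_ne_zero]
        exact lt_of_le_of_lt Polynomial.degree_C_le (by norm_num))
    (hdeg _ (neg_ne_zero.2 h)) hodd
  simp only [Polynomial.eval_sub, Polynomial.eval_mul, Polynomial.eval_C, Polynomial.eval_pow, Polynomial.eval_X]
    at hu
  have h2A : (2 : F) * A ≠ 0 := mul_ne_zero h2 hA
  refine ⟨(u - B * β) / (2 * A), β, ?_⟩
  field_simp
  rw [hD] at hu
  linear_combination hu

theorem exists_nat_half (h2 : (2 : F) ≠ 0) : ∃ n : ℕ, (n : F) * 2 = 1 := by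
  haveI := Fintype.ofFinite F
  obtain ⟨p, hp⟩ := CharP.exists F
  haveI := hp
  haveI : Fact p.Prime := ⟨CharP.char_is_prime F p⟩
  have hp2 : p ≠ 2 := fun e => h2 (by subst e; exact_mod_cast (CharP.cast_eq_zero F 2))
  obtain ⟨k, hk⟩ := (Fact.out : p.Prime).odd_of_ne_two hp2
  refine ⟨k + 1, ?_⟩
  have h0 : ((p : ℕ) : F) = 0 := CharP.cast_eq_zero F p
  rw [hk] at h0
  push_cast at h0 ⊢
  linear_combination h0

theorem mem_of_annB {M M' : Type*} [AddCommGroup M] [Finite M] [AddCommGroup M'] [Finite M'] {B : M →+ M' →+ F}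
    {ψ : AddChar F ℂ} (hP : Perfect B ψ) {K : AddSubgroup M} {a : M}
    (h : ∀ v ∈ annB B ψ K, ψ (B a v) = 1) : a ∈ K := by
  have hle : K ≤ K ⊔ AddSubgroup.zmultiples a := le_sup_left
  have heq : annB B ψ (K ⊔ AddSubgroup.zmultiples a) = annB B ψ K := by
    refine le_antisymm (fun v hv k hk => hv k (hle hk)) fun v hv k hk => ?_
    obtain ⟨y, hy, z, hz, rfl⟩ := AddSubgroup.mem_sup.1 hk
    obtain ⟨n, rfl⟩ := AddSubgroup.mem_zmultiples_iff.1 hz
    rw [map_add, AddMonoidHom.add_apply, AddChar.map_add_eq_mul, hv y hy, one_mul, map_zsmul,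
      AddMonoidHom.zsmul_apply, AddChar.map_zsmul_eq_zpow, h v hv, _root_.one_zpow]
  have hidx := card_annB hP (K ⊔ AddSubgroup.zmultiples a)
  rw [heq, card_annB hP K] at hidx
  have hc : Nat.card K = Nat.card (K ⊔ AddSubgroup.zmultiples a : AddSubgroup M) := by
    have h1 := K.card_mul_index
    rw [← (K ⊔ AddSubgroup.zmultiples a).card_mul_index, ← hidx] at h1
    exact Nat.eq_of_mul_eq_mul_right (Nat.pos_of_ne_zero AddSubgroup.index_ne_zero_of_finite) h1
  rw [AddSubgroup.eq_of_le_of_card_ge hle hc.ge]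
  exact AddSubgroup.mem_sup_right (AddSubgroup.mem_zmultiples a)

variable (d : HPair m F) (X : Type*) [MulAction (Matrix.symplecticGroup (Fin m) F) X] [Finite X]

/-- The group of transvections with centres in a totally isotropic plane. -/
def planeEl (d : HPair m F) (a : d.W) (S : F × F × F) : Matrix.symplecticGroup (Fin m) F :=
  tv d.e S.1 * sh d.e ((S.2.1 • a : d.W) : Fin m ⊕ Fin m → F) * tv (a : Fin m ⊕ Fin m → F) S.2.2

theorem planeEl_smul (a : d.W) (S : F × F × F) (x : V) :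
    planeEl d a S • x = x + (S.1 * form x d.e + S.2.1 * form x (a : V)) • d.e +
      (S.2.2 * form x (a : V) + S.2.1 * form x d.e) • (a : V) := by
  have h := d.We a
  have h' := form_zero_swap h
  rw [planeEl, mul_smul, mul_smul, tv_smul, tv_smul, sh_smul (d.We _)]
  simp only [Submodule.coe_smul, form_add_left, form_smul_left, form_smul_right, form_self, h, h', mul_zero, add_zero]
  module

theorem planeEl_add (a : d.W) (S T : F × F × F) : planeEl d a (S + T) = planeEl d a S * planeEl d a T := by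
  have h := d.We a
  have h' := form_zero_swap h
  refine symp_ext fun x => ?_
  rw [mul_smul, planeEl_smul, planeEl_smul, planeEl_smul]
  simp only [Prod.fst_add, Prod.snd_add, form_add_left, form_smul_left, form_self, h, h', mul_zero, add_zero]
  module

theorem planeEl_zero (a : d.W) : planeEl d a 0 = 1 := symp_ext fun x => by rw [planeEl_smul, one_smul]; simp

theorem planeEl_tv (a : d.W) (α β z : F) :
    planeEl d a (z * (α * α), z * (α * β), z * (β * β)) = tv (α • d.e + β • (a : V)) z := by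
  refine symp_ext fun x => ?_
  rw [planeEl_smul, tv_smul, form_add_right, form_smul_right, form_smul_right]
  module

/-- The stabiliser of a point in the plane group. -/
def planeStab (d : HPair m F) (a : d.W) {X : Type*} [MulAction (Matrix.symplecticGroup (Fin m) F) X] (x : X) :
    AddSubgroup (F × F × F) where
  carrier := {S | planeEl d a S • x = x}
  zero_mem' := by change planeEl d a 0 • x = x; rw [planeEl_zero, one_smul]
  add_mem' := fun {S T} (hS : _ = x) (hT : _ = x) => by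
    change planeEl d a (S + T) • x = x
    rw [planeEl_add, mul_smul, hT, hS]
  neg_mem' := fun {S} (hS : _ = x) => by
    change planeEl d a (-S) • x = x
    conv_lhs => rw [← hS]
    rw [← mul_smul, ← planeEl_add, neg_add_cancel, planeEl_zero, one_smul]

/-- The pairing on triples. -/
def pairS (F : Type*) [Field F] : F × F × F →+ F × F × F →+ F :=
  AddMonoidHom.mk' (fun a => AddMonoidHom.mk' (fun S => a.1 * S.1 + a.2.1 * S.2.1 + a.2.2 * S.2.2)
    fun S T => by simp only [Prod.fst_add, Prod.snd_add]; ring)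
    fun a b => AddMonoidHom.ext fun S => by
      simp only [AddMonoidHom.mk'_apply, AddMonoidHom.add_apply, Prod.fst_add, Prod.snd_add]; ring

theorem pairS_apply (a S : F × F × F) : pairS F a S = a.1 * S.1 + a.2.1 * S.2.1 + a.2.2 * S.2.2 := rfl

theorem pairS_perfect {φ : AddChar F ℂ} (hφ : φ ≠ 0) : Perfect (pairS F) φ := by
  refine ⟨fun v h => ?_, rfl⟩
  obtain ⟨x, hx⟩ := AddChar.ne_one_iff.1 hφ
  have h1 := h
  refine Prod.ext (by_contra fun hv => hx ?_) (Prod.ext (by_contra fun hv => hx ?_) (by_contra fun hv => hx ?_))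
  · have := h (x / v.1, 0, 0)
    simp only [pairS_apply, zero_mul, add_zero] at this
    rwa [div_mul_cancel₀ _ hv] at this
  · have := h (0, x / v.2.1, 0)
    simp only [pairS_apply, zero_mul, add_zero, zero_add] at this
    rwa [div_mul_cancel₀ _ hv] at this
  · have := h (0, 0, x / v.2.2)
    simp only [pairS_apply, zero_mul, zero_add] at this
    rwa [div_mul_cancel₀ _ hv] at this

variable {X}

/-- No transvection group fixes a point. -/
def Free (X : Type*) [MulAction (Matrix.symplecticGroup (Fin m) F) X] : Prop :=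
  ∀ v : Fin m ⊕ Fin m → F, v ≠ 0 → ∀ x : X, ∃ z, tv v z • x ≠ x

theorem W_ne (hm : 2 ≤ m) : ∃ a : d.W, a ≠ 0 := by
  by_contra hc
  push Not at hc
  have h := d.card_W
  rw [Nat.card_eq_one_iff_exists.2 ⟨(0 : d.W), hc⟩, mul_one, Nat.card_fun, Nat.card_sum, Nat.card_fin] at h
  exact absurd (Nat.pow_right_injective Finite.one_lt_card h) (by omega)

/-- Every character is seen by some orbit. -/
theorem exists_nset (h2 : (2 : F) ≠ 0) (hm : 2 ≤ m) (hfree : Free (m := m) (F := F) X) {ψ : AddChar F ℂ}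
    (hψ : ψ ≠ 0) (x₀ : X) : Nonempty (NSet d X ψ) := by
  suffices hex : ∃ v : V, v ≠ 0 ∧ ∃ x : X, ∀ z, tv v z • x = x → ψ z = 1 by
    obtain ⟨v, hv, x, hx⟩ := hex
    obtain ⟨g, hg⟩ := exists_smul_eq_of_ne_zero hv d.e_ne
    refine ⟨⟨Quotient.mk'' (toEX d (g • x)), (sees_iff _).2 fun z hz => hx z ?_⟩⟩
    have e := tv_conj g v z
    rw [hg, mul_inv_eq_iff_eq_mul] at e
    rw [← mul_smul, ← e, mul_smul] at hz
    exact MulAction.injective g hz
  by_contra hno
  push Not at hno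
  obtain ⟨a, ha⟩ := W_ne d hm
  set U := annB (pairS F) ψ (planeStab d a x₀)
  have hvec : ∀ α β : F, (α ≠ 0 ∨ β ≠ 0) → α • d.e + β • (a : V) ≠ 0 := fun α β hne e => by
    have h1 := congrArg (fun v => form v d.f) e
    simp only [form_add_left, form_smul_left, d.hef, form_zero_swap (d.Wf a), form_zero_left, mul_one, mul_zero,
      add_zero] at h1
    rw [h1, zero_smul, zero_add, smul_eq_zero] at e
    rcases e with e | e
    · exact hne.elim (fun h => h h1) fun h => h e
    · exact ha (Subtype.ext e)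
  have hval : ∀ S ∈ U, ∀ α β : F, S.1 * (α * α) + S.2.1 * (α * β) + S.2.2 * (β * β) ≠ 1 := by
    intro S hS α β h1
    have hne : α ≠ 0 ∨ β ≠ 0 := by
      by_contra hc
      push Not at hc
      rw [hc.1, hc.2] at h1
      simp at h1
    obtain ⟨z, hz, hψz⟩ := hno _ (hvec α β hne) x₀
    rw [← planeEl_tv] at hz
    have := hS _ hz
    rw [pairS_apply] at this
    apply hψz
    rwa [show z * (α * α) * S.1 + z * (α * β) * S.2.1 + z * (β * β) * S.2.2 = z by linear_combination z * h1] at this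
  have hdisc : ∀ S ∈ U, S.2.1 * S.2.1 - 4 * S.1 * S.2.2 = 0 := fun S hS => by
    by_contra hne
    obtain ⟨α, β, h1⟩ := exists_rep h2 hne
    exact hval S hS α β h1
  -- a common zero
  have h4 : (4 : F) ≠ 0 := by rw [show (4 : F) = 2 * 2 by norm_num]; exact mul_ne_zero h2 h2
  have hpol : ∀ S ∈ U, ∀ T ∈ U, S.2.1 * T.2.1 - 2 * (S.1 * T.2.2 + T.1 * S.2.2) = 0 := fun S hS T hT => by
    have h := hdisc _ (U.add_mem hS hT)
    simp only [Prod.fst_add, Prod.snd_add] at h
    refine (mul_right_inj' h2).1 ?_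
    rw [mul_zero]
    linear_combination h - hdisc S hS - hdisc T hT
  obtain ⟨α, β, hne, hzero⟩ : ∃ α β : F, (α ≠ 0 ∨ β ≠ 0) ∧
      ∀ T ∈ U, T.1 * (α * α) + T.2.1 * (α * β) + T.2.2 * (β * β) = 0 := by
    by_cases hU : ∀ T ∈ U, T.1 = 0
    · refine ⟨1, 0, Or.inl one_ne_zero, fun T hT => ?_⟩
      rw [hU T hT]; ring
    push Not at hU
    obtain ⟨S, hS, hS1⟩ := hU
    refine ⟨-S.2.1, 2 * S.1, Or.inr (mul_ne_zero h2 hS1), fun T hT => ?_⟩
    linear_combination T.1 * hdisc S hS - 2 * S.1 * hpol S hS T hT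
  obtain ⟨z, hz⟩ := hfree _ (hvec α β hne) x₀
  apply hz
  rw [← planeEl_tv]
  refine mem_of_annB (pairS_perfect hψ) (K := planeStab d a x₀) fun T hT => ?_
  rw [pairS_apply, show z * (α * α) * T.1 + z * (α * β) * T.2.1 + z * (β * β) * T.2.2 = 0 by
    linear_combination z * hzero T hT, AddChar.map_zero_eq_one]

/-- The element that is `-1` on the orthogonal space of the pair. -/
theorem exists_negW : ∃ g ∈ d.Lv, ∀ a : d.W, g • (a : V) = -(a : V) := by
  obtain ⟨t, ht, te, tf⟩ := exists_tvGroup_smul_pair (W := Submodule.span F {d.e, d.f}) (u := d.e) (v := d.f)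
    (u' := -d.e) (v' := -d.f) (Submodule.subset_span (Set.mem_insert _ _))
    (Submodule.subset_span (Set.mem_insert_of_mem _ rfl))
    (Submodule.neg_mem _ (Submodule.subset_span (Set.mem_insert _ _)))
    (Submodule.neg_mem _ (Submodule.subset_span (Set.mem_insert_of_mem _ rfl))) d.hef (by
      rw [← neg_one_smul F d.e, ← neg_one_smul F d.f, form_smul_left, form_smul_right, d.hef]; ring)
  let n : Sp := ⟨-1, by
    rw [mem_iff_form]
    intro u v
    rw [Matrix.neg_mulVec, Matrix.neg_mulVec, Matrix.one_mulVec, Matrix.one_mulVec, ← neg_one_smul F u,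
      ← neg_one_smul F v, form_smul_left, form_smul_right]
    ring⟩
  have hn : ∀ v : V, n • v = -v := fun v => (Matrix.neg_mulVec _ _).trans (congrArg Neg.neg (Matrix.one_mulVec v))
  refine ⟨n * t, ⟨?_, ?_⟩, fun a => ?_⟩
  · change (n * t) • d.e = d.e
    rw [mul_smul, te, hn, neg_neg]
  · change (n * t) • d.f = d.f
    rw [mul_smul, tf, hn, neg_neg]
  · rw [mul_smul, tvGroup_fix ht fun s hs => form_zero_swap (a.2 s hs), hn]

theorem negW_comm {g : Sp} (hg : g ∈ d.Lv) (hneg : ∀ a : d.W, g • (a : V) = -(a : V)) {l : Sp} (hl : l ∈ d.Lv) :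
    g * l = l * g := by
  refine symp_ext fun v => ?_
  have hv : v = (v - (form v d.f • d.e - form v d.e • d.f)) + (form v d.f • d.e - form v d.e • d.f) :=
    (sub_add_cancel _ _).symm
  have he := MulAction.mem_stabilizer_iff.1 hg.1
  have hf := MulAction.mem_stabilizer_iff.1 hg.2
  have he' := MulAction.mem_stabilizer_iff.1 hl.1
  have hf' := MulAction.mem_stabilizer_iff.1 hl.2
  rw [hv, mul_smul, mul_smul]
  generalize hw : v - (form v d.f • d.e - form v d.e • d.f) = w
  have hwW : w ∈ d.W := hw ▸ d.proj_mem v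
  rw [smul_add, smul_add, smul_add, smul_add, hneg ⟨l • w, d.move_mem hl hwW⟩, hneg ⟨w, hwW⟩, smul_neg]
  simp only [smul_sub, smul_comm g, smul_comm l, he, hf, he', hf']

variable {d}

/-- Acting on a point as an element of the centre of the radical. -/
def ActsAs (d : HPair m F) {X : Type*} [MulAction (Matrix.symplecticGroup (Fin m) F) X] (x : X)
    (g : Matrix.symplecticGroup (Fin m) F) (z : F) : Prop := g • x = tv d.e z • x

theorem ActsAs.mul {x : X} {g g' : Sp} {z z' : F} (hge : g • d.e = d.e) (h : ActsAs d x g z)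
    (h' : ActsAs d x g' z') : ActsAs d x (g * g') (z + z') := by
  unfold ActsAs at *
  rw [mul_smul, h', ← mul_smul, tv_comm_of_fix hge, mul_smul, h, ← mul_smul, tv_add, add_comm]

theorem ActsAs.inv {x : X} {g : Sp} {z : F} (hge : g • d.e = d.e) (h : ActsAs d x g z) :
    ActsAs d x g⁻¹ (-z) := by
  unfold ActsAs at *
  rw [inv_smul_eq_iff, ← mul_smul, tv_comm_of_fix hge, mul_smul, h, ← mul_smul, tv_add, neg_add_cancel, tv_zero,
    one_smul]

theorem fix_tvW (a : d.W) (c : F) : tv (a : V) c • d.e = d.e := by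
  rw [tv_smul, d.We a, mul_zero, zero_smul, add_zero]

/-- A point fixed up to the centre by enough of the complement is fixed by a transvection group. -/
theorem not_fix_four (hq : 4 ≤ Nat.card F) (hfree : Free (m := m) (F := F) X) {u : d.W} (hu : u ≠ 0) {x : X}
    (h : ∀ l ∈ d.Lv, (∃ t : F, t ≠ 0 ∧ l • (u : V) = t • (u : V)) → ∃ z, ActsAs d x l z) : False := by
  obtain ⟨t, ht, ht2⟩ := exists_sq_ne_one hq
  have hu' : (u : V) ≠ 0 := fun e => hu (Subtype.ext e)
  obtain ⟨w, hw, huw⟩ := d.nondeg_W u u.2 hu'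
  obtain ⟨g, hg, hgu⟩ := exists_tvGroup_smul (W := d.W) u.2 (d.W.smul_mem t u.2) ⟨w, hw, huw⟩
    ⟨w, hw, by rw [form_smul_left]; exact mul_ne_zero ht huw⟩
  obtain ⟨zg, hzg⟩ := h g (d.tvGroup_le hg) ⟨t, ht, hgu⟩
  have hge : g • d.e = d.e := MulAction.mem_stabilizer_iff.1 (d.tvGroup_le hg).1
  obtain ⟨c, hc⟩ := hfree u hu' x
  apply hc
  set c' := c / (t ^ 2 - 1)
  obtain ⟨z, hz⟩ := h (tv (u : V) c') (d.tvGroup_le (tv_mem_tvGroup u.2 _))
    ⟨1, one_ne_zero, by rw [tv_smul, form_self, mul_zero, zero_smul, add_zero, one_smul]⟩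
  have h1 : ActsAs d x (g * tv (u : V) c' * g⁻¹) (zg + z + -zg) :=
    (hzg.mul hge hz).mul (by rw [mul_smul, fix_tvW, hge]) (hzg.inv hge)
  rw [tv_conj, hgu, tv_smul_vec, add_neg_cancel_comm] at h1
  have h2 := h1.mul (fix_tvW u _) (hz.inv (fix_tvW u _))
  rw [tv_inv, tv_add, add_neg_cancel, show t ^ 2 * c' + -c' = c' * (t ^ 2 - 1) by ring,
    div_mul_cancel₀ _ (sub_ne_zero.2 ht2), ActsAs, tv_zero, one_smul] at h2
  exact h2

/-- A point fixed up to the centre by the whole complement is fixed by a transvection group. -/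
theorem not_fix_all (h2 : (2 : F) ≠ 0) (hW : Nat.card F ^ 2 < Nat.card d.W) (hfree : Free (m := m) (F := F) X)
    {x : X} (h : ∀ l ∈ d.Lv, ∃ z, ActsAs d x l z) : False := by
  obtain ⟨u, hu⟩ : ∃ u : d.W, u ≠ 0 := by
    by_contra hc; push Not at hc
    rw [Nat.card_eq_one_iff_exists.2 ⟨(0 : d.W), hc⟩] at hW
    have : 1 ≤ Nat.card F ^ 2 := Nat.one_le_pow _ _ Nat.card_pos
    omega
  have hu' : (u : V) ≠ 0 := fun e => hu (Subtype.ext e)
  obtain ⟨a, hua, hna⟩ : ∃ a : d.W, form (a : V) (u : V) = 0 ∧ ∀ t : F, (a : V) ≠ t • (u : V) := by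
    by_contra hc
    push Not at hc
    refine absurd ?_ (not_le.2 hW)
    let φ : d.W →+ F := AddMonoidHom.mk' (fun a => form (a : V) (u : V)) fun a b => form_add_left _ _ _
    have h1 := φ.ker.card_mul_index
    rw [AddSubgroup.index_ker] at h1
    have h2' : Nat.card φ.ker ≤ Nat.card F := by
      refine Nat.card_le_card_of_injective (fun a : φ.ker => (hc a.1 a.2).choose) fun a b e => ?_
      refine Subtype.ext (Subtype.ext ?_)
      rw [(hc a.1 a.2).choose_spec, (hc b.1 b.2).choose_spec]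
      exact congrArg (fun t : F => t • (u : V)) e
    rw [← h1, pow_two]
    exact Nat.mul_le_mul h2' (Nat.card_le_card_of_injective _ Subtype.val_injective)
  obtain ⟨c, hc⟩ := hfree u hu' x
  apply hc
  obtain ⟨z, hz⟩ := h (tv (u : V) c) (d.tvGroup_le (tv_mem_tvGroup u.2 c))
  have hsame : ∀ w : d.W, w ≠ 0 → ActsAs d x (tv (w : V) c) z := by
    intro w hw
    obtain ⟨g, hg, hgu⟩ := exists_tvGroup_smul (W := d.W) u.2 w.2 (d.nondeg_W u u.2 hu')
      (d.nondeg_W w w.2 fun e => hw (Subtype.ext e))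
    obtain ⟨zg, hzg⟩ := h g (d.tvGroup_le hg)
    have hge : g • d.e = d.e := MulAction.mem_stabilizer_iff.1 (d.tvGroup_le hg).1
    have h1 : ActsAs d x (g * tv (u : V) c * g⁻¹) (zg + z + -zg) :=
      (hzg.mul hge hz).mul (by rw [mul_smul, fix_tvW, hge]) (hzg.inv hge)
    rwa [tv_conj, hgu, add_neg_cancel_comm] at h1
  have ha0 : a ≠ 0 := fun e => hna 0 (by rw [e, zero_smul]; rfl)
  -- the short root elements act by both signs
  have hsh : ∀ σ : F, σ * σ = 1 → ActsAs d x (sh (a : V) ((c * σ) • (u : V))) (-z) := by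
    intro σ hσ
    have hne : u + σ • a ≠ 0 := fun e => hna (-σ) <| by
      have h0 := congrArg (fun w : d.W => σ • (w : V)) e
      simp only [Submodule.coe_add, Submodule.coe_smul, Submodule.coe_zero, smul_add, smul_smul, hσ, one_smul,
        smul_zero] at h0
      rw [neg_smul]
      exact eq_neg_of_add_eq_zero_right h0
    have h1 := hsame _ hne
    rw [Submodule.coe_add, Submodule.coe_smul, tv_expand hua, pow_two, hσ, mul_one] at h1
    have h3 := ((hsame u hu).inv (fix_tvW u c)).mul (by rw [tv_inv]; exact fix_tvW u _)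
      (h1.mul ?_ ((hsame a ha0).inv (fix_tvW a c)))
    · rw [mul_inv_cancel_right, inv_mul_cancel_left] at h3
      rwa [show -z + (z + -z) = -z by ring] at h3
    · rw [mul_smul, mul_smul, fix_tvW, sh_smul (by rw [form_smul_right, hua, mul_zero]), form_smul_right,
        d.We a, d.We u, mul_zero, zero_smul, zero_smul, add_zero, add_zero, fix_tvW]
  have hp := hsh 1 (one_mul 1)
  have hn := hsh (-1) (by ring)
  have hfix : sh (a : V) ((c * 1) • (u : V)) • d.e = d.e := by
    rw [sh_smul (by rw [form_smul_right, hua, mul_zero]), form_smul_right, d.We a, d.We u, mul_zero, zero_smul,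
      zero_smul, add_zero, add_zero]
  have h3 := hp.mul hfix hn
  rw [sh_mul (by rw [form_smul_right, hua, mul_zero]) (by rw [form_smul_right, hua, mul_zero]), form_smul_left,
    form_smul_right, form_self, mul_zero, mul_zero, tv_zero, one_mul, ← add_smul, show c * 1 + c * -1 = 0 by ring,
    zero_smul, sh_zero, ActsAs, one_smul] at h3
  -- twice the value is in the stabiliser
  set K := stabilizer F (toEX d x)
  have h4 : (-z + -z) ∈ K := (mem_stab_iff d X _ x).2 h3.symm
  obtain ⟨n, hn2⟩ := exists_nat_half h2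
  have h5 : -z ∈ K := by
    have := K.nsmul_mem h4 n
    rwa [nsmul_eq_mul, show (n : F) * (-z + -z) = -z by linear_combination -z * hn2] at this
  have h6 : z ∈ K := neg_neg z ▸ K.neg_mem h5
  exact hz.trans ((mem_stab_iff d X _ x).1 h6)

/-- Each character is seen by many orbits. -/
theorem nset_bound (h2 : (2 : F) ≠ 0) (hm : 2 ≤ m) (hq : Nat.card F ^ 2 < Nat.card d.W ∨ 4 ≤ Nat.card F)
    (hfree : Free (m := m) (F := F) X) {ψ : AddChar F ℂ} (hψ : ψ ≠ 0) (x₀ : X) :
    2 * Nat.card d.W - 1 ≤ Nat.card (NSet d X ψ) := by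
  haveI := exists_nset d h2 hm hfree hψ x₀
  set φ := ψ.mulShift 2 with hφdef
  have hφ : φ ≠ 0 := fun e => by
    obtain ⟨x, hx⟩ := AddChar.ne_one_iff.1 hψ
    have := DFunLike.congr_fun e (x / 2)
    rw [hφdef, AddChar.mulShift_apply, mul_div_cancel₀ _ h2] at this
    exact hx this
  have hP := pairW_perfect (d := d) hφ
  have hQ : Nat.card d.W ≠ 1 := fun e => by
    obtain ⟨a, ha⟩ := W_ne d hm
    haveI := (Nat.card_eq_one_iff_unique.1 e).1
    exact ha (Subsingleton.elim _ _)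
  set O₁ := Classical.arbitrary (NSet d X ψ)
  have hiso : ∀ O : NSet d X ψ, ∀ a ∈ stabilizer d.W O, ∀ b ∈ stabilizer d.W O, φ (pairW d a b) = 1 :=
    fun O a ha b hb => by rw [hφdef, AddChar.mulShift_apply, pairW_apply]; exact stab_iso O ha hb
  obtain ⟨v₀, hv₀, hv₀W⟩ : ∃ v : d.W, v ≠ 0 ∧ v ∈ wtB (pairW d) φ (Quotient.mk'' O₁) := by
    by_contra hc
    push Not at hc
    have hbot : wtB (pairW d) φ (Quotient.mk'' O₁) = ⊥ :=
      (AddSubgroup.eq_bot_iff_forall _).2 fun v hv => by_contra fun h0 => hc v h0 hv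
    rw [wtB, stab_out] at hbot
    have h1 := card_annB hP (stabilizer d.W O₁)
    rw [hbot, AddSubgroup.card_bot] at h1
    have h3 := (stabilizer d.W O₁).card_mul_index
    rw [← h1, mul_one] at h3
    have h4 := card_sq_le hP _ (hiso O₁)
    rw [h3] at h4
    have : 0 < Nat.card d.W := Nat.card_pos
    nlinarith [show 2 ≤ Nat.card d.W by omega]
  set j := nwtB (Y := NSet d X ψ) (pairW d) φ v₀ with hj
  have hcount := card_ge_of_weights (Y := NSet d X ψ) hP {v : d.W | v ≠ 0} (fun h => h rfl) j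
    fun v hv => le_of_eq (nwt_const φ hv₀ hv).symm
  have hcardS : Nat.card {v : d.W | v ≠ 0} = Nat.card d.W - 1 := by
    rw [Nat.card_coe_set_eq, show {v : d.W | v ≠ 0} = {0}ᶜ from rfl, Set.ncard_compl, Set.ncard_singleton]
  rw [hcardS] at hcount
  haveI : Nonempty (AOrb (M := d.W) (NSet d X ψ)) := ⟨Quotient.mk'' O₁⟩
  have hr : 1 ≤ Nat.card (AOrb (M := d.W) (NSet d X ψ)) := Nat.card_pos
  rcases Nat.lt_or_ge j 2 with hj2 | hj2
  swap
  · have := Nat.mul_le_mul_right (Nat.card d.W - 1) hj2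
    omega
  exfalso
  set o₀ : AOrb (M := d.W) (NSet d X ψ) := Quotient.mk'' O₁
  have huniq : ∀ v : d.W, v ≠ 0 → ∀ o o' : AOrb (M := d.W) (NSet d X ψ), v ∈ wtB (pairW d) φ o → v ∈ wtB (pairW d) φ o' → o = o' := by
    intro v hv o o' ho ho'
    have h1 : nwtB (Y := NSet d X ψ) (pairW d) φ v = j := nwt_const φ hv₀ hv
    rw [nwtB] at h1
    haveI : Subsingleton {o : AOrb (M := d.W) (NSet d X ψ) // v ∈ wtB (pairW d) φ o} :=
      Finite.card_le_one_iff_subsingleton.1 (by omega)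
    exact congrArg Subtype.val (Subsingleton.elim (⟨o, ho⟩ : {o // v ∈ wtB (pairW d) φ o}) ⟨o', ho'⟩)
  set W₀ := wtB (pairW d) φ o₀
  set K := stabilizer d.W O₁
  have hW₀ : W₀ = annB (pairW d) φ K := by simp only [W₀, o₀, K, wtB, stab_out]
  -- elements moving a weight to a weight fix the orbit
  have hfixo : ∀ g (hg : g ∈ d.Lv) (v : d.W), v ≠ 0 → v ∈ W₀ → d.lev hg v ∈ W₀ →
      (Quotient.mk'' (nperm ψ hg O₁) : AOrb (M := d.W) (NSet d X ψ)) = o₀ ∧ ∀ w ∈ W₀, d.lev hg w ∈ W₀ := by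
    intro g hg v hv hvW hgv
    obtain ⟨σ, hσ, hσ'⟩ := orbit_perm (X := X) (ψ := ψ) φ hg
    have he : σ o₀ = o₀ := huniq _ (fun e => hv ((d.lev hg).map_eq_zero_iff.1 e)) _ _ ((hσ' o₀ v).2 hvW) hgv
    refine ⟨(hσ O₁).symm.trans he, fun w hw => ?_⟩
    have := (hσ' o₀ w).2 hw
    rwa [he] at this
  -- the centre of the complement fixes a point
  obtain ⟨g₀, hg₀, hneg⟩ := exists_negW d
  have hlev : ∀ a : d.W, d.lev hg₀ a = -a := fun a => Subtype.ext (hneg a)
  obtain ⟨hgo, -⟩ := hfixo g₀ hg₀ v₀ hv₀ hv₀W (by rw [hlev]; exact W₀.neg_mem hv₀W)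
  obtain ⟨d', hd'⟩ := orbitRel_apply.1 (Quotient.eq''.1 hgo)
  change d' +ᵥ O₁ = nperm ψ hg₀ O₁ at hd'
  obtain ⟨n, hn⟩ := exists_nat_half h2
  have hhalf : ∀ b : d.W, n • (b + b) = b := fun b => by
    rw [← two_nsmul, smul_smul, ← Nat.cast_smul_eq_nsmul F, Nat.cast_mul, Nat.cast_ofNat, hn, one_smul]
  set O₀ := (n • d') +ᵥ O₁ with hO₀
  have hO₀fix : nperm ψ hg₀ O₀ = O₀ := by
    change nmap d X ψ _ (n • d' +ᵥ O₁) = _
    rw [nmap_vadd hg₀, hlev, show nmap d X ψ _ O₁ = d' +ᵥ O₁ from hd'.symm, ← add_vadd]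
    congr 1
    nth_rewrite 2 [← hhalf d']
    rw [nsmul_add]; abel
  have hKO : stabilizer d.W O₀ = K := stab_vadd _ _
  have hfix : ∀ l (hl : l ∈ d.Lv) (v : d.W), v ≠ 0 → v ∈ W₀ → d.lev hl v ∈ W₀ → nperm ψ hl O₀ = O₀ := by
    intro l hl v hv hvW hlv
    obtain ⟨hlo, -⟩ := hfixo l hl v hv hvW hlv
    obtain ⟨b₁, hb₁⟩ := orbitRel_apply.1 (Quotient.eq''.1 hlo)
    change b₁ +ᵥ O₁ = nperm ψ hl O₁ at hb₁
    set b := d.lev hl (n • d') + b₁ + -(n • d')
    have hb : b +ᵥ O₀ = nperm ψ hl O₀ := by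
      change _ = nmap d X ψ _ (n • d' +ᵥ O₁)
      rw [nmap_vadd hl, show nmap d X ψ _ O₁ = b₁ +ᵥ O₁ from hb₁.symm, hO₀, ← add_vadd, ← add_vadd, neg_add_cancel_right]
    have hcomm : nperm ψ hg₀ (nperm ψ hl O₀) = nperm ψ hl (nperm ψ hg₀ O₀) := by
      obtain ⟨x, hx, e⟩ := nset_exists O₀
      rw [e]
      refine Subtype.ext ?_
      change (Quotient.mk'' (toEX d (g₀ • l • x)) : ZO d X) = Quotient.mk'' (toEX d (l • g₀ • x))
      rw [← mul_smul, ← mul_smul, negW_comm d hg₀ hneg hl]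
    rw [hO₀fix, ← hb] at hcomm
    change nmap d X ψ _ (b +ᵥ O₀) = _ at hcomm
    rw [nmap_vadd hg₀, hlev, show nmap d X ψ _ O₀ = O₀ from hO₀fix, neg_vadd_eq_iff, ← add_vadd] at hcomm
    have hb0 : b + b ∈ stabilizer d.W O₀ := mem_stabilizer_iff.2 hcomm.symm
    rw [← hb, mem_stabilizer_iff.1]
    rw [← hhalf b]
    exact AddSubgroup.nsmul_mem _ hb0 n
  obtain ⟨x, hx, hxO⟩ := nset_exists O₀
  have hacts : ∀ l (hl : l ∈ d.Lv) (v : d.W), v ≠ 0 → v ∈ W₀ → d.lev hl v ∈ W₀ → ∃ z, ActsAs d x l z := by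
    intro l hl v hv hvW hlv
    have h := congrArg Subtype.val (hfix l hl v hv hvW hlv)
    rw [hxO, nperm_mk] at h
    exact mk_eq_iff.1 h
  by_cases htop : W₀ = ⊤
  · rcases hq with hq | hq
    · exact not_fix_all h2 hq hfree fun l hl => hacts l hl v₀ hv₀ hv₀W (by rw [htop]; trivial)
    · exact not_fix_four hq hfree hv₀ fun l hl _ => hacts l hl v₀ hv₀ hv₀W (by rw [htop]; trivial)
  obtain ⟨v₁, hv₁⟩ : ∃ v : d.W, v ∉ W₀ := by
    by_contra hc
    push Not at hc
    exact htop (eq_top_iff.2 fun v _ => hc v)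
  have hv₁0 : v₁ ≠ 0 := fun e => hv₁ (e ▸ W₀.zero_mem)
  -- another orbit
  obtain ⟨o₁, ho₁⟩ : ∃ o : AOrb (M := d.W) (NSet d X ψ), v₁ ∈ wtB (pairW d) φ o := by
    by_contra hc
    push Not at hc
    haveI : IsEmpty {o : AOrb (M := d.W) (NSet d X ψ) // v₁ ∈ wtB (pairW d) φ o} := ⟨fun o => hc o.1 o.2⟩
    have h1 : nwtB (Y := NSet d X ψ) (pairW d) φ v₁ = j := nwt_const φ hv₀ hv₁0
    have h0 : (0 : ℕ) < j := Nat.card_pos_iff.2 ⟨⟨⟨o₀, hv₀W⟩⟩, Subtype.finite⟩
    rw [nwtB, Nat.card_of_isEmpty] at h1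
    omega
  set W₁ := wtB (pairW d) φ o₁
  have hdisj : Nat.card W₀ * Nat.card W₁ ≤ Nat.card d.W := by
    rw [← Nat.card_prod]
    refine Nat.card_le_card_of_injective (fun p : W₀ × W₁ => (p.1 : d.W) + p.2) ?_
    rintro ⟨⟨a, ha⟩, ⟨b, hb⟩⟩ ⟨⟨a', ha'⟩, ⟨b', hb'⟩⟩ e
    change a + b = a' + b' at e
    have e1 : a - a' = b' - b := by rw [sub_eq_sub_iff_add_eq_add, e]; abel
    have h0 : a - a' = 0 := by
      by_contra hne
      have : o₀ = o₁ := huniq _ hne _ _ (W₀.sub_mem ha ha') (e1 ▸ W₁.sub_mem hb' hb)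
      exact hv₁ (show v₁ ∈ wtB (pairW d) φ o₀ by rw [this]; exact ho₁)
    rw [h0, eq_comm, sub_eq_zero] at e1
    exact Prod.ext (Subtype.ext (sub_eq_zero.1 h0)) (Subtype.ext e1.symm)
  have hW1sq : Nat.card d.W ≤ Nat.card W₁ * Nat.card W₁ := by
    rw [show Nat.card W₁ = (stabilizer d.W o₁.out).index from card_annB hP _]
    have h1 := (stabilizer d.W o₁.out).card_mul_index
    have h3 := card_sq_le hP _ (hiso o₁.out)
    rw [← h1] at h3 ⊢
    exact Nat.mul_le_mul_right _ (Nat.le_of_mul_le_mul_left h3 Nat.card_pos)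
  have hKW : K ≤ W₀ := fun b hb => by rw [hW₀]; exact fun a ha => hiso O₁ a ha b hb
  have hKeq : K = W₀ := by
    refine AddSubgroup.eq_of_le_of_card_ge hKW ?_
    have h1 := K.card_mul_index
    rw [← card_annB hP, ← hW₀] at h1
    have h3 : Nat.card W₀ ≤ Nat.card W₁ := by
      by_contra hlt
      push Not at hlt
      have := lt_of_le_of_lt hW1sq (Nat.mul_lt_mul_of_pos_right hlt Nat.card_pos)
      omega
    have h4 : Nat.card W₀ * Nat.card W₀ ≤ Nat.card d.W :=
      le_trans (Nat.mul_le_mul_left _ h3) hdisj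
    rw [← h1] at h4
    exact Nat.le_of_mul_le_mul_right h4 Nat.card_pos
  have hisoW : ∀ a ∈ W₀, ∀ b ∈ W₀, φ (form (a : V) (b : V)) = 1 := fun a ha b hb =>
    hiso O₁ a (show a ∈ K by rw [hKeq]; exact ha) b (show b ∈ K by rw [hKeq]; exact hb)
  have hmove : ∀ u : d.W, u ≠ 0 → u ∈ W₀ → ∀ v : d.W, form (u : V) (v : V) = 0 → ∀ w ∈ W₀, ∀ c : F,
      (c * form (w : V) (v : V)) • v ∈ W₀ := by
    intro u hu huW v huv w hw c
    have hl : tv (v : V) c ∈ d.Lv := d.tvGroup_le (tv_mem_tvGroup v.2 c)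
    have h1 : d.lev hl u = u := Subtype.ext (by
      rw [d.lev_apply, tv_smul, huv, mul_zero, zero_smul, add_zero])
    obtain ⟨-, hinv⟩ := hfixo _ hl u hu huW (by rw [h1]; exact huW)
    have h3 := W₀.sub_mem (hinv w hw) hw
    rwa [show d.lev hl w - w = (c * form (w : V) (v : V)) • v from Subtype.ext (by
      rw [AddSubgroupClass.coe_sub, d.lev_apply, tv_smul, add_sub_cancel_left]; rfl)] at h3
  have hperp : ∀ a ∈ W₀, ∀ b ∈ W₀, form (a : V) (b : V) = 0 := by
    intro a ha b hb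
    by_contra hne
    have hb0 : b ≠ 0 := fun e => hne (by rw [e]; exact form_zero_right _)
    obtain ⟨x, hx⟩ := AddChar.ne_one_iff.1 hφ
    apply hx
    have h1 := hmove b hb0 hb b (form_self _) a ha (x / (form (a : V) (b : V) * form (a : V) (b : V)))
    have h3 := hisoW a ha _ h1
    rw [Submodule.coe_smul, form_smul_right, mul_assoc, div_mul_cancel₀ _ (mul_ne_zero hne hne)] at h3
    exact h3
  have hline : ∀ w ∈ W₀, ∃ t : F, (w : V) = t • (v₀ : V) := by
    intro w hw
    have hu' : (v₀ : V) ≠ 0 := fun e => hv₀ (Subtype.ext e)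
    obtain ⟨y, hy, hvy⟩ := d.nondeg_W v₀ v₀.2 hu'
    set y' := (form (v₀ : V) y)⁻¹ • y
    have hy' : form (v₀ : V) y' = 1 := by rw [form_smul_right, inv_mul_cancel₀ hvy]
    have hzero : ∀ v : d.W, form (v₀ : V) (v : V) = 0 → form (w : V) (v : V) = 0 := by
      intro v hv
      by_contra hne
      have h1 := hmove v₀ hv₀ hv₀W v hv w hw (form (w : V) (v : V))⁻¹
      rw [inv_mul_cancel₀ hne, one_smul] at h1
      exact hne (hperp w hw v h1)
    refine ⟨form (w : V) y', sub_eq_zero.1 (by_contra fun hne => ?_)⟩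
    obtain ⟨z, hz, hwz⟩ := d.nondeg_W _ (d.W.sub_mem w.2 (d.W.smul_mem _ v₀.2)) hne
    apply hwz
    have hyW : y' ∈ d.W := d.W.smul_mem _ hy
    have h1 := hzero ⟨z - form (v₀ : V) z • y', d.W.sub_mem hz (d.W.smul_mem _ hyW)⟩
      (by rw [form_sub_right, form_smul_right, hy', mul_one, sub_self])
    rw [form_sub_right, form_smul_right] at h1
    rw [form_sub_left, form_smul_left]
    linear_combination h1
  have hW₀q : Nat.card W₀ ≤ Nat.card F := by
    refine Nat.card_le_card_of_injective (fun w : W₀ => (hline w.1 w.2).choose) fun a b e => ?_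
    refine Subtype.ext (Subtype.ext ?_)
    rw [(hline a.1 a.2).choose_spec, (hline b.1 b.2).choose_spec]
    exact congrArg (fun t : F => t • (v₀ : V)) e
  have hWq : Nat.card d.W ≤ Nat.card F ^ 2 := by
    have h1 := K.card_mul_index
    rw [← card_annB hP, ← hW₀, hKeq] at h1
    rw [← h1, pow_two]
    exact Nat.mul_le_mul hW₀q hW₀q
  have hq4 : 4 ≤ Nat.card F := hq.resolve_left (not_lt.2 hWq)
  -- the weights form the line of `v₀`
  have hmem : ∀ t : F, t • v₀ ∈ W₀ := by
    have hcard : Nat.card F ≤ Nat.card W₀ := by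
      by_contra hlt
      push Not at hlt
      have h1 := K.card_mul_index
      rw [← card_annB hP, ← hW₀, hKeq] at h1
      have h3 := d.card_W
      have h4 : Nat.card F ^ 2 ≤ Nat.card d.W := by
        have hv : (v₀ : V) ≠ 0 := fun e => hv₀ (Subtype.ext e)
        obtain ⟨y, hy, hvy⟩ := d.nondeg_W v₀ v₀.2 hv
        rw [pow_two, ← Nat.card_prod]
        refine Nat.card_le_card_of_injective (fun p : F × F => p.1 • v₀ + p.2 • (⟨y, hy⟩ : d.W)) ?_
        rintro ⟨s, t⟩ ⟨s', t'⟩ e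
        have e' := congrArg (fun w : d.W => (form (w : V) y, form (w : V) (v₀ : V))) e
        simp only [Submodule.coe_add, Submodule.coe_smul, form_add_left, form_smul_left, form_self, mul_zero,
          add_zero, zero_add, Prod.mk.injEq] at e'
        exact Prod.ext (mul_right_cancel₀ hvy e'.1)
          (mul_right_cancel₀ (by rw [form_swap]; exact neg_ne_zero.2 hvy) e'.2)
      rw [← h1, pow_two] at h4
      exact absurd h4 (not_le.2 (Nat.mul_lt_mul'' hlt hlt))
    let ι : W₀ → F := fun w => (hline w.1 w.2).choose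
    have hι : Function.Bijective ι := (Nat.bijective_iff_injective_and_card _).2 ⟨fun a b e => by
      refine Subtype.ext (Subtype.ext ?_)
      rw [(hline a.1 a.2).choose_spec, (hline b.1 b.2).choose_spec]
      exact congrArg (fun t : F => t • (v₀ : V)) e, le_antisymm hW₀q hcard⟩
    intro t
    obtain ⟨w, hw⟩ := hι.2 t
    have : (w : d.W) = t • v₀ := Subtype.ext (by
      rw [(hline w.1 w.2).choose_spec]; exact congrArg (fun t : F => t • (v₀ : V)) hw)
    exact this ▸ w.2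
  refine not_fix_four hq4 hfree hv₀ fun l hl ⟨t, _, hlt⟩ => hacts l hl v₀ hv₀ hv₀W ?_
  rw [show d.lev hl v₀ = t • v₀ from Subtype.ext hlt]
  exact hmem t

/-- A set without fixed points of transvection groups is large. -/
theorem odd_big (h2 : (2 : F) ≠ 0) (hm : 2 ≤ m) (hq : 3 ≤ Nat.card F) (hexc : 3 ≤ m ∨ 4 ≤ Nat.card F)
    (hfree : Free (m := m) (F := F) X) (x₀ : X) :
    Nat.card (Fin m ⊕ Fin m → F) - 1 ≤ (Nat.card F - 1) * Nat.card X := by
  obtain ⟨v, hv⟩ : ∃ v : V, v ≠ 0 := ⟨Pi.single (Sum.inl ⟨0, by omega⟩) 1, Pi.single_ne_zero_iff.mpr one_ne_zero⟩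
  obtain ⟨d, -⟩ := exists_hpair hv
  have hWV := d.card_W
  have hV : Nat.card V = Nat.card F ^ (2 * m) := by rw [Nat.card_fun, Nat.card_sum, Nat.card_fin, two_mul]
  have hW : Nat.card d.W = Nat.card F ^ (2 * m - 2) := by
    rw [hV, show 2 * m = 2 + (2 * m - 2) by omega, pow_add] at hWV
    exact (Nat.eq_of_mul_eq_mul_left (by positivity) hWV).symm
  have hcond : Nat.card F ^ 2 < Nat.card d.W ∨ 4 ≤ Nat.card F :=
    hexc.imp_left fun h => by rw [hW]; exact Nat.pow_lt_pow_right (by omega) (by omega)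
  have h := q_mul_le (d := d) (X := X) (B := 2 * Nat.card d.W - 1)
    fun φ hφ => nset_bound h2 hm hcond hfree hφ x₀
  refine le_trans ?_ (Nat.mul_le_mul_left _ h)
  rw [hWV]
  have hW2 : Nat.card F ^ 2 ≤ Nat.card d.W := by
    rw [hW]; exact Nat.pow_le_pow_right (by omega) (by omega)
  obtain ⟨a, ha⟩ : ∃ a, Nat.card F = a + 3 := ⟨Nat.card F - 3, by omega⟩
  obtain ⟨b, hb⟩ : ∃ b, Nat.card d.W = b + 1 := ⟨Nat.card d.W - 1, by have := (Nat.card_pos : 0 < Nat.card d.W); omega⟩
  rw [ha, hb] at hW2 ⊢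
  rw [show 2 * (b + 1) - 1 = 2 * b + 1 by omega, show a + 3 - 1 = a + 2 by omega, Nat.sub_le_iff_le_add]
  nlinarith [Nat.zero_le (a * b), Nat.zero_le (a * a * b)]

end CfsgLib.MinIdxPSp
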