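import Cfsg.Agent.MinIdxPSp.Basic
import Cfsg.Agent.MinIdxPSU.Weights

/-!
A transitive set of the symplectic group seen by the Heisenberg radical of a point stabiliser.
-/

set_option autoImplicit false
set_option linter.style.haveILetI false
set_option linter.unusedSectionVars false

namespace CfsgLib.MinIdxPSp

open Matrix CfsgLib.Symp AddAction CfsgLib.MinIdxPSU
open scoped Classical

variable {m : ℕ} {F : Type*} [Field F] [Finite F]

local notation "V" => Fin m ⊕ Fin m → F
local notation "Sp" => Matrix.symplecticGroup (Fin m) F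

/-- A hyperbolic pair. -/
structure HPair (m : ℕ) (F : Type*) [Field F] where
  /-- the first vector -/
  e : Fin m ⊕ Fin m → F
  /-- the second vector -/
  f : Fin m ⊕ Fin m → F
  hef : form e f = 1

variable (d : HPair m F)

theorem HPair.e_ne : d.e ≠ 0 := fun h => by have := d.hef; rw [h, form_zero_left] at this; exact zero_ne_one this

theorem exists_hpair {v : Fin m ⊕ Fin m → F} (hv : v ≠ 0) : ∃ d : HPair m F, d.e = v := by
  obtain ⟨w, hw⟩ := exists_form_eq_one hv; exact ⟨⟨v, w, hw⟩, rfl⟩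

/-- The orthogonal space of the pair. -/
def HPair.W : Submodule F (Fin m ⊕ Fin m → F) := perpS (Submodule.span F {d.e, d.f})

theorem HPair.mem_W {v : Fin m ⊕ Fin m → F} : v ∈ d.W ↔ form d.e v = 0 ∧ form d.f v = 0 := by
  refine ⟨fun h => ⟨h _ (Submodule.subset_span (Set.mem_insert _ _)),
    h _ (Submodule.subset_span (Set.mem_insert_of_mem _ rfl))⟩, fun h s hs => ?_⟩
  induction hs using Submodule.span_induction with
  | mem x hx => rcases hx with rfl | hx; exacts [h.1, hx ▸ h.2]
  | zero => exact form_zero_left v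
  | add x y _ _ hx hy => rw [form_add_left, hx, hy, add_zero]
  | smul c x _ hx => rw [form_smul_left, hx, mul_zero]

theorem HPair.We (a : d.W) : form d.e (a : Fin m ⊕ Fin m → F) = 0 := (d.mem_W.1 a.2).1

theorem HPair.Wf (a : d.W) : form d.f (a : Fin m ⊕ Fin m → F) = 0 := (d.mem_W.1 a.2).2

theorem HPair.proj_mem (v : Fin m ⊕ Fin m → F) : v - (form v d.f • d.e - form v d.e • d.f) ∈ d.W := by
  have hfe : form d.f d.e = -1 := by rw [form_swap, d.hef]
  refine d.mem_W.2 ⟨?_, ?_⟩ <;>
    simp only [form_sub_right, form_smul_right, form_self, d.hef, hfe, form_swap v d.e, form_swap v d.f] <;> ring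

theorem HPair.nondeg_W : Nondeg d.W := fun v hv hv0 => by
  obtain ⟨y, hy⟩ := exists_form_ne_zero hv0
  refine ⟨_, d.proj_mem y, ?_⟩
  rwa [form_sub_right, form_sub_right, form_smul_right (v := d.e), form_smul_right (v := d.f),
    form_zero_swap (d.mem_W.1 hv).1, form_zero_swap (d.mem_W.1 hv).2, mul_zero, mul_zero, sub_zero, sub_zero]

theorem HPair.card_W : Nat.card (Fin m ⊕ Fin m → F) = Nat.card F ^ 2 * Nat.card d.W := by
  have hfe : form d.f d.e = -1 := by rw [form_swap, d.hef]
  have e : (Fin m ⊕ Fin m → F) ≃ (F × F) × d.W :=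
    { toFun := fun v => ((form v d.f, form v d.e), ⟨_, d.proj_mem v⟩)
      invFun := fun p => (p.2 : Fin m ⊕ Fin m → F) + (p.1.1 • d.e - p.1.2 • d.f)
      left_inv := fun v => sub_add_cancel v _
      right_inv := fun p => by
        obtain ⟨⟨s, t⟩, w, hw⟩ := p
        have h1 : form (w + (s • d.e - t • d.f)) d.f = s := by
          rw [form_add_left, form_sub_left, form_smul_left, form_smul_left, d.hef, form_self,
            form_zero_swap (d.mem_W.1 hw).2]; ring
        have h2 : form (w + (s • d.e - t • d.f)) d.e = t := by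
          rw [form_add_left, form_sub_left, form_smul_left, form_smul_left, hfe, form_self,
            form_zero_swap (d.mem_W.1 hw).1]; ring
        refine Prod.ext (Prod.ext h1 h2) (Subtype.ext ?_)
        change _ - (form (w + (s • d.e - t • d.f)) d.f • d.e - form (w + (s • d.e - t • d.f)) d.e • d.f) = w
        rw [h1, h2, add_sub_cancel_right] }
  rw [Nat.card_congr e, Nat.card_prod, Nat.card_prod, pow_two]

/-- The stabiliser of the pair. -/
def HPair.Lv : Subgroup (Matrix.symplecticGroup (Fin m) F) :=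
  MulAction.stabilizer _ d.e ⊓ MulAction.stabilizer _ d.f

theorem HPair.tvGroup_le : tvGroup d.W ≤ d.Lv := fun g hg =>
  ⟨tvGroup_fix hg fun w hw => (d.mem_W.1 hw).1, tvGroup_fix hg fun w hw => (d.mem_W.1 hw).2⟩

theorem HPair.move_mem {g : Sp} (hg : g ∈ d.Lv) {v : V} (hv : v ∈ d.W) : g • v ∈ d.W := by
  obtain ⟨h1, h2⟩ := d.mem_W.1 hv
  refine d.mem_W.2 ⟨?_, ?_⟩
  · rw [← MulAction.mem_stabilizer_iff.1 hg.1, form_smul_smul, h1]
  · rw [← MulAction.mem_stabilizer_iff.1 hg.2, form_smul_smul, h2]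

/-- The action of the stabiliser of the pair on its orthogonal space. -/
def HPair.lev {g : Matrix.symplecticGroup (Fin m) F} (hg : g ∈ d.Lv) : d.W ≃+ d.W where
  toFun a := ⟨g • (a : Fin m ⊕ Fin m → F), d.move_mem hg a.2⟩
  invFun a := ⟨g⁻¹ • (a : Fin m ⊕ Fin m → F), d.move_mem (inv_mem hg) a.2⟩
  left_inv a := Subtype.ext (inv_smul_smul g _)
  right_inv a := Subtype.ext (smul_inv_smul g _)
  map_add' a b := Subtype.ext (smul_add g _ _)

theorem HPair.lev_apply {g : Sp} (hg : g ∈ d.Lv) (a : d.W) : (d.lev hg a : V) = g • (a : V) := rfl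

/-! ### The centre and the radical -/

theorem tv_comm_of_fix {g : Sp} {v : V} (h : g • v = v) (c : F) : g * tv v c = tv v c * g := by
  have := tv_conj g v c
  rw [h] at this
  exact mul_inv_eq_iff_eq_mul.1 this

/-- The type of the set with the centre of the radical acting. -/
def EX (_d : HPair m F) (X : Type*) : Type _ := X

/-- A point of the set. -/
def toEX (d : HPair m F) {X : Type*} (x : X) : EX d X := x

variable (X : Type*) [MulAction (Matrix.symplecticGroup (Fin m) F) X] [Finite X]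

instance : Finite (EX d X) := ‹Finite X›

/-- An element acting. -/
def act (g : Matrix.symplecticGroup (Fin m) F) (x : EX d X) : EX d X := toEX d (g • (show X from x))

theorem act_mul (g g' : Sp) (x : EX d X) : act d X g (act d X g' x) = act d X (g * g') x :=
  (mul_smul g g' (show X from x)).symm

theorem act_injective (g : Sp) : Function.Injective (act d X g) :=
  fun _ _ h => MulAction.injective (β := X) g h

instance : AddAction F (EX d X) where
  vadd z x := act d X (tv d.e z) x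
  zero_vadd x := by
    change act d X (tv d.e 0) x = x
    rw [tv_zero]; exact one_smul _ (show X from x)
  add_vadd z w x := by
    change act d X (tv d.e (z + w)) x = act d X (tv d.e z) (act d X (tv d.e w) x)
    rw [← tv_add, act_mul]

theorem vadd_eq (z : F) (x : EX d X) : z +ᵥ x = act d X (tv d.e z) x := rfl

theorem mem_stab_iff (z : F) (x : X) : z ∈ stabilizer F (toEX d x) ↔ tv d.e z • x = x := mem_stabilizer_iff

/-- Orbits of the centre. -/
abbrev ZO : Type _ := AOrb (M := F) (EX d X)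

variable (ψ : AddChar F ℂ)

/-- Orbits seeing the character. -/
def Sees (O : ZO d X) : Prop := ∀ z ∈ stabilizer F O.out, ψ z = 1

theorem sees_mk (x : EX d X) : Sees d X ψ (Quotient.mk'' x) ↔ ∀ z ∈ stabilizer F x, ψ z = 1 := by
  rw [Sees, stab_out]

/-- The orbits seeing the character. -/
abbrev NSet : Type _ := {O : ZO d X // Sees d X ψ O}

variable {d X ψ}

theorem nset_exists (O : NSet d X ψ) : ∃ (x : X) (hx : Sees d X ψ (Quotient.mk'' (toEX d x))),
    O = ⟨Quotient.mk'' (toEX d x), hx⟩ := by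
  obtain ⟨O, hO⟩ := O
  induction O using Quotient.inductionOn' with
  | h x => exact ⟨x, hO, rfl⟩

theorem sees_iff (x : X) : Sees d X ψ (Quotient.mk'' (toEX d x)) ↔ ∀ z, tv d.e z • x = x → ψ z = 1 := by
  rw [sees_mk]; rfl

variable (d X ψ)

/-- The action of an element fixing the first vector on the orbits. -/
noncomputable def cmap {g : Matrix.symplecticGroup (Fin m) F} (hg : g • d.e = d.e) : ZO d X → ZO d X :=
  Quotient.map' (act d X g) fun x y hxy => by
    rw [orbitRel_apply] at hxy ⊢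
    obtain ⟨z, rfl⟩ := hxy
    refine ⟨z, ?_⟩
    change z +ᵥ _ = act d X g (z +ᵥ y)
    rw [vadd_eq, vadd_eq, act_mul, act_mul, tv_comm_of_fix hg]

theorem sees_cmap {g : Sp} (hg : g • d.e = d.e) {O : ZO d X} (hO : Sees d X ψ O) :
    Sees d X ψ (cmap d X hg O) := by
  induction O using Quotient.inductionOn' with
  | h x =>
    rw [sees_mk] at hO
    rw [show cmap d X hg (Quotient.mk'' x) = Quotient.mk'' (act d X g x) from rfl, sees_mk]
    intro z hz
    refine hO z (mem_stabilizer_iff.2 (act_injective d X g ?_))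
    rw [vadd_eq, act_mul, tv_comm_of_fix hg, ← act_mul]
    exact mem_stabilizer_iff.1 hz

/-- The action of an element fixing the first vector on the orbits seeing the character. -/
noncomputable def nmap {g : Matrix.symplecticGroup (Fin m) F} (hg : g • d.e = d.e) (O : NSet d X ψ) : NSet d X ψ :=
  ⟨cmap d X hg O.1, sees_cmap d X ψ hg O.2⟩

theorem tv_mk (z : F) (x : X) :
    (Quotient.mk'' (toEX d (tv d.e z • x)) : ZO d X) = Quotient.mk'' (toEX d x) :=
  Quotient.sound' (orbitRel_apply.2 ⟨z, rfl⟩)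

theorem sh_fix (a : d.W) : sh d.e (a : V) • d.e = d.e := by
  rw [sh_smul (d.We a), d.We a, form_self, zero_smul, zero_smul, add_zero, add_zero]

noncomputable instance : AddAction d.W (NSet d X ψ) where
  vadd a := nmap d X ψ (sh_fix d a)
  zero_vadd O := by
    obtain ⟨x, hx, rfl⟩ := nset_exists O
    refine Subtype.ext ?_
    change Quotient.mk'' (toEX d (sh d.e ((0 : d.W) : V) • x)) = _
    rw [Submodule.coe_zero, sh_zero, one_smul]
  add_vadd a b O := by
    obtain ⟨x, hx, rfl⟩ := nset_exists O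
    refine Subtype.ext ?_
    change (Quotient.mk'' (toEX d (sh d.e ((a + b : d.W) : V) • x)) : ZO d X) =
      Quotient.mk'' (toEX d (sh d.e (a : V) • sh d.e (b : V) • x))
    rw [← mul_smul (sh d.e (a : V)), sh_mul (d.We a) (d.We b), mul_smul, tv_mk, Submodule.coe_add]

variable {d X ψ}

theorem vadd_mk (a : d.W) (x : X) (hx : Sees d X ψ (Quotient.mk'' (toEX d x))) :
    ((a +ᵥ (⟨Quotient.mk'' (toEX d x), hx⟩ : NSet d X ψ)).1 : ZO d X) =
      Quotient.mk'' (toEX d (sh d.e (a : V) • x)) := rfl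

theorem mk_eq_iff {x y : X} : (Quotient.mk'' (toEX d x) : ZO d X) = Quotient.mk'' (toEX d y) ↔
    ∃ z, x = tv d.e z • y := by
  refine ⟨fun h => ?_, fun ⟨z, hz⟩ => hz ▸ tv_mk d X z y⟩
  obtain ⟨z, hz⟩ := orbitRel_apply.1 (Quotient.eq''.1 h)
  exact ⟨z, hz.symm⟩

theorem mem_stab_mk {a : d.W} {x : X} {hx : Sees d X ψ (Quotient.mk'' (toEX d x))} :
    a ∈ stabilizer d.W (⟨Quotient.mk'' (toEX d x), hx⟩ : NSet d X ψ) ↔
      ∃ z, sh d.e (a : V) • x = tv d.e z • x := by
  rw [mem_stabilizer_iff, Subtype.ext_iff, vadd_mk, mk_eq_iff]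

/-- The pairing on the orthogonal space. -/
def pairW (d : HPair m F) : d.W →+ d.W →+ F :=
  AddMonoidHom.mk' (fun a => AddMonoidHom.mk' (fun v => form (a : Fin m ⊕ Fin m → F) (v : Fin m ⊕ Fin m → F))
    fun v w => form_add_right _ _ _) fun a b => AddMonoidHom.ext fun v => by simp [form_add_left]

theorem pairW_apply (a v : d.W) : pairW d a v = form (a : V) (v : V) := rfl

theorem pairW_perfect {φ : AddChar F ℂ} (hφ : φ ≠ 0) : Perfect (pairW d) φ := by
  refine ⟨fun v h => ?_, rfl⟩
  by_contra hv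
  obtain ⟨u, huW, hu⟩ := d.nondeg_W v v.2 (fun e => hv (Subtype.ext e))
  obtain ⟨x, hx⟩ := AddChar.ne_one_iff.1 hφ
  apply hx
  have := h ⟨(x / form u (v : V)) • u, d.W.smul_mem _ huW⟩
  rwa [pairW_apply, form_smul_left, div_mul_cancel₀ _ (fun e => hu (form_zero_swap e))] at this

theorem stab_iso (O : NSet d X ψ) {a b : d.W} (ha : a ∈ stabilizer d.W O) (hb : b ∈ stabilizer d.W O) :
    ψ (2 * form (a : V) (b : V)) = 1 := by
  obtain ⟨x, hx, rfl⟩ := nset_exists O
  obtain ⟨z1, hz1⟩ := mem_stab_mk.1 ha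
  obtain ⟨z2, hz2⟩ := mem_stab_mk.1 hb
  have hca := sh_tv_comm (d.We a)
  have hcb := sh_tv_comm (d.We b)
  have e1 : (sh d.e (b : V) * sh d.e (a : V)) • x = tv d.e (z1 + z2) • x := by
    rw [mul_smul, hz1, ← mul_smul, ← (hcb z1).eq, mul_smul, hz2, ← mul_smul, tv_add]
  have e2 : (sh d.e (a : V) * sh d.e (b : V)) • x = tv d.e (z1 + z2) • x := by
    rw [mul_smul, hz2, ← mul_smul, ← (hca z2).eq, mul_smul, hz1, ← mul_smul, tv_add, add_comm]
  rw [sh_mul (d.We b) (d.We a), add_comm (b : V), mul_smul] at e1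
  rw [sh_mul (d.We a) (d.We b), mul_smul] at e2
  have e3 : sh d.e ((a : V) + b) • x = tv d.e (-form (b : V) (a : V) + (z1 + z2)) • x := by
    rw [← tv_add, mul_smul, ← e2, ← mul_smul, tv_add, neg_add_cancel, tv_zero, one_smul]
  rw [e3, ← mul_smul, tv_add, ← add_assoc, add_comm _ (z1 + z2), ← tv_add, mul_smul] at e1
  have h := (sees_iff x).1 hx _ (MulAction.injective _ e1)
  rwa [form_swap (b : V), neg_neg, ← two_mul] at h

theorem nmap_vadd {g : Sp} (hg : g ∈ d.Lv) (a : d.W) (O : NSet d X ψ) :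
    nmap d X ψ (MulAction.mem_stabilizer_iff.1 hg.1) (a +ᵥ O) =
      d.lev hg a +ᵥ nmap d X ψ (MulAction.mem_stabilizer_iff.1 hg.1) O := by
  obtain ⟨x, hx, rfl⟩ := nset_exists O
  refine Subtype.ext ?_
  change (Quotient.mk'' (toEX d (g • sh d.e (a : V) • x)) : ZO d X) =
    Quotient.mk'' (toEX d (sh d.e (g • (a : V)) • g • x))
  have h := sh_conj g (d.We a)
  rw [MulAction.mem_stabilizer_iff.1 hg.1, mul_inv_eq_iff_eq_mul] at h
  rw [← mul_smul g, h, mul_smul]

/-- The permutation given by an element of the stabiliser of the pair. -/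
noncomputable def nperm (ψ : AddChar F ℂ) {g : Matrix.symplecticGroup (Fin m) F} (hg : g ∈ d.Lv) :
    Equiv.Perm (NSet d X ψ) :=
  Equiv.ofBijective (nmap d X ψ (MulAction.mem_stabilizer_iff.1 hg.1)) <| Finite.injective_iff_bijective.1 fun O O' h => by
    obtain ⟨x, hx, rfl⟩ := nset_exists O
    obtain ⟨y, hy, rfl⟩ := nset_exists O'
    obtain ⟨z, hz⟩ := mk_eq_iff.1 (congrArg Subtype.val h)
    change g • x = tv d.e z • g • y at hz
    rw [← mul_smul, ← tv_comm_of_fix (MulAction.mem_stabilizer_iff.1 hg.1), mul_smul] at hz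
    exact Subtype.ext (mk_eq_iff.2 ⟨z, MulAction.injective g hz⟩)

theorem nperm_mk {g : Sp} (hg : g ∈ d.Lv) (x : X) (hx : Sees d X ψ (Quotient.mk'' (toEX d x))) :
    (nperm ψ hg (⟨Quotient.mk'' (toEX d x), hx⟩ : NSet d X ψ)).1 = Quotient.mk'' (toEX d (g • x)) := rfl

/-- An element of the stabiliser of the pair permutes the orbits of the radical. -/
theorem orbit_perm (φ : AddChar F ℂ) {g : Sp} (hg : g ∈ d.Lv) :
    ∃ σ : AOrb (M := d.W) (NSet d X ψ) ≃ AOrb (M := d.W) (NSet d X ψ),
      (∀ O, σ (Quotient.mk'' O) = Quotient.mk'' (nperm ψ hg O)) ∧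
        ∀ o v, d.lev hg v ∈ wtB (pairW d) φ (σ o) ↔ v ∈ wtB (pairW d) φ o :=
  exists_orbit_perm (nperm ψ hg) (d.lev hg) (d.lev hg) (fun w y => nmap_vadd hg w y)
    (fun w v => by rw [pairW_apply, pairW_apply, d.lev_apply, d.lev_apply, form_smul_smul])

theorem nwt_const (φ : AddChar F ℂ) {v v' : d.W} (hv : v ≠ 0) (hv' : v' ≠ 0) :
    nwtB (Y := NSet d X ψ) (pairW d) φ v' = nwtB (Y := NSet d X ψ) (pairW d) φ v := by
  have h0 : ∀ {v : d.W}, v ≠ 0 → ∃ w ∈ d.W, form (v : V) w ≠ 0 := fun {v} hv =>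
    d.nondeg_W v v.2 fun e => hv (Subtype.ext e)
  obtain ⟨g, hg, e⟩ := exists_tvGroup_smul v.2 v'.2 (h0 hv) (h0 hv')
  obtain ⟨σ, -, hσ⟩ := orbit_perm (X := X) (ψ := ψ) φ (d.tvGroup_le hg)
  have e' : d.lev (d.tvGroup_le hg) v = v' := Subtype.ext e
  rw [← e']
  exact (Nat.card_congr (σ.subtypeEquiv fun o => (hσ o v).symm)).symm

/-- The pairing of the scalars. -/
def pairF (F : Type*) [Field F] : F →+ F →+ F := AddMonoidHom.mul

theorem pairF_perfect {φ : AddChar F ℂ} (hφ : φ ≠ 0) : Perfect (pairF F) φ := by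
  refine ⟨fun v h => ?_, rfl⟩
  by_contra hv
  obtain ⟨x, hx⟩ := AddChar.ne_one_iff.1 hφ
  apply hx
  have := h (x / v)
  rwa [show pairF F (x / v) v = x / v * v from rfl, div_mul_cancel₀ _ hv] at this

theorem q_mul_le {B : ℕ} (h : ∀ φ : AddChar F ℂ, φ ≠ 0 → B ≤ Nat.card (NSet d X φ)) :
    Nat.card F * B ≤ Nat.card X := by
  haveI := Fintype.ofFinite F
  obtain ⟨φ, hφ⟩ : ∃ φ : AddChar F ℂ, φ ≠ 0 := by
    obtain ⟨φ, hφ⟩ := AddChar.exists_apply_ne_zero.2 (one_ne_zero (α := F))
    exact ⟨φ, fun e => hφ (by rw [e]; rfl)⟩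
  rw [show Nat.card X = Nat.card (EX d X) from rfl, card_eq_sum_nwtB (Y := EX d X) (pairF_perfect hφ),
    Nat.card_eq_fintype_card, ← Finset.card_univ, ← smul_eq_mul, ← Finset.sum_const]
  refine Finset.sum_le_sum fun c _ => ?_
  rcases eq_or_ne c 0 with rfl | hc
  · rw [nwtB_zero]
    exact le_trans (h φ hφ) (Nat.card_le_card_of_injective _ Subtype.val_injective)
  have hne : φ.mulShift c ≠ 0 := fun e => by
    obtain ⟨x, hx⟩ := AddChar.ne_one_iff.1 hφ
    have := DFunLike.congr_fun e (x / c)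
    rw [AddChar.mulShift_apply, mul_div_cancel₀ _ hc] at this
    exact hx this
  refine le_trans (h _ hne) (le_of_eq (Nat.card_congr (Equiv.subtypeEquivRight fun O => ?_)))
  refine ⟨fun hO z hz => ?_, fun hO z hz => ?_⟩
  · have := hO z hz; rwa [AddChar.mulShift_apply, mul_comm] at this
  · rw [AddChar.mulShift_apply, mul_comm]; exact hO z hz

end CfsgLib.MinIdxPSp
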